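import Groth.Agent.FormalSysLib.Left

/-!
# Finite powers of coherent modules and inverses up to bounded torsion
-/

set_option autoImplicit false

universe u

open CategoryTheory CategoryTheory.Limits AlgebraicGeometry TopologicalSpace Opposite
open Groth.Agent.CohBase Groth.Agent.ProjCoh Groth.Agent.QCohLib

noncomputable section

namespace Groth.Agent.FormalSys

/-- A finite power, described on sections. -/
structure Power {X : Scheme.{u}} (G : X.Modules) (r : ℕ) where
  /-- The object. -/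
  obj : X.Modules
  /-- The projections. -/
  pr : Fin r → (obj ⟶ G)
  lift : ∀ {T : X.Modules} (g : Fin r → (T ⟶ G)), ∃ l : T ⟶ obj, ∀ i, l ≫ pr i = g i
  ext : ∀ {U : X.Opens} {f f' : Γ(obj, U)}, (∀ i, (pr i).app U f = (pr i).app U f') → f = f'
  mem : ∀ {U : X.Opens} (g : Fin r → Γ(G, U)), ∃ f : Γ(obj, U), ∀ i, (pr i).app U f = g i

/-- Powers exist. -/
theorem exists_power {X : Scheme.{u}} [IsLocallyNoetherian X] (G : X.Modules) (hG : Coh.IsCoh G) (r : ℕ) :
    ∃ P : Power G r, Coh.IsCoh P.obj := by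
  induction r with
  | zero =>
    refine ⟨⟨kernel (𝟙 G), fun i => i.elim0, fun g => ⟨0, fun i => i.elim0⟩, fun {U f f'} _ => ?_,
      fun g => ⟨0, fun i => i.elim0⟩⟩, (isCoh_kernel_cokernel (𝟙 G) hG hG).1⟩
    refine app_injective_of_mono (kernel.ι (𝟙 G)) U ?_
    exact (congr($(kernel.condition (𝟙 G)).app U f)).trans (congr($(kernel.condition (𝟙 G)).app U f')).symm
  | succ r ih =>
    obtain ⟨P, hP⟩ := ih
    obtain ⟨Q, hQ⟩ := exists_fork (0 : G ⟶ G) (0 : P.obj ⟶ G) hG hP hG
    refine ⟨⟨Q.obj, Fin.cons Q.fst (fun i => Q.snd ≫ P.pr i), fun g => ?_, fun {U f f'} h => ?_,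
      fun {U} g => ?_⟩, hQ⟩
    · obtain ⟨l, hl⟩ := P.lift (fun i => g i.succ)
      obtain ⟨m, hm1, hm2⟩ := Q.lift (g 0) l (by rw [comp_zero, comp_zero])
      refine ⟨m, Fin.cases hm1 fun i => ?_⟩
      rw [Fin.cons_succ, ← Category.assoc, hm2, hl]
    · exact Q.ext (h 0) (P.ext fun i => h i.succ)
    · obtain ⟨l, hl⟩ := P.mem (fun i => g i.succ)
      obtain ⟨m, hm1, hm2⟩ := Q.mem (g 0) l rfl
      refine ⟨m, Fin.cases hm1 fun i => ?_⟩
      rw [Fin.cons_succ, app_comp_apply, hm2, hl]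

/-- Sections of a power lie in `J • ⊤` when their components do. -/
theorem Power.mem_smul_top {X : Scheme.{u}} {G : X.Modules} {r : ℕ} (P : Power G r) {U : X.Opens}
    (J : Ideal Γ(X, U)) (f : Γ(P.obj, U))
    (h : ∀ i, (P.pr i).app U f ∈ J • (⊤ : Submodule Γ(X, U) Γ(G, U))) :
    f ∈ J • (⊤ : Submodule Γ(X, U) Γ(P.obj, U)) := by
  classical
  choose e he using fun i => P.lift (fun j => if j = i then 𝟙 G else 0)
  have hf : f = ∑ i, (e i).app U ((P.pr i).app U f) := P.ext fun j => by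
    rw [map_sum, Finset.sum_eq_single j]
    · rw [← app_comp_apply (e j), he, if_pos rfl]; rfl
    · intro b _ hb
      rw [← app_comp_apply (e b), he, if_neg (fun hh => hb hh.symm)]; rfl
    · simp
  rw [hf]
  refine Submodule.sum_mem _ fun i _ => ?_
  have := Submodule.mem_map_of_mem (f := appLinear (e i) U) (h i)
  rw [Submodule.map_smul''] at this
  exact Submodule.smul_mono le_rfl le_top this

variable {A : Type u} [CommRing A] {X : Scheme.{u}} [X.Over (Spec (CommRingCat.of A))]
  [AlgebraicGeometry.IsNoetherian X]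

/-- An inverse up to multiplication by `a a'`. -/
theorem exists_inverse {M N : X.Modules} (f : M ⟶ N) (hM : Coh.IsQCoh M) (hN : Coh.IsQCoh N) {J : Ideal A}
    (hk : Formal.KilledBy J (kernel f)) (hc : Formal.KilledBy J (cokernel f)) {a a' : A} (ha : a ∈ J) (ha' : a' ∈ J) :
    ∃ ψ : N ⟶ M, ∀ (U : X.Opens) (x : Γ(N, U)) (y : Γ(M, U)),
      f.app U y = φV (FormalLib.cst A X) U a • x → ψ.app U x = φV (FormalLib.cst A X) U a' • y := by
  obtain ⟨j, hj⟩ : ∃ j, j ≫ Abelian.image.ι f = Formal.smulMod A N a :=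
    ⟨kernel.lift (cokernel.π f) (Formal.smulMod A N a) (by
      rw [FormalLib.smulMod_natural, hc a ha, comp_zero]), kernel.lift_ι _ _ _⟩
  let e : M ⟶ Abelian.image f := Abelian.factorThruImage f
  haveI : Epi e := inferInstanceAs (Epi (Abelian.factorThruImage f))
  have hef : e ≫ Abelian.image.ι f = f := Abelian.image.fac f
  obtain ⟨d, hd⟩ := exists_desc_of_epi e (Formal.smulMod A M a') (by
    obtain ⟨l, hl⟩ : ∃ l, l ≫ kernel.ι f = kernel.ι e :=
      ⟨kernel.lift f (kernel.ι e) ((congrArg (kernel.ι e ≫ ·) hef.symm).trans ((kernel.condition_assoc e _).trans zero_comp)),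
        kernel.lift_ι _ _ _⟩
    rw [← hl, Category.assoc, ← FormalLib.smulMod_natural, hk a' ha', zero_comp, comp_zero])
  refine ⟨j ≫ d, fun U x y h => ?_⟩
  have h1 : j.app U x = e.app U y := by
    refine app_injective_of_mono (Abelian.image.ι f) U ?_
    rw [← app_comp_apply, ← app_comp_apply, hef, hj, h]
    rfl
  rw [app_comp_apply, h1, ← app_comp_apply, hd]
  rfl

/-- An epimorphism can be detected on an affine cover, for a quasi-coherent target. -/
theorem epi_of_cover {M N : X.Modules} [Coh.IsQCoh N] (f : M ⟶ N) {ι : Type u} (V : ι → X.Opens)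
    (hV : ∀ i, IsAffineOpen (V i)) (hcov : ⊤ ≤ iSup V) (h : ∀ i, Function.Surjective (f.app (V i))) : Epi f := by
  refine ⟨fun {T} g g' hg => sub_eq_zero.1 (hom_zero_of_cover (g - g') V hV hcov fun i s => ?_)⟩
  obtain ⟨t, rfl⟩ := h i s
  show g.app (V i) (f.app (V i) t) - g'.app (V i) (f.app (V i) t) = 0
  rw [sub_eq_zero]
  exact congr($(hg).app (V i) t)

/-- Equality of maps out of a quasi-coherent module can be checked on an affine cover. -/
theorem hom_ext_cover {M N : X.Modules} [Coh.IsQCoh M] {f g : M ⟶ N} {ι : Type u} (V : ι → X.Opens)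
    (hV : ∀ i, IsAffineOpen (V i)) (hcov : ⊤ ≤ iSup V) (h : ∀ i s, f.app (V i) s = g.app (V i) s) : f = g :=
  sub_eq_zero.1 (hom_zero_of_cover (f - g) V hV hcov fun i s => by
    show f.app (V i) s - g.app (V i) s = 0
    rw [sub_eq_zero]; exact h i s)

end Groth.Agent.FormalSys
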