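import Mathlib
import Groth.Agent.QCohLib.Criterion

/-!
# Charts adapted to a valuation, for a proper map which is an isomorphism over an open
-/

set_option autoImplicit false
set_option backward.isDefEq.respectTransparency false
set_option linter.unusedSectionVars false
set_option linter.style.haveILetI false

universe u

open CategoryTheory CategoryTheory.Limits AlgebraicGeometry TopologicalSpace Opposite

noncomputable section

namespace Groth.Agent.FormalSys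

/-- A morphism from a spectrum through an affine open, on sections. -/
theorem appLE_specMap_fromSpec {Y : Scheme.{u}} {U : Y.Opens} (hU : IsAffineOpen U) {V : CommRingCat.{u}}
    (φ : Γ(Y, U) ⟶ V) (e : ⊤ ≤ (Spec.map φ ≫ hU.fromSpec) ⁻¹ᵁ U) :
    (Spec.map φ ≫ hU.fromSpec).appLE U ⊤ e ≫ (Scheme.ΓSpecIso V).hom = φ := by
  rw [← Scheme.Hom.appLE_comp_appLE (Spec.map φ) hU.fromSpec U ⊤ ⊤ hU.fromSpec_preimage_self.ge le_top,
    Scheme.Hom.appLE, hU.fromSpec_app_self]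
  simp only [Category.assoc]
  rw [← Functor.map_comp_assoc]
  have : (Spec.map φ).appLE ⊤ ⊤ le_top = (Spec.map φ).appTop := by
    rw [Scheme.Hom.appTop, Scheme.Hom.app_eq_appLE]
    rfl
  rw [this, Scheme.ΓSpecIso_naturality]
  rw [show (Spec Γ(Y, U)).presheaf.map ((eqToHom hU.fromSpec_preimage_self).op ≫ (homOfLE hU.fromSpec_preimage_self.ge).op) = 𝟙 _ from
    (congrArg _ (Subsingleton.elim _ (𝟙 _))).trans ((Spec Γ(Y, U)).presheaf.map_id _), Category.id_comp,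
    Iso.inv_hom_id_assoc]

/-- Over an open where the map is an isomorphism, the map on functions is bijective. -/
theorem app_bijective_of_le {X Y : Scheme.{u}} (f : X ⟶ Y) {O D : Y.Opens} [IsIso (f ∣_ O)] (h : D ≤ O) :
    Function.Bijective (f.app D) := by
  have e : O.ι ''ᵁ (O.ι ⁻¹ᵁ D) = D := by
    rw [Scheme.Hom.image_preimage_eq_opensRange_inf, Scheme.Opens.opensRange_ι, inf_eq_right.2 h]
  have h1 : IsIso ((f ∣_ O).app (O.ι ⁻¹ᵁ D)) := inferInstance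
  rw [morphismRestrict_app] at h1
  haveI := h1
  have h2 : IsIso (f.app (O.ι ''ᵁ (O.ι ⁻¹ᵁ D))) := IsIso.of_isIso_comp_right (f.app (O.ι ''ᵁ (O.ι ⁻¹ᵁ D)))
    (X.presheaf.map (eqToHom (image_morphismRestrict_preimage f O (O.ι ⁻¹ᵁ D))).op)
  rw [e] at h2
  exact ConcreteCategory.bijective_of_isIso (f.app D)

/-- Two points over the good open with the same image are equal. -/
theorem eq_of_app_eq {X Y : Scheme.{u}} (f : X ⟶ Y) {O : Y.Opens} [IsIso (f ∣_ O)] {x x' : X} (hx : f x ∈ O)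
    (h : f x = f x') : x = x' := by
  have hx' : f x' ∈ O := h ▸ hx
  have hinj : Function.Injective (f ∣_ O) := (ConcreteCategory.bijective_of_isIso (f ∣_ O).base).1
  have h2 : (f ∣_ O) ⟨x, hx⟩ = (f ∣_ O) ⟨x', hx'⟩ := by
    refine Subtype.ext ?_
    exact (morphismRestrict_base_coe f O ⟨x, hx⟩).trans (h.trans (morphismRestrict_base_coe f O ⟨x', hx'⟩).symm)
  exact congrArg Subtype.val (hinj h2)

/-- A chart for a valuation centred on the base. -/
theorem exists_chart {X Y : Scheme.{u}} (f : X ⟶ Y) [IsProper f] (O : Y.Opens) [IsIso (f ∣_ O)] {U : Y.Opens}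
    (hU : IsAffineOpen U) (a : Γ(Y, U)) (ha : Y.basicOpen a ≤ O) {V K : Type u} [CommRing V] [IsDomain V]
    [ValuationRing V] [Field K] [Algebra V K] [IsFractionRing V K] (θ : Γ(Y, U) →+* V) (hθ : θ a ≠ 0) :
    ∃ (W : X.Opens) (hW : W ≤ f ⁻¹ᵁ U) (σ : Γ(X, W) →+* V) (e : Γ(Y, U)), IsAffineOpen W ∧
      (∀ b, σ (f.appLE U W hW b) = θ b) ∧ θ e ≠ 0 ∧ f ⁻¹ᵁ Y.basicOpen e ≤ W ∧ Y.basicOpen e ≤ Y.basicOpen a := by
  let φ : Γ(Y, U) ⟶ CommRingCat.of V := CommRingCat.ofHom θ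
  let ψ : CommRingCat.of V ⟶ CommRingCat.of K := CommRingCat.ofHom (algebraMap V K)
  let i₂ : Spec (CommRingCat.of V) ⟶ Y := Spec.map φ ≫ hU.fromSpec
  let g₀ : Spec (CommRingCat.of K) ⟶ Y := Spec.map ψ ≫ i₂
  let η : Spec (CommRingCat.of K) := ⟨⊥, Ideal.isPrime_bot⟩
  have hinjVK : Function.Injective (algebraMap V K) := IsFractionRing.injective V K
  have hbasic : ∀ b : Γ(Y, U), θ b ≠ 0 → ∀ p : Spec (CommRingCat.of K), g₀ p ∈ Y.basicOpen b := by
    intro b hb p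
    show Spec.map ψ p ∈ Spec.map φ ⁻¹ᵁ (hU.fromSpec ⁻¹ᵁ Y.basicOpen b)
    rw [hU.fromSpec_preimage_basicOpen b]
    intro hmem
    refine hb (hinjVK ?_)
    rw [map_zero]
    have h1 : algebraMap V K (θ b) ∈ p.asIdeal := hmem
    rwa [(p.asIdeal.eq_bot_or_top).resolve_right p.2.ne_top, Ideal.mem_bot] at h1
  have hg₀ : g₀ ⁻¹ᵁ O = ⊤ := top_le_iff.1 fun p _ => ha (hbasic a hθ p)
  let g₁ : Spec (CommRingCat.of K) ⟶ O := IsOpenImmersion.lift O.ι g₀ (by
    rintro _ ⟨p, rfl⟩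
    rw [Scheme.Opens.range_ι]
    exact ha (hbasic a hθ p))
  have hg₁ : g₁ ≫ O.ι = g₀ := IsOpenImmersion.lift_fac _ _ _
  let i₁ : Spec (CommRingCat.of K) ⟶ X := g₁ ≫ inv (f ∣_ O) ≫ (f ⁻¹ᵁ O).ι
  have hsq : CommSq i₁ (Spec.map ψ) f i₂ := ⟨by
    simp only [i₁, Category.assoc]
    rw [← morphismRestrict_ι, IsIso.inv_hom_id_assoc, hg₁]⟩
  have hval : ValuativeCriterion.Existence f := by
    have h : UniversallyClosed f := inferInstance
    rw [UniversallyClosed.eq_valuativeCriterion] at h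
    exact h.1
  obtain ⟨⟨l, hl₁, hl₂⟩⟩ := (hval ⟨V, K, i₁, i₂, hsq⟩).exists_lift
  let c : Spec (CommRingCat.of V) := IsLocalRing.closedPoint V
  have hcU : ∀ p : Spec (CommRingCat.of V), i₂ p ∈ U := fun p => by
    show hU.fromSpec (Spec.map φ p) ∈ U
    exact hU.range_fromSpec.le ⟨_, rfl⟩
  have hlU : ∀ p, l p ∈ f ⁻¹ᵁ U := fun p => by
    show f (l p) ∈ U
    rw [show f (l p) = i₂ p from congr($hl₂ p)]
    exact hcU p
  obtain ⟨_, ⟨W, hWaff, rfl⟩, hcW, hWU⟩ :=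
    X.isBasis_affineOpens.exists_subset_of_mem_open (a := l c) (hlU c) (f ⁻¹ᵁ U).2
  have htop : ⊤ ≤ l ⁻¹ᵁ W := fun p _ =>
    (IsLocalRing.specializes_closedPoint p).mem_open (l ⁻¹ᵁ W).2 hcW
  let σ₀ : Γ(X, W) ⟶ CommRingCat.of V := l.appLE W ⊤ htop ≫ (Scheme.ΓSpecIso _).hom
  have hσ : f.appLE U W hWU ≫ σ₀ = φ := by
    have e2 : ⊤ ≤ i₂ ⁻¹ᵁ U := fun p _ => hcU p
    simp only [σ₀]
    rw [← Category.assoc, Scheme.Hom.appLE_comp_appLE]
    refine Eq.trans ?_ (appLE_specMap_fromSpec hU φ e2)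
    congr 1
    simp only [hl₂]
    rfl
  -- the open of the base
  let Z : Set Y := f '' (W : Set X)ᶜ
  have hZ : IsClosed Z := f.isClosedMap _ W.2.isClosed_compl
  let y₀ : Y := g₀ η
  have hy₀a : y₀ ∈ Y.basicOpen a := hbasic a hθ η
  have hy₀Z : y₀ ∉ Z := by
    rintro ⟨x, hxW, hx⟩
    have h0 : f (i₁ η) = y₀ := congr($hsq.w η)
    have hxy : i₁ η = x := eq_of_app_eq f (O := O) (by rw [h0]; exact ha hy₀a) (h0.trans hx.symm)
    refine hxW (hxy ▸ ?_)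
    rw [show i₁ η = l (Spec.map ψ η) from congr($hl₁ η).symm]
    exact htop trivial
  obtain ⟨e, he, hye⟩ := hU.exists_basicOpen_le (V := Y.basicOpen a ⊓ ⟨Zᶜ, hZ.isOpen_compl⟩) ⟨y₀, hy₀a, hy₀Z⟩
    (hcU (Spec.map ψ η))
  refine ⟨W, hWU, σ₀.hom, e, hWaff, fun b => congr($hσ b), fun h0 => ?_, fun x hx => ?_, he.trans inf_le_left⟩
  · have h1 : Spec.map ψ η ∈ Spec.map φ ⁻¹ᵁ (hU.fromSpec ⁻¹ᵁ Y.basicOpen e) := hye
    rw [hU.fromSpec_preimage_basicOpen e] at h1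
    refine h1 ?_
    show algebraMap V K (θ e) ∈ η.asIdeal
    rw [h0, map_zero]
    exact zero_mem _
  · by_contra hxW
    exact (he hx).2 ⟨x, hxW, rfl⟩

end Groth.Agent.FormalSys
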