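import Groth.Agent.FormalLib.ModPow
import Groth.Agent.FormalLib.ProperSupport
import Groth.Agent.QCohLib.Push
import Groth.Prelude.Def_Formal2

/-!
# Formal modules on a Noetherian scheme over an arbitrary ring, on affine opens
-/

set_option autoImplicit false

universe u

open CategoryTheory CategoryTheory.Limits AlgebraicGeometry TopologicalSpace Opposite
open Groth.Agent.CohBase Groth.Agent.ProjCoh Groth.Agent.QCohLib

noncomputable section

namespace Groth.Agent.FormalSys

section Basic

variable {X : Scheme.{u}} {M N P : X.Modules}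

/-- Two maps agreeing on affine opens are equal. -/
theorem hom_ext_affine {f g : M ⟶ N} (h : ∀ U : X.Opens, IsAffineOpen U → ∀ s, f.app U s = g.app U s) :
    f = g := by
  refine Scheme.Modules.hom_ext _ _ fun V => AddCommGrpCat.hom_ext (AddMonoidHom.ext fun s => ?_)
  refine eq_of_cover N (W := fun W : {W : X.affineOpens // W.1 ≤ V} => W.1.1) (fun W => W.2) (fun x hx => ?_)
    _ _ fun W => ?_
  · obtain ⟨_, ⟨U, hU, rfl⟩, hxU, hUV⟩ := X.isBasis_affineOpens.exists_subset_of_mem_open (a := x) hx V.2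
    exact Opens.mem_iSup.2 ⟨⟨⟨U, hU⟩, hUV⟩, hxU⟩
  · show N.presheaf.map _ (f.app V s) = N.presheaf.map _ (g.app V s)
    rw [← app_res, ← app_res]
    exact h _ W.1.2 _

theorem epi_of_affine (f : M ⟶ N) (h : ∀ U : X.Opens, IsAffineOpen U → Function.Surjective (f.app U)) :
    Epi f := by
  refine ⟨fun {T} g g' hg => hom_ext_affine fun U hU s => ?_⟩
  obtain ⟨t, rfl⟩ := h U hU s
  exact congr($(hg).app U t)

theorem app_injective_of_mono (f : M ⟶ N) [Mono f] (U : X.Opens) : Function.Injective (f.app U) := by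
  haveI := (toAbF X).map_mono f
  exact sections_injective ((toAbF X).map f) U

/-- Epimorphisms of quasi-coherent modules are surjective on affine opens. -/
theorem app_surjective_of_epi (f : M ⟶ N) [Epi f] (hM : Coh.IsQCoh M) (hN : Coh.IsQCoh N)
    {U : X.Opens} (hU : IsAffineOpen U) : Function.Surjective (f.app U) := by
  intro s
  obtain ⟨hs, hk⟩ := FormalLib.cokernel_app f hM hN hU
  exact hk s congr($(cokernel.π_of_epi f).app U s)

lemma app_comp_apply (f : M ⟶ N) (g : N ⟶ P) (U : X.Opens) (s : Γ(M, U)) :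
    (f ≫ g).app U s = g.app U (f.app U s) := rfl

end Basic

variable {A : Type u} [CommRing A] {X : Scheme.{u}} [X.Over (Spec (CommRingCat.of A))]

/-- The ideal cut out on an open by an ideal of the base. -/
abbrev JU (J : Ideal A) (U : X.Opens) : Ideal Γ(X, U) := J.map (φV (FormalLib.cst A X) U)

lemma JU_pow (I : Ideal A) (n : ℕ) (U : X.Opens) : JU (I ^ n) U = JU I U ^ n := Ideal.map_pow _ _ _

theorem smul_app_natural {M N : X.Modules} (f : M ⟶ N) (a : A) (U : X.Opens) (s : Γ(M, U)) :
    f.app U (φV (FormalLib.cst A X) U a • s) = φV (FormalLib.cst A X) U a • f.app U s :=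
  Scheme.Modules.Hom.app_smul f _ _

/-- An ideal of the base is generated on all affine opens by finitely many elements. -/
theorem exists_gens [IsNoetherian X] (J : Ideal A) :
    ∃ L : Finset A, (L : Set A) ⊆ J ∧
      ∀ U : X.Opens, IsAffineOpen U → JU J U ≤ Ideal.span (φV (FormalLib.cst A X) U '' (L : Set A)) := by
  classical
  obtain ⟨ι, _, V, hV, -, hcov⟩ := exists_finite_affine_cover (X := X) (V := ⊤) isCompact_univ
  have h1 : ∀ i, ∃ L : Finset A, (L : Set A) ⊆ J ∧
      JU J (V i) ≤ Ideal.span (φV (FormalLib.cst A X) (V i) '' (L : Set A)) := by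
    intro i
    haveI := isNoetherianRing_section (hV i)
    have hfg : (Ideal.span (φV (FormalLib.cst A X) (V i) '' (J : Set A))).FG := IsNoetherian.noetherian _
    obtain ⟨s, hs⟩ := Submodule.fg_span_iff_fg_span_finset_subset _ |>.1 hfg
    choose pre hpre hpre' using fun x : s => (hs.1 x.2)
    refine ⟨Finset.univ.image pre, fun x hx => ?_, ?_⟩
    · simp only [Finset.coe_image, Finset.coe_univ, Set.image_univ, Set.mem_range] at hx
      obtain ⟨y, rfl⟩ := hx
      exact hpre y
    · refine le_trans (le_of_eq hs.2) (Ideal.span_mono fun x hx => ?_)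
      exact ⟨pre ⟨x, hx⟩, by simp, hpre' ⟨x, hx⟩⟩
  choose L hLJ hL using h1
  refine ⟨Finset.univ.biUnion L, fun x hx => ?_, fun U hU => ?_⟩
  · simp only [Finset.coe_biUnion, Finset.coe_univ, Set.mem_univ, Set.iUnion_true, Set.mem_iUnion] at hx
    obtain ⟨i, hi⟩ := hx
    exact hLJ i hi
  refine Ideal.map_le_iff_le_comap.2 fun x hx => ?_
  rw [Ideal.mem_comap]
  set T := Ideal.span (φV (FormalLib.cst A X) U '' ((Finset.univ.biUnion L : Finset A) : Set A)) with hT
  let F : Set Γ(X, U) := {f | ∃ i, X.basicOpen f ≤ V i}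
  have hF : Ideal.span F = ⊤ := by
    rw [← hU.self_le_iSup_basicOpen_iff]
    intro z hz
    obtain ⟨i, hi⟩ := Opens.mem_iSup.1 (hcov (show z ∈ (⊤ : X.Opens) from trivial))
    obtain ⟨f, hf, hzf⟩ := hU.exists_basicOpen_le (V := V i) ⟨z, hi⟩ hz
    exact Opens.mem_iSup.2 ⟨⟨f, i, hf⟩, hzf⟩
  refine Submodule.mem_of_span_eq_top_of_smul_pow_mem T F hF _ ?_
  rintro ⟨f, i, hi⟩
  haveI := hU.isLocalization_basicOpen f
  have hmem : algebraMap Γ(X, U) Γ(X, X.basicOpen f) (φV (FormalLib.cst A X) U x) ∈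
      T.map (algebraMap Γ(X, U) Γ(X, X.basicOpen f)) := by
    have h2 : X.presheaf.map (homOfLE hi).op (φV (FormalLib.cst A X) (V i) x) ∈
        (Ideal.span (φV (FormalLib.cst A X) (V i) '' (L i : Set A))).map
          (X.presheaf.map (homOfLE hi).op).hom :=
      Ideal.mem_map_of_mem _ (hL i (Ideal.mem_map_of_mem _ hx))
    rw [res_φV] at h2
    rw [hT, Ideal.map_span]
    show X.presheaf.map (homOfLE (X.basicOpen_le f)).op (φV (FormalLib.cst A X) U x) ∈ _
    rw [res_φV]
    rw [Ideal.map_span] at h2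
    refine Ideal.span_mono ?_ h2
    rintro _ ⟨_, ⟨a, ha, rfl⟩, rfl⟩
    refine ⟨φV (FormalLib.cst A X) U a, ⟨a, ?_, rfl⟩, ?_⟩
    · simpa using ⟨i, ha⟩
    · show X.presheaf.map (homOfLE (X.basicOpen_le f)).op _ = X.presheaf.map (homOfLE hi).op _
      rw [res_φV, res_φV]
  rw [IsLocalization.algebraMap_mem_map_algebraMap_iff (Submonoid.powers f)] at hmem
  obtain ⟨_, ⟨n, rfl⟩, hm⟩ := hmem
  exact ⟨n, hm⟩

variable [IsNoetherian X]

/-- The quotient by an ideal of the base. -/
theorem cokernel_smulFamily (J : Ideal A) (M : X.Modules) (hM : Coh.IsQCoh M) :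
    Coh.IsQCoh (cokernel (Formal.smulFamily J M)) ∧ ∀ {U : X.Opens}, IsAffineOpen U →
      Function.Surjective ((cokernel.π (Formal.smulFamily J M)).app U) ∧
        LinearMap.ker (appLinear (cokernel.π (Formal.smulFamily J M)) U) = JU J U • ⊤ := by
  classical
  obtain ⟨L, hLJ, hL⟩ := exists_gens (X := X) J
  obtain ⟨Q, q, hQ, hq, hkill, huniv, hsec⟩ := FormalLib.exists_quot L M hM
  have hkillJ : ∀ a ∈ J, Formal.smulMod A M a ≫ q = 0 := fun a ha => hom_ext_affine fun U hU s => by
    show q.app U (φV (FormalLib.cst A X) U a • s) = 0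
    have hm := hL U hU (Ideal.mem_map_of_mem (φV (FormalLib.cst A X) U) ha)
    generalize φV (FormalLib.cst A X) U a = r at hm ⊢
    induction hm using Submodule.span_induction with
    | mem r hr =>
      obtain ⟨l, hl, rfl⟩ := hr
      exact congr($(hkill l hl).app U s)
    | zero => rw [zero_smul, map_zero]
    | add r r' _ _ h h' => rw [add_smul, map_add, h, h', add_zero]
    | smul c r _ h => rw [smul_eq_mul, mul_smul, Scheme.Modules.Hom.app_smul, h, smul_zero]
  have h1 : ∀ a ∈ L, Formal.smulMod A M a ≫ cokernel.π (Formal.smulFamily J M) = 0 := fun a ha => by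
    have e : Formal.smulMod A M a =
        Sigma.ι (fun _ : ↥J => M) ⟨a, hLJ ha⟩ ≫ Formal.smulFamily J M := by
      simp [Formal.smulFamily]
    rw [e, Category.assoc, cokernel.condition, comp_zero]
  have h2 : Formal.smulFamily J M ≫ q = 0 := by
    refine Sigma.hom_ext _ _ fun ⟨a, ha⟩ => ?_
    rw [comp_zero, ← Category.assoc, Formal.smulFamily, Sigma.ι_desc]
    exact hkillJ a ha
  obtain ⟨l, hl⟩ := huniv _ _ h1
  have hinv : l ≫ cokernel.desc _ q h2 = 𝟙 _ := by
    rw [← cancel_epi q, ← Category.assoc, hl, cokernel.π_desc, Category.comp_id]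
  have hinv' : cokernel.desc _ q h2 ≫ l = 𝟙 _ := by
    refine coequalizer.hom_ext ?_
    show cokernel.π _ ≫ cokernel.desc _ q h2 ≫ l = cokernel.π _ ≫ 𝟙 _
    rw [cokernel.π_desc_assoc, hl, Category.comp_id]
  refine ⟨(SheafOfModules.isQuasicoherent X.ringCatSheaf).prop_of_iso
    (⟨l, cokernel.desc _ q h2, hinv, hinv'⟩ : Q ≅ _) hQ, fun {U} hU => ?_⟩
  obtain ⟨hs, hk⟩ := hsec U hU
  refine ⟨fun s => ?_, le_antisymm (fun s hs0 => ?_) (Submodule.smul_le.2 fun r hr s _ => ?_)⟩
  · obtain ⟨t, ht⟩ : ∃ t : Γ(M, U), q.app U t = (cokernel.desc _ q h2).app U s :=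
      hs ((cokernel.desc _ q h2).app U s)
    refine ⟨t, ?_⟩
    rw [← hl, app_comp_apply, ht, ← app_comp_apply]
    exact congr($(hinv').app U s)
  · have h0 : q.app U s = 0 := by
      have : (cokernel.π (Formal.smulFamily J M) ≫ cokernel.desc _ q h2).app U s = 0 := by
        rw [app_comp_apply, show (cokernel.π (Formal.smulFamily J M)).app U s = 0 from hs0, map_zero]
      rwa [cokernel.π_desc] at this
    have hmem : toSec (FormalLib.cst A X) s ∈ LinearMap.ker (secMap (FormalLib.cst A X) q U) := h0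
    rw [hk] at hmem
    let e : Sec (FormalLib.cst A X) M U → Γ(M, U) := fun x => x
    show e (toSec (FormalLib.cst A X) s) ∈ JU J U • (⊤ : Submodule Γ(X, U) Γ(M, U))
    refine Submodule.smul_induction_on hmem (fun r hr x _ => ?_) (fun x y hx hy => ?_)
    · show φV (FormalLib.cst A X) U r • e x ∈ _
      exact Submodule.smul_mem_smul (Ideal.mem_map_of_mem _ ((Ideal.span_le (I := J)).2 hLJ hr)) trivial
    · exact add_mem hx hy
  · rw [LinearMap.mem_ker, map_smul]
    have : r • (cokernel.π (Formal.smulFamily J M)).app U s = 0 := by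
      induction hr using Submodule.span_induction with
      | mem r hr =>
        obtain ⟨a, ha, rfl⟩ := hr
        rw [← Scheme.Modules.Hom.app_smul]
        have e : Formal.smulMod A M a =
            Sigma.ι (fun _ : ↥J => M) ⟨a, ha⟩ ≫ Formal.smulFamily J M := by
          simp [Formal.smulFamily]
        show (Formal.smulMod A M a ≫ cokernel.π (Formal.smulFamily J M)).app U s = 0
        rw [e, Category.assoc, cokernel.condition, comp_zero]
        rfl
      | zero => rw [zero_smul]
      | add r r' _ _ h h' => rw [add_smul, h, h', add_zero]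
      | smul c r _ h => rw [smul_eq_mul, mul_smul, h, smul_zero]
    exact this

theorem isCoh_modPow {M : X.Modules} (hM : Coh.IsCoh M) (I : Ideal A) (n : ℕ) :
    Coh.IsCoh (Formal.modPow I n M) := by
  obtain ⟨hQ, hsec⟩ := cokernel_smulFamily (I ^ n) M hM.1
  haveI : Coh.IsQCoh (Formal.modPow I n M) := hQ
  refine isCoh_of_finite _ fun W hW => ?_
  haveI := finite_sections_of_isCoh hM hW
  exact Module.Finite.of_surjective (appLinear (Formal.modPowπ I n M) W) (hsec hW).1

theorem app_modPowπ {M : X.Modules} (hM : Coh.IsQCoh M) (I : Ideal A) (n : ℕ) {U : X.Opens}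
    (hU : IsAffineOpen U) :
    Function.Surjective ((Formal.modPowπ I n M).app U) ∧
      LinearMap.ker (appLinear (Formal.modPowπ I n M) U) = JU I U ^ n • ⊤ := by
  obtain ⟨hQ, hsec⟩ := cokernel_smulFamily (I ^ n) M hM
  rw [← JU_pow]
  exact hsec hU

/-- A map inducing an isomorphism from the quotient, on sections. -/
theorem app_of_isIso_desc {J : Ideal A} {M N : X.Modules} (hM : Coh.IsQCoh M) (g : M ⟶ N)
    (h : Formal.smulFamily J M ≫ g = 0) [IsIso (cokernel.desc _ g h)] {U : X.Opens} (hU : IsAffineOpen U) :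
    Function.Surjective (g.app U) ∧ LinearMap.ker (appLinear g U) = JU J U • ⊤ := by
  obtain ⟨hs, hk⟩ := (cokernel_smulFamily J M hM).2 hU
  have hb : Function.Bijective ((cokernel.desc _ g h).app U) := ConcreteCategory.bijective_of_isIso _
  have e : ∀ s, g.app U s = (cokernel.desc _ g h).app U ((cokernel.π (Formal.smulFamily J M)).app U s) :=
    fun s => by rw [← app_comp_apply, cokernel.π_desc]
  refine ⟨fun s => ?_, ?_⟩
  · obtain ⟨t, rfl⟩ := hb.2 s
    obtain ⟨r, rfl⟩ := hs t
    exact ⟨r, e r⟩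
  · rw [← hk]
    ext s
    show g.app U s = 0 ↔ (cokernel.π (Formal.smulFamily J M)).app U s = 0
    rw [e, map_eq_zero_iff _ hb.1]

/-- Conversely. -/
theorem exists_isIso_desc {J : Ideal A} {M N : X.Modules} (hM : Coh.IsQCoh M) (g : M ⟶ N)
    (h : ∀ U : X.Opens, IsAffineOpen U →
      Function.Surjective (g.app U) ∧ LinearMap.ker (appLinear g U) = JU J U • ⊤) :
    ∃ w : Formal.smulFamily J M ≫ g = 0, IsIso (cokernel.desc _ g w) := by
  have w : Formal.smulFamily J M ≫ g = 0 := by
    refine Sigma.hom_ext _ _ fun ⟨a, ha⟩ => ?_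
    rw [comp_zero, ← Category.assoc, Formal.smulFamily, Sigma.ι_desc]
    refine hom_ext_affine fun U hU s => ?_
    show g.app U (φV (FormalLib.cst A X) U a • s) = 0
    have : φV (FormalLib.cst A X) U a • s ∈ LinearMap.ker (appLinear g U) := by
      rw [(h U hU).2]
      exact Submodule.smul_mem_smul (Ideal.mem_map_of_mem _ ha) trivial
    exact this
  refine ⟨w, FormalLib.isIso_of_affine _ fun U hU => ?_⟩
  obtain ⟨hs, hk⟩ := (cokernel_smulFamily J M hM).2 hU
  have e : ∀ s, g.app U s = (cokernel.desc _ g w).app U ((cokernel.π (Formal.smulFamily J M)).app U s) :=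
    fun s => by rw [← app_comp_apply, cokernel.π_desc]
  refine ⟨(injective_iff_map_eq_zero _).2 fun t ht => ?_, fun t => ?_⟩
  · obtain ⟨s, rfl⟩ := hs t
    have : s ∈ LinearMap.ker (appLinear g U) := (e s).trans ht
    rw [(h U hU).2, ← hk] at this
    exact this
  · obtain ⟨s, rfl⟩ := (h U hU).1 t
    exact ⟨_, (e s).symm⟩

/-- `J` kills `M` iff it kills sections on affine opens. -/
theorem killedBy_iff (J : Ideal A) (M : X.Modules) :
    Formal.KilledBy J M ↔ ∀ U : X.Opens, IsAffineOpen U → ∀ a ∈ J, ∀ s : Γ(M, U),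
      φV (FormalLib.cst A X) U a • s = 0 :=
  ⟨fun h U _ a ha s => congr($(h a ha).app U s), fun h a ha => hom_ext_affine fun U hU s => h U hU a ha s⟩

theorem killedBy_kernel_iff {J : Ideal A} {M N : X.Modules} (f : M ⟶ N) :
    Formal.KilledBy J (kernel f) ↔ ∀ U : X.Opens, IsAffineOpen U → ∀ a ∈ J, ∀ s : Γ(M, U),
      f.app U s = 0 → φV (FormalLib.cst A X) U a • s = 0 := by
  rw [killedBy_iff]
  refine ⟨fun h U hU a ha s hs => ?_, fun h U hU a ha s => app_injective_of_mono (kernel.ι f) U ?_⟩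
  · obtain ⟨t, rfl⟩ := kernel_app_exact f U s hs
    rw [← smul_app_natural, h U hU a ha t, map_zero]
  · rw [smul_app_natural, map_zero]
    exact h U hU a ha _ congr($(kernel.condition f).app U s)

theorem killedBy_cokernel_iff {J : Ideal A} {M N : X.Modules} (f : M ⟶ N) (hM : Coh.IsQCoh M)
    (hN : Coh.IsQCoh N) :
    Formal.KilledBy J (cokernel f) ↔ ∀ U : X.Opens, IsAffineOpen U → ∀ a ∈ J, ∀ s : Γ(N, U),
      ∃ t, f.app U t = φV (FormalLib.cst A X) U a • s := by
  rw [killedBy_iff]
  refine ⟨fun h U hU a ha s => ?_, fun h U hU a ha s => ?_⟩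
  · refine (FormalLib.cokernel_app f hM hN hU).2 _ ?_
    rw [smul_app_natural]
    exact h U hU a ha _
  · obtain ⟨t, rfl⟩ := (FormalLib.cokernel_app f hM hN hU).1 s
    obtain ⟨r, hr⟩ := h U hU a ha t
    rw [← smul_app_natural, ← hr, ← app_comp_apply, cokernel.condition]
    rfl

end Groth.Agent.FormalSys
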