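import Groth.Agent.FormalSysLib.Systems
import Groth.Agent.ClSubLib.Annihilator
import Groth.Agent.PullbackMod.Props
import Groth.Agent.DevLib.Closed

/-!
# The quotient of a coherent module by an ideal sheaf
-/

set_option autoImplicit false
set_option linter.style.haveILetI false

universe u

open CategoryTheory CategoryTheory.Limits AlgebraicGeometry TopologicalSpace Opposite TensorProduct
open Groth.Agent.CohBase Groth.Agent.ProjCoh Groth.Agent.QCohLib

noncomputable section

namespace Groth.Agent.FormalSys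

variable {X : Scheme.{u}}

/-- The kernel of `M → B ⊗ M` for a surjection `A → B`. -/
theorem baseChange_ker {A B : Type u} [CommRing A] [CommRing B] [Algebra A B] {M N : Type u} [AddCommGroup M]
    [Module A M] [AddCommGroup N] [Module A N] [Module B N] [IsScalarTower A B N] (f : M →ₗ[A] N)
    (hf : IsBaseChange B f) (hs : Function.Surjective (algebraMap A B)) :
    Function.Surjective f ∧ LinearMap.ker f = RingHom.ker (algebraMap A B) • (⊤ : Submodule A M) := by
  refine ⟨fun y => ?_, le_antisymm (fun x hx => ?_) ?_⟩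
  · obtain ⟨z, rfl⟩ := hf.equiv.surjective y
    induction z using TensorProduct.induction_on with
    | zero => exact ⟨0, by rw [map_zero, map_zero]⟩
    | tmul b m =>
      obtain ⟨a, rfl⟩ := hs b
      refine ⟨a • m, ?_⟩
      rw [map_smul, IsBaseChange.equiv_tmul, algebraMap_smul]
    | add x y hx hy =>
      obtain ⟨a, ha⟩ := hx
      obtain ⟨b, hb⟩ := hy
      exact ⟨a + b, by rw [map_add, ha, hb, map_add]⟩
  · set 𝔞 := RingHom.ker (algebraMap A B)
    let e : (A ⧸ 𝔞) ≃ₗ[A] B :=
      (Ideal.quotientKerAlgEquivOfSurjective (f := Algebra.ofId A B) hs).toLinearEquiv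
    have h1 : (TensorProduct.congr e (LinearEquiv.refl A M)) (Ideal.Quotient.mk 𝔞 1 ⊗ₜ[A] x) = 0 := by
      refine hf.equiv.injective ?_
      rw [TensorProduct.congr_tmul, map_zero, LinearEquiv.refl_apply]
      have : e (Ideal.Quotient.mk 𝔞 1) = 1 := by
        rw [map_one]
        exact map_one (Ideal.quotientKerAlgEquivOfSurjective (f := Algebra.ofId A B) hs)
      rw [this, IsBaseChange.equiv_tmul, one_smul]
      exact hx
    rw [map_eq_zero_iff _ (LinearEquiv.injective _)] at h1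
    have h2 := congrArg (TensorProduct.quotTensorEquivQuotSMul M 𝔞) h1
    rw [TensorProduct.quotTensorEquivQuotSMul_mk_tmul, one_smul, map_zero, Submodule.Quotient.mk_eq_zero] at h2
    exact h2
  · rw [Submodule.smul_le]
    intro a ha m _
    rw [LinearMap.mem_ker, map_smul, ← algebraMap_smul B, RingHom.mem_ker.1 ha, zero_smul]

/-- The functor `M ↦ M / K M`. -/
abbrev iqF (K : X.IdealSheafData) : X.Modules ⥤ X.Modules :=
  Scheme.Modules.pullback K.subschemeι ⋙ Scheme.Modules.pushforward K.subschemeι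

/-- The projection `M ⟶ M / K M`. -/
abbrev iqπ (K : X.IdealSheafData) (M : X.Modules) : M ⟶ (iqF K).obj M :=
  (Scheme.Modules.pullbackPushforwardAdjunction K.subschemeι).unit.app M

lemma iqπ_natural (K : X.IdealSheafData) {M N : X.Modules} (f : M ⟶ N) :
    f ≫ iqπ K N = iqπ K M ≫ (iqF K).map f :=
  (Scheme.Modules.pullbackPushforwardAdjunction K.subschemeι).unit.naturality f

theorem isCoh_iq [IsLocallyNoetherian X] (K : X.IdealSheafData) {M : X.Modules} (hM : Coh.IsCoh M) :
    Coh.IsCoh ((iqF K).obj M) := by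
  haveI : IsLocallyNoetherian K.subscheme := LocallyOfFiniteType.isLocallyNoetherian K.subschemeι
  have h : Coh.IsCoh ((Scheme.Modules.pullback K.subschemeι).obj M) :=
    PullbackMod.isCoh_pullback K.subschemeι M hM
  exact DevLib.isCoh_pushforward_closed K.subschemeι h

theorem app_iqπ (K : X.IdealSheafData) {M : X.Modules} (hM : Coh.IsQCoh M) {U : X.Opens}
    (hU : IsAffineOpen U) :
    Function.Surjective ((iqπ K M).app U) ∧
      LinearMap.ker (appLinear (iqπ K M) U) = K.ideal ⟨U, hU⟩ • (⊤ : Submodule Γ(X, U) Γ(M, U)) := by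
  haveI := hM
  let i := K.subschemeι
  letI : Algebra Γ(X, U) Γ(K.subscheme, i ⁻¹ᵁ U) := (i.appLE U (i ⁻¹ᵁ U) le_rfl).hom.toAlgebra
  letI := Module.compHom Γ((Scheme.Modules.pullback i).obj M, i ⁻¹ᵁ U) (i.appLE U (i ⁻¹ᵁ U) le_rfl).hom
  haveI : IsScalarTower Γ(X, U) Γ(K.subscheme, i ⁻¹ᵁ U) Γ((Scheme.Modules.pullback i).obj M, i ⁻¹ᵁ U) :=
    .of_algebraMap_smul fun _ _ => rfl
  have hb := PullbackMod.isBaseChange_pullMapL i M hU (hU.preimage i) (le_refl (i ⁻¹ᵁ U))
  have happ : i.appLE U (i ⁻¹ᵁ U) le_rfl = i.app U := (Scheme.Hom.app_eq_appLE i).symm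
  have hs : Function.Surjective (algebraMap Γ(X, U) Γ(K.subscheme, i ⁻¹ᵁ U)) := by
    rw [RingHom.algebraMap_toAlgebra, happ]
    exact K.subschemeι_app_surjective ⟨U, hU⟩
  have hk : RingHom.ker (algebraMap Γ(X, U) Γ(K.subscheme, i ⁻¹ᵁ U)) = K.ideal ⟨U, hU⟩ := by
    rw [RingHom.algebraMap_toAlgebra, happ]
    exact K.ker_subschemeι_app ⟨U, hU⟩
  obtain ⟨h1, h2⟩ := baseChange_ker _ hb hs
  have e : ∀ m : Γ(M, U), PullbackMod.pullMapL i M (le_refl (i ⁻¹ᵁ U)) m = (iqπ K M).app U m := fun m =>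
    restr_self ((Scheme.Modules.pullback i).obj M) _ _
  refine ⟨fun y => ?_, ?_⟩
  · obtain ⟨m, hm⟩ := h1 y
    exact ⟨m, (e m).symm.trans hm⟩
  · rw [← hk, ← h2]
    ext m
    show (iqπ K M).app U m = 0 ↔ PullbackMod.pullMapL i M (le_refl (i ⁻¹ᵁ U)) m = 0
    rw [e]
    exact Iff.rfl

theorem killed_iq (K : X.IdealSheafData) {M : X.Modules} (hM : Coh.IsQCoh M) :
    ClSub.KilledByIdeal K ((iqF K).obj M) := by
  intro U a ha s
  obtain ⟨hs, hk⟩ := app_iqπ K hM U.2
  obtain ⟨t, rfl⟩ := hs s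
  have : a • t ∈ LinearMap.ker (appLinear (iqπ K M) U.1) := by
    rw [hk]
    exact Submodule.smul_mem_smul ha trivial
  exact (Scheme.Modules.Hom.app_smul _ _ _).symm.trans this

/-- Maps to modules killed by `K` factor through `M / K M`. -/
theorem exists_iq_desc (K : X.IdealSheafData) {M N : X.Modules} (hM : Coh.IsQCoh M) (g : M ⟶ N)
    (hN : ClSub.KilledByIdeal K N) [Epi (iqπ K M)] : ∃ l, iqπ K M ≫ l = g := by
  let k : kernel (iqπ K M) ⟶ M := kernel.ι (iqπ K M)
  let hc := Abelian.epiIsCokernelOfKernel (KernelFork.ofι k (kernel.condition (iqπ K M))) (kernelIsKernel _)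
  refine ⟨_, (CokernelCofork.IsColimit.desc' hc g ?_).2⟩
  refine hom_ext_affine fun U hU s => ?_
  have h0 : k.app U s ∈ LinearMap.ker (appLinear (iqπ K M) U) := congr($(kernel.condition (iqπ K M)).app U s)
  rw [(app_iqπ K hM hU).2] at h0
  show g.app U (k.app U s) = 0
  refine Submodule.smul_induction_on h0 (fun a ha m _ => ?_) (fun a b ha hb => by rw [map_add, ha, hb, add_zero])
  exact (Scheme.Modules.Hom.app_smul _ _ _).trans (hN ⟨U, hU⟩ a ha _)

theorem epi_iqπ (K : X.IdealSheafData) {M : X.Modules} (hM : Coh.IsQCoh M) : Epi (iqπ K M) :=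
  epi_of_affine _ fun _ hU => (app_iqπ K hM hU).1

end Groth.Agent.FormalSys
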