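import Mathlib
import Groth.Agent.InvSysLib.Basic
import Groth.Agent.RegLocal.Complete

/-!
# Uniform bounds for adic systems of finite modules
-/

set_option autoImplicit false

universe u v w

namespace Groth.Agent.FormalSys

variable {B : Type u} [CommRing B] [IsNoetherianRing B] (J : Ideal B)

/-- Artin–Rees for a map. -/
theorem exists_comap_le {M : Type v} [AddCommGroup M] [Module B M] {N : Type w} [AddCommGroup N] [Module B N]
    [Module.Finite B N] (f : M →ₗ[B] N) :
    ∃ d : ℕ, ∀ (n : ℕ) (x : M), f x ∈ J ^ n • (⊤ : Submodule B N) →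
      x ∈ LinearMap.ker f ⊔ J ^ (n - d) • ⊤ := by
  obtain ⟨k, hk⟩ := J.exists_pow_inf_eq_pow_smul (LinearMap.range f)
  refine ⟨k, fun n x hx => ?_⟩
  rcases lt_or_ge n k with h | h
  · rw [Nat.sub_eq_zero_of_le h.le, pow_zero, Ideal.one_eq_top, Submodule.top_smul]
    exact Submodule.mem_sup_right trivial
  · have h1 : f x ∈ J ^ n • (⊤ : Submodule B N) ⊓ LinearMap.range f := ⟨hx, x, rfl⟩
    rw [hk n h] at h1
    have h2 : f x ∈ (J ^ (n - k) • (⊤ : Submodule B M)).map f := by
      rw [Submodule.map_smul'', Submodule.map_top]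
      exact Submodule.smul_mono le_rfl inf_le_right h1
    obtain ⟨y, hy, hyx⟩ := h2
    exact Submodule.mem_sup.2 ⟨x - y, by simp [hyx], y, hy, sub_add_cancel x y⟩

variable {M : ℕ → Type u} [∀ n, AddCommGroup (M n)] [∀ n, Module B (M n)] [∀ n, Module.Finite B (M n)]
  (f : ∀ n, M (n + 1) →ₗ[B] M n) (hf : ∀ n, Function.Surjective (f n))
  (hker : ∀ n, LinearMap.ker (f n) = J ^ (n + 1) • (⊤ : Submodule B (M (n + 1))))

include hf hker

/-- In an adic system, torsion elements deep in the filtration are small. -/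
theorem exists_torsion_bound {r : ℕ} (a : Fin r → B) {c : ℕ} (hc : J ^ c ≤ Ideal.span (Set.range a)) :
    ∃ m d : ℕ, ∀ (n : ℕ) (x : M n), x ∈ J ^ m • (⊤ : Submodule B (M n)) → (∀ i, a i • x = 0) →
      x ∈ J ^ (n + 1 - d) • (⊤ : Submodule B (M n)) := by
  classical
  have hzero : ∀ n, J ^ (n + 1) • (⊤ : Submodule B (M n)) = ⊥ := fun n => by
    rw [← LinearMap.range_eq_top.2 (hf n), ← Submodule.map_top, ← Submodule.map_smul'', ← hker n, eq_bot_iff]
    rintro _ ⟨x, hx, rfl⟩
    exact hx
  have htors : ∀ n, Module.IsTorsionBySet B (M n) ((J ^ (n + 1) : Ideal B) : Set B) := fun n x b => by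
    have := Submodule.smul_mem_smul (N := (⊤ : Submodule B (M n))) b.2 (Submodule.mem_top (x := x))
    rwa [hzero] at this
  let R := AdicCompletion J B
  letI : ∀ n, Module (B ⧸ J ^ (n + 1)) (M n) := fun n => (htors n).module
  letI : ∀ n, Module R (M n) := fun n => Module.compHom (M n) (AdicCompletion.evalₐ J (n + 1)).toRingHom
  have hsm : ∀ (n : ℕ) (b : B) (x : M n), algebraMap B R b • x = b • x := fun n b x => by
    show (AdicCompletion.evalₐ J (n + 1)).toRingHom (algebraMap B R b) • x = _
    rw [AlgHom.toRingHom_eq_coe, RingHom.coe_coe, AlgHom.commutes, Ideal.Quotient.algebraMap_eq]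
    exact (htors n).mk_smul b x
  haveI : ∀ n, IsScalarTower B R (M n) := fun n => IsScalarTower.of_algebraMap_smul fun b x => hsm n b x
  have hrep : ∀ (n : ℕ) (ρ : R), ∃ b : B, ∀ (k : ℕ), k ≤ n → ∀ x : M k, ρ • x = b • x := fun n ρ => by
    obtain ⟨d, rfl⟩ := AdicCompletion.mk_surjective J B ρ
    refine ⟨d (n + 1), fun k hk x => ?_⟩
    show (AdicCompletion.evalₐ J (k + 1)).toRingHom _ • x = _
    rw [AlgHom.toRingHom_eq_coe, RingHom.coe_coe, AdicCompletion.evalₐ_mk]
    refine ((htors k).mk_smul (d (k + 1)) x).trans ?_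
    rw [← sub_eq_zero, ← sub_smul]
    have := SModEq.sub_mem.1 (d.2 (Nat.succ_le_succ hk))
    rw [smul_eq_mul, Ideal.mul_top] at this
    exact @htors k x ⟨_, this⟩
  let g : ∀ n, M (n + 1) →ₗ[R] M n := fun n =>
    { toFun := f n
      map_add' := map_add _
      map_smul' := fun ρ x => by
        obtain ⟨b, hb⟩ := hrep (n + 1) ρ
        rw [RingHom.id_apply, hb (n + 1) le_rfl, hb n n.le_succ, map_smul] }
  set JR := J.map (algebraMap B R) with hJR
  have hres : ∀ (n k : ℕ), (JR ^ k • (⊤ : Submodule R (M n))).restrictScalars B = J ^ k • ⊤ := fun n k => by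
    rw [hJR, ← Ideal.map_pow]
    apply le_antisymm
    · intro x hx
      rw [Submodule.restrictScalars_mem] at hx
      refine Submodule.smul_induction_on hx (fun ρ hρ y _ => ?_) (fun y z hy hz => add_mem hy hz)
      induction hρ using Submodule.span_induction generalizing y with
      | mem ρ hρ =>
        obtain ⟨b, hb, rfl⟩ := hρ
        rw [algebraMap_smul]
        exact Submodule.smul_mem_smul hb trivial
      | zero => rw [zero_smul]; exact zero_mem _
      | add ρ ρ' _ _ h h' => rw [add_smul]; exact add_mem (h y trivial) (h' y trivial)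
      | smul σ ρ _ h => rw [smul_eq_mul, mul_comm, mul_smul]; exact h (σ • y) trivial
    · refine Submodule.smul_le.2 fun b hb y _ => ?_
      rw [Submodule.restrictScalars_mem, ← algebraMap_smul R b y]
      exact Submodule.smul_mem_smul (Ideal.mem_map_of_mem _ hb) trivial
  have hres' : ∀ (n k : ℕ) (x : M n), x ∈ JR ^ k • (⊤ : Submodule R (M n)) ↔
      x ∈ J ^ k • (⊤ : Submodule B (M n)) := fun n k x => by rw [← hres, Submodule.restrictScalars_mem]
  have hkerg : ∀ n, LinearMap.ker (g n) = JR ^ (n + 1) • (⊤ : Submodule R (M (n + 1))) := fun n => by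
    ext x
    rw [hres', ← hker, LinearMap.mem_ker, LinearMap.mem_ker]
    rfl
  -- the limit
  let L : Submodule R (∀ n, M n) :=
    { carrier := {y | ∀ n, g n (y (n + 1)) = y n}
      zero_mem' := fun n => map_zero _
      add_mem' := fun {y z} hy hz n => by rw [Pi.add_apply, map_add, hy, hz, Pi.add_apply]
      smul_mem' := fun ρ y hy n => by rw [Pi.smul_apply, map_smul, hy, Pi.smul_apply] }
  let π : ∀ n, L →ₗ[R] M n := fun n => (LinearMap.proj n).comp L.subtype
  haveI : IsAdicComplete JR R := AdicCompletion.isAdicComplete_self J J.fg_of_isNoetherianRing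
  haveI : IsNoetherianRing R := RegLocal.isNoetherianRing_adicCompletion J J.fg_of_isNoetherianRing
  haveI : ∀ n, Module.Finite R (M n) := fun n => Module.Finite.of_restrictScalars_finite B R (M n)
  have hkill : ∀ n, JR ^ (n + 1) • (⊤ : Submodule R (M n)) = ⊥ := fun n => by
    rw [Submodule.eq_bot_iff]
    intro x hx
    rw [hres', hzero] at hx
    exact hx
  obtain ⟨hfin, hcompl, hπ⟩ := InvSys.main (A := R) (I := JR) (M := M) (f := g) (L := L) (π := π)
    hf hkill hkerg (fun n => LinearMap.ext fun y => y.2 n)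
    (fun y hy => Subtype.ext (funext hy)) (fun y hy => ⟨⟨y, hy⟩, fun n => rfl⟩) inferInstance
  -- the torsion
  let φ : L →ₗ[R] (Fin r → L) := LinearMap.pi fun i => algebraMap B R (a i) • LinearMap.id
  obtain ⟨d, hd⟩ := exists_comap_le JR φ
  obtain ⟨k₀, hk₀⟩ := exists_comap_le (M := ↥(LinearMap.ker φ)) (N := ↥L) JR (LinearMap.ker φ).subtype
  have hsmall : ∀ (p : ℕ) (t : L), φ t = 0 → t ∈ JR ^ p • (⊤ : Submodule R L) → k₀ + c ≤ p → t = 0 := by
    intro p t ht ht' hp
    have h := hk₀ p ⟨t, ht⟩ ht'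
    rw [Submodule.ker_subtype, bot_sup_eq] at h
    have hbot : JR ^ (p - k₀) • (⊤ : Submodule R (LinearMap.ker φ)) = ⊥ := by
      rw [eq_bot_iff]
      refine le_trans (Submodule.smul_mono (Ideal.pow_le_pow_right (show c ≤ p - k₀ by omega)) le_rfl) ?_
      refine le_trans (Submodule.smul_mono (show JR ^ c ≤ Ideal.span (Set.range (algebraMap B R ∘ a)) by
        rw [hJR, ← Ideal.map_pow, Set.range_comp, ← Ideal.map_span]; exact Ideal.map_mono hc) le_rfl) ?_
      rw [Submodule.smul_le]
      intro ρ hρ y _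
      obtain ⟨e, rfl⟩ := Ideal.mem_span_range_iff_exists_fun.1 hρ
      rw [Submodule.mem_bot, Finset.sum_smul]
      refine Finset.sum_eq_zero fun i _ => ?_
      rw [mul_smul]
      have : algebraMap B R (a i) • y = 0 :=
        Subtype.ext (congrFun (LinearMap.mem_ker.1 y.2) i)
      show e i • (algebraMap B R (a i) • y) = 0
      rw [this, smul_zero]
    rw [hbot, Submodule.mem_bot] at h
    exact congrArg Subtype.val h
  refine ⟨k₀ + c, d, fun n x hx hax => ?_⟩
  set m := k₀ + c
  -- lift
  obtain ⟨z, hz, rfl⟩ : ∃ z ∈ JR ^ m • (⊤ : Submodule R L), π n z = x := by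
    have h1 : x ∈ (JR ^ m • (⊤ : Submodule R L)).map (π n) := by
      rw [Submodule.map_smul'', Submodule.map_top, LinearMap.range_eq_top.2 (hπ n).1]
      exact (hres' n m x).2 hx
    exact h1
  have hφz : φ z ∈ JR ^ (n + 1) • (⊤ : Submodule R (Fin r → L)) := by
    rw [show φ z = ∑ i, LinearMap.single R (fun _ => L) i (φ z i) from (Finset.univ_sum_single (φ z)).symm]
    refine Submodule.sum_mem _ fun i _ => ?_
    have hi : φ z i ∈ JR ^ (n + 1) • (⊤ : Submodule R L) := by
      rw [← (hπ n).2, LinearMap.mem_ker]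
      show π n (algebraMap B R (a i) • z) = 0
      rw [map_smul, algebraMap_smul]
      exact hax i
    have := Submodule.mem_map_of_mem (f := LinearMap.single R (fun _ => L) i) hi
    rw [Submodule.map_smul''] at this
    exact Submodule.smul_mono le_rfl le_top this
  rcases le_or_gt (n + 1 - d) m with h | h
  · exact Submodule.smul_mono (Ideal.pow_le_pow_right h) le_rfl hx
  · obtain ⟨t, ht, y, hy, rfl⟩ := Submodule.mem_sup.1 (hd (n + 1) z hφz)
    have ht0 : t = 0 := hsmall m t ht (by
      have := sub_mem hz (Submodule.smul_mono (Ideal.pow_le_pow_right h.le) le_rfl hy)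
      simpa using this) le_rfl
    rw [ht0, zero_add, ← hres']
    have := Submodule.mem_map_of_mem (f := π n) hy
    rw [Submodule.map_smul''] at this
    exact Submodule.smul_mono le_rfl le_top this

end Groth.Agent.FormalSys
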