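import Groth.Agent.FormalSysLib.Sections
import Groth.Agent.FormalSysLib.Algebra
import Groth.Agent.QCohLib.Criterion

/-!
# The structure of coherent formal modules on affine opens
-/

set_option autoImplicit false

universe u

open CategoryTheory CategoryTheory.Limits AlgebraicGeometry TopologicalSpace Opposite
open Groth.Agent.CohBase Groth.Agent.ProjCoh Groth.Agent.QCohLib

noncomputable section

namespace Groth.Agent.FormalSys

/-- A map out of a quasi-coherent module vanishing on an affine cover is zero. -/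
theorem hom_zero_of_cover {X : Scheme.{u}} {M N : X.Modules} [Coh.IsQCoh M] (f : M ⟶ N)
    {ι : Type u} (V : ι → X.Opens) (hV : ∀ i, IsAffineOpen (V i)) (hcov : ⊤ ≤ iSup V)
    (h : ∀ i s, f.app (V i) s = 0) : f = 0 := by
  refine Scheme.Modules.hom_ext _ _ fun U => AddCommGrpCat.hom_ext (AddMonoidHom.ext fun s => ?_)
  refine eq_of_cover N (W := fun p : Σ i, {a : Γ(X, V i) // X.basicOpen a ≤ U} => X.basicOpen p.2.1)
    (fun p => p.2.2) (fun x hx => ?_) _ 0 fun p => ?_
  · obtain ⟨i, hi⟩ := Opens.mem_iSup.1 (hcov (show x ∈ (⊤ : X.Opens) from trivial))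
    obtain ⟨a, ha, hxa⟩ := (hV i).exists_basicOpen_le (V := U) ⟨x, hx⟩ hi
    exact Opens.mem_iSup.2 ⟨⟨i, a, ha⟩, hxa⟩
  · obtain ⟨i, a, ha⟩ := p
    show N.presheaf.map (homOfLE ha).op (f.app U s) = N.presheaf.map (homOfLE ha).op 0
    rw [map_zero, ← app_res]
    obtain ⟨n, t, ht⟩ := (locAt M (hV i)).extend a (M.presheaf.map (homOfLE ha).op s)
    have h0 : sc (a ^ n) (X.basicOpen_le a) (f.app (X.basicOpen a) (M.presheaf.map (homOfLE ha).op s)) = 0 := by
      rw [← app_sc, ← ht, app_res, h, map_zero]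
    have hu : IsUnit (X.presheaf.map (homOfLE (X.basicOpen_le a)).op (a ^ n)) := by
      rw [map_pow]
      exact (X.toRingedSpace.isUnit_res_basicOpen a).pow n
    exact (hu.smul_eq_zero).1 h0

variable {A : Type u} [CommRing A] {X : Scheme.{u}} [X.Over (Spec (CommRingCat.of A))] [IsNoetherian X]

section Tr

variable {I : Ideal A} {F : ℕᵒᵖ ⥤ X.Modules}

/-- Transition maps. -/
abbrev tr (F : ℕᵒᵖ ⥤ X.Modules) {n k : ℕ} (h : n ≤ k) : F.obj (op k) ⟶ F.obj (op n) :=
  F.map (homOfLE h).op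

omit [X.Over (Spec (CommRingCat.of A))] [AlgebraicGeometry.IsNoetherian X] in
lemma tr_comp (F : ℕᵒᵖ ⥤ X.Modules) {l n k : ℕ} (h : l ≤ n) (h' : n ≤ k) :
    tr F h' ≫ tr F h = tr F (h.trans h') := by
  rw [← F.map_comp]; rfl

omit [X.Over (Spec (CommRingCat.of A))] [AlgebraicGeometry.IsNoetherian X] in
lemma tr_refl (F : ℕᵒᵖ ⥤ X.Modules) (n : ℕ) : tr F (le_refl n) = 𝟙 _ := F.map_id _

omit [X.Over (Spec (CommRingCat.of A))] [AlgebraicGeometry.IsNoetherian X] in
lemma tr_app {G : ℕᵒᵖ ⥤ X.Modules} (α : F ⟶ G) {n k : ℕ} (h : n ≤ k) :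
    tr F h ≫ α.app (op n) = α.app (op k) ≫ tr G h := α.naturality _

theorem smul_top_eq_bot (hF : Formal.IsCohFormal I F) (n : ℕ) {U : X.Opens} (hU : IsAffineOpen U) :
    JU I U ^ (n + 1) • (⊤ : Submodule Γ(X, U) Γ(F.obj (op n), U)) = ⊥ := by
  rw [Submodule.eq_bot_iff, ← JU_pow]
  intro x hx
  refine Submodule.smul_induction_on hx (fun r hr s _ => ?_) (fun x y hx hy => by rw [hx, hy, add_zero])
  induction hr using Submodule.span_induction with
  | mem r hr =>
    obtain ⟨a, ha, rfl⟩ := hr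
    exact (killedBy_iff _ _).1 (hF.2.1 n) U hU a ha s
  | zero => rw [zero_smul]
  | add r r' _ _ h h' => rw [add_smul, h, h', add_zero]
  | smul c r _ h => rw [smul_eq_mul, mul_smul, h, smul_zero]

theorem app_tr (hF : Formal.IsCohFormal I F) {n k : ℕ} (h : n ≤ k) {U : X.Opens} (hU : IsAffineOpen U) :
    Function.Surjective ((tr F h).app U) ∧
      LinearMap.ker (appLinear (tr F h) U) = JU I U ^ (n + 1) • ⊤ := by
  induction h with
  | refl =>
    refine ⟨fun s => ⟨s, by rw [tr_refl]; rfl⟩, ?_⟩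
    rw [smul_top_eq_bot hF n hU, LinearMap.ker_eq_bot']
    intro s hs
    have : (tr F (le_refl n)).app U s = 0 := hs
    rwa [tr_refl] at this
  | @step m h ih =>
    obtain ⟨w, hw⟩ := hF.2.2 m
    obtain ⟨hs, hk⟩ := app_of_isIso_desc (hF.1 (m + 1)).1 (tr F (Nat.le_succ m)) w hU
    rw [JU_pow] at hk
    have e : ∀ s, (tr F (le_trans h (Nat.le_succ m))).app U s =
        (tr F h).app U ((tr F (Nat.le_succ m)).app U s) := fun s => by rw [← app_comp_apply, tr_comp]
    refine ⟨fun s => ?_, le_antisymm (fun s hs0 => ?_) ?_⟩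
    · obtain ⟨t, rfl⟩ := ih.1 s
      obtain ⟨r, rfl⟩ := hs t
      exact ⟨r, e r⟩
    · have h1 : (tr F (Nat.le_succ m)).app U s ∈ LinearMap.ker (appLinear (tr F h) U) := (e s).symm.trans hs0
      rw [ih.2, ← LinearMap.range_eq_top.2 (show Function.Surjective (appLinear (tr F (Nat.le_succ m)) U) from hs),
        ← Submodule.map_top, ← Submodule.map_smul''] at h1
      obtain ⟨y, hy, hy'⟩ := h1
      have h2 : s - y ∈ LinearMap.ker (appLinear (tr F (Nat.le_succ m)) U) := by
        rw [LinearMap.mem_ker, map_sub, sub_eq_zero]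
        exact hy'.symm
      rw [hk] at h2
      rw [← sub_add_cancel s y]
      exact add_mem (Submodule.smul_mono (Ideal.pow_le_pow_right (Nat.succ_le_succ h)) le_rfl h2) hy
    · rw [LinearMap.le_ker_iff_map, Submodule.map_smul'', eq_bot_iff, ← smul_top_eq_bot hF n hU]
      exact Submodule.smul_mono le_rfl le_top

theorem isCoh (hF : Formal.IsCohFormal I F) (n : ℕ) : Coh.IsCoh (F.obj (op n)) := hF.1 n

theorem epi_tr (hF : Formal.IsCohFormal I F) {n k : ℕ} (h : n ≤ k) : Epi (tr F h) :=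
  epi_of_affine _ fun _ hU => (app_tr hF h hU).1

/-- Uniform torsion bound. -/
theorem exists_torsion_bound_cover (hF : Formal.IsCohFormal I F) {ι : Type u} [Finite ι] (V : ι → X.Opens)
    (hV : ∀ i, IsAffineOpen (V i)) (c : ℕ) :
    ∃ m d : ℕ, ∀ (i : ι) (n : ℕ) (x : Γ(F.obj (op n), V i)),
      x ∈ JU I (V i) ^ m • (⊤ : Submodule Γ(X, V i) Γ(F.obj (op n), V i)) →
      (∀ a ∈ I ^ c, φV (FormalLib.cst A X) (V i) a • x = 0) →
        x ∈ JU I (V i) ^ (n + 1 - d) • (⊤ : Submodule Γ(X, V i) Γ(F.obj (op n), V i)) := by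
  classical
  obtain ⟨L, hLJ, hL⟩ := exists_gens (X := X) (I ^ c)
  have h1 : ∀ i, ∃ m d : ℕ, ∀ (n : ℕ) (x : Γ(F.obj (op n), V i)),
      x ∈ JU I (V i) ^ m • (⊤ : Submodule Γ(X, V i) Γ(F.obj (op n), V i)) →
      (∀ a ∈ I ^ c, φV (FormalLib.cst A X) (V i) a • x = 0) →
        x ∈ JU I (V i) ^ (n + 1 - d) • (⊤ : Submodule Γ(X, V i) Γ(F.obj (op n), V i)) := by
    intro i
    haveI := isNoetherianRing_section (hV i)
    haveI : ∀ n, Module.Finite Γ(X, V i) Γ(F.obj (op n), V i) := fun n =>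
      finite_sections_of_isCoh (hF.1 n) (hV i)
    let a : Fin L.card → Γ(X, V i) := fun j => φV (FormalLib.cst A X) (V i) (L.equivFin.symm j : A)
    have ha : JU I (V i) ^ c ≤ Ideal.span (Set.range a) := by
      rw [← JU_pow]
      refine (hL _ (hV i)).trans (Ideal.span_mono ?_)
      rintro _ ⟨x, hx, rfl⟩
      exact ⟨L.equivFin ⟨x, hx⟩, by simp [a]⟩
    obtain ⟨m, d, hmd⟩ := exists_torsion_bound (M := fun n => ↥Γ(F.obj (op n), V i)) (JU I (V i))
      (fun n => appLinear (tr F (Nat.le_succ n)) (V i))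
      (fun n => (app_tr hF (Nat.le_succ n) (hV i)).1) (fun n => (app_tr hF (Nat.le_succ n) (hV i)).2) a ha
    exact ⟨m, d, fun n x hx hax => hmd n x hx fun j => hax _ (hLJ (L.equivFin.symm j).2)⟩
  choose m d hmd using h1
  haveI := Fintype.ofFinite ι
  refine ⟨Finset.univ.sup m, Finset.univ.sup d, fun i n x hx hax => ?_⟩
  refine Submodule.smul_mono (Ideal.pow_le_pow_right ?_) le_rfl
    (hmd i n x (Submodule.smul_mono (Ideal.pow_le_pow_right (Finset.le_sup (Finset.mem_univ i))) le_rfl hx) hax)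
  have := Finset.le_sup (f := d) (Finset.mem_univ i)
  omega

end Tr

/-- The transition maps of a completion. -/
lemma modPowπ_tr (I : Ideal A) (G : X.Modules) {n k : ℕ} (h : n ≤ k) :
    Formal.modPowπ I (k + 1) G ≫ tr (Formal.completion I G) h = Formal.modPowπ I (n + 1) G := by
  induction h with
  | refl => rw [tr_refl]; exact Category.comp_id _
  | @step m h ih =>
    rw [← tr_comp _ h (Nat.le_succ m)]
    have : tr (Formal.completion I G) (Nat.le_succ m) = Formal.modPowTrans I (m + 1) G :=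
      Functor.ofOpSequence_map_homOfLE_succ _ m
    rw [this]
    show Formal.modPowπ I (m + 1 + 1) G ≫ Formal.modPowTrans I (m + 1) G ≫ _ = _
    exact (Category.assoc _ _ _).symm.trans
      ((congrArg (· ≫ tr (Formal.completion I G) h) (Formal.modPowπ_trans I (m + 1) G)).trans ih)

/-- The completion of a coherent module is a coherent formal module. -/
theorem isCohFormal_completion {G : X.Modules} (hG : Coh.IsCoh G) (I : Ideal A) :
    Formal.IsCohFormal I (Formal.completion I G) := by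
  refine ⟨fun n => isCoh_modPow hG I (n + 1), fun n => (killedBy_iff _ _).2 fun U hU a ha s => ?_, fun n => ?_⟩
  · obtain ⟨hs, hk⟩ := app_modPowπ hG.1 I (n + 1) hU
    obtain ⟨t, rfl⟩ := hs s
    have : φV (FormalLib.cst A X) U a • t ∈ LinearMap.ker (appLinear (Formal.modPowπ I (n + 1) G) U) := by
      rw [hk, ← JU_pow]
      exact Submodule.smul_mem_smul (Ideal.mem_map_of_mem _ ha) trivial
    exact (Scheme.Modules.Hom.app_smul _ _ _).symm.trans this
  · refine exists_isIso_desc (isCoh_modPow hG I (n + 1 + 1)).1 (tr (Formal.completion I G) (Nat.le_succ n))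
      fun U hU => ?_
    obtain ⟨hs, hk⟩ := app_modPowπ hG.1 I (n + 1) hU
    obtain ⟨hs', hk'⟩ := app_modPowπ hG.1 I (n + 1 + 1) hU
    have e : ∀ t, (tr (Formal.completion I G) (Nat.le_succ n)).app U ((Formal.modPowπ I (n + 1 + 1) G).app U t) =
        (Formal.modPowπ I (n + 1) G).app U t := fun t =>
      congr($(modPowπ_tr I G (Nat.le_succ n)).app U t)
    refine ⟨fun s => ?_, le_antisymm (fun x hx => ?_) ?_⟩
    · obtain ⟨t, rfl⟩ := hs s
      exact ⟨_, e t⟩
    · obtain ⟨t, rfl⟩ := hs' x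
      have h1 : t ∈ LinearMap.ker (appLinear (Formal.modPowπ I (n + 1) G) U) := (e t).symm.trans hx
      rw [hk] at h1
      have h2 := Submodule.mem_map_of_mem (f := appLinear (Formal.modPowπ I (n + 1 + 1) G) U) h1
      rw [Submodule.map_smul''] at h2
      rw [JU_pow]
      exact Submodule.smul_mono le_rfl le_top h2
    · rw [JU_pow, Submodule.smul_le]
      intro r hr x _
      obtain ⟨t, rfl⟩ := hs' x
      have h1 : r • t ∈ LinearMap.ker (appLinear (Formal.modPowπ I (n + 1) G) U) := by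
        rw [hk]; exact Submodule.smul_mem_smul hr trivial
      rw [LinearMap.mem_ker, map_smul]
      refine Eq.trans ?_ h1
      rw [map_smul]
      exact congrArg (r • ·) (e t)

end Groth.Agent.FormalSys
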