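import Groth.Agent.FormalLib.Main
import Groth.Agent.FormalLib.ProperSupport
import Groth.Agent.RpushLib.Finite
import Groth.Agent.FormalSysLib.Systems
import Groth.Agent.CohBase.Cartan

/-!
# Formal functions for sections over an affine open of the base of a proper morphism
-/

set_option autoImplicit false
set_option backward.defeqAttrib.useBackward true
set_option backward.isDefEq.respectTransparency false
set_option linter.unusedSectionVars false
set_option linter.style.haveILetI false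

universe u

open CategoryTheory CategoryTheory.Limits AlgebraicGeometry TopologicalSpace Opposite
open Groth.Agent.CohBase Groth.Agent.ProjCoh

noncomputable section

namespace Groth.Agent.FormalSys

variable {X Y : Scheme.{u}} (f : X ⟶ Y) {U : Y.Opens} (hU : IsAffineOpen U)

lemma appLE_res {W W' : X.Opens} (h : W' ≤ W) (hW : W ≤ f ⁻¹ᵁ U) (b : Γ(Y, U)) :
    X.presheaf.map (homOfLE h).op (f.appLE U W hW b) = f.appLE U W' (h.trans hW) b := by
  rw [← CategoryTheory.ConcreteCategory.comp_apply, Scheme.Hom.appLE_map]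

/-- The structure map of a piece over an affine open. -/
def pU : (f ⁻¹ᵁ U).toScheme ⟶ Spec (CommRingCat.of Γ(Y, U)) := (f ∣_ U) ≫ hU.isoSpec.hom

/-- A sequence of opens in the piece is a sequence of opens in `X`. -/
abbrev imU (V : (f ⁻¹ᵁ U).toScheme.Opens) : X.Opens := (f ⁻¹ᵁ U).ι ''ᵁ V

omit hU in
lemma imU_le (V : (f ⁻¹ᵁ U).toScheme.Opens) : imU f V ≤ f ⁻¹ᵁ U :=
  ((f ⁻¹ᵁ U).ι.image_mono le_top).trans (f ⁻¹ᵁ U).ι_image_top.le

/-- Scalars on sections of the restriction. -/
theorem sec_smul_eq (M : X.Modules) (V : (f ⁻¹ᵁ U).toScheme.Opens) (b : Γ(Y, U))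
    (s : Sec (Coh.toGlobal (pU f hU)) (M.restrict (f ⁻¹ᵁ U).ι) V) :
    b • s = toSec (Coh.toGlobal (pU f hU)) (show Γ(M.restrict (f ⁻¹ᵁ U).ι, V) from
      f.appLE U (imU f V) (imU_le f V) b • (show Γ(M, imU f V) from s)) := by
  rw [sec_smul]
  show ((f ⁻¹ᵁ U).ι.appIso V).inv (φV (Coh.toGlobal (pU f hU)) V b) • (show Γ(M, imU f V) from s) = _
  refine congrArg (fun c => c • (show Γ(M, imU f V) from s)) ?_
  rw [pU, RpushLib.toGlobal_eq f hU, Scheme.Opens.ι_appIso]
  show X.presheaf.map _ (X.presheaf.map _ (f.app U b)) = _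
  rw [← CategoryTheory.ConcreteCategory.comp_apply, ← X.presheaf.map_comp, Scheme.Hom.app_eq_appLE,
    ← CategoryTheory.ConcreteCategory.comp_apply, Scheme.Hom.appLE_map]
  rfl

lemma mem_map_smul_top {B C : Type u} [CommRing B] [CommRing C] (χ : B →+* C) (I : Ideal B) {M : Type u}
    [AddCommGroup M] [Module C M] {N : Type u} [AddCommGroup N] [Module B N] (e : N ≃+ M)
    (he : ∀ b x, e (b • x) = χ b • e x) (x : N) :
    x ∈ I • (⊤ : Submodule B N) ↔ e x ∈ I.map χ • (⊤ : Submodule C M) := by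
  constructor
  · intro hx
    refine Submodule.smul_induction_on hx (fun b hb n _ => ?_) (fun a b ha hb => ?_)
    · rw [he]
      exact Submodule.smul_mem_smul (Ideal.mem_map_of_mem _ hb) trivial
    · rw [map_add]
      exact add_mem ha hb
  · intro hx
    rw [← e.symm_apply_apply x]
    generalize e x = y at hx ⊢
    refine Submodule.smul_induction_on hx (fun c hc m _ => ?_) (fun a b ha hb => ?_)
    · induction hc using Submodule.span_induction generalizing m with
      | mem c hc =>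
        obtain ⟨b, hb, rfl⟩ := hc
        rw [show e.symm (χ b • m) = b • e.symm m from e.injective (by rw [he, e.apply_symm_apply, e.apply_symm_apply])]
        exact Submodule.smul_mem_smul hb trivial
      | zero => rw [zero_smul, map_zero]; exact zero_mem _
      | add c c' _ _ h h' => rw [add_smul, map_add]; exact add_mem (h m trivial) (h' m trivial)
      | smul c' c _ h => rw [smul_eq_mul, mul_comm, mul_smul]; exact h _ trivial
    · rw [map_add]
      exact add_mem ha hb

lemma mem_smul_sec (M : X.Modules) (V : (f ⁻¹ᵁ U).toScheme.Opens) (I : Ideal Γ(Y, U))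
    (s : Sec (Coh.toGlobal (pU f hU)) (M.restrict (f ⁻¹ᵁ U).ι) V) :
    s ∈ I • (⊤ : Submodule Γ(Y, U) (Sec (Coh.toGlobal (pU f hU)) (M.restrict (f ⁻¹ᵁ U).ι) V)) ↔
      (show Γ(M, imU f V) from s) ∈
        I.map (f.appLE U (imU f V) (imU_le f V)).hom • (⊤ : Submodule Γ(X, imU f V) Γ(M, imU f V)) :=
  mem_map_smul_top (M := Γ(M, imU f V)) _ I
    (AddEquiv.refl _ : Sec (Coh.toGlobal (pU f hU)) (M.restrict (f ⁻¹ᵁ U).ι) V ≃+ Γ(M, imU f V))
    (fun b x => sec_smul_eq f hU M V b x) s

/-- The differential of a `0`-cochain on sections of `X`. -/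
lemma dL_zero_apply (M : X.Modules) {ι : Type u} (V : ι → (f ⁻¹ᵁ U).toScheme.Opens)
    (z : FormalLib.Coch (pU f hU) (M.restrict (f ⁻¹ᵁ U).ι) V 0) (i : Fin 2 → ι) :
    (show Γ(M, imU f (inter V i)) from FormalLib.dL (pU f hU) (M.restrict (f ⁻¹ᵁ U).ι) V 0 z i) =
      M.presheaf.map (homOfLE ((f ⁻¹ᵁ U).ι.image_mono (inter_comp_le V i (0 : Fin 2).succAbove))).op
          (show Γ(M, imU f (inter V (i ∘ (0 : Fin 2).succAbove))) from z (i ∘ (0 : Fin 2).succAbove)) -
        M.presheaf.map (homOfLE ((f ⁻¹ᵁ U).ι.image_mono (inter_comp_le V i (1 : Fin 2).succAbove))).op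
          (show Γ(M, imU f (inter V (i ∘ (1 : Fin 2).succAbove))) from z (i ∘ (1 : Fin 2).succAbove)) := by
  rw [FormalLib.dL_eq]
  exact cdiff_zero_apply _ _ i

/-- Smallness of a difference does not depend on the name of the open. -/
lemma diff_mem_of_eq {M : X.Modules} {A₁ A₂ W W' : X.Opens} (e : W = W') (h : W ≤ f ⁻¹ᵁ U) (h₁ : W ≤ A₁) (h₂ : W ≤ A₂)
    (I : Ideal Γ(Y, U)) (k : ℕ) (s : Γ(M, A₁)) (t : Γ(M, A₂))
    (hm : M.presheaf.map (homOfLE h₁).op s - M.presheaf.map (homOfLE h₂).op t ∈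
      I.map (f.appLE U W h).hom ^ k • (⊤ : Submodule Γ(X, W) Γ(M, W))) :
    M.presheaf.map (homOfLE (e ▸ h₁ : W' ≤ A₁)).op s - M.presheaf.map (homOfLE (e ▸ h₂ : W' ≤ A₂)).op t ∈
      I.map (f.appLE U W' (e ▸ h)).hom ^ k • (⊤ : Submodule Γ(X, W') Γ(M, W')) := by
  subst e
  exact hm

variable [IsProper f] [IsLocallyNoetherian Y] {M : X.Modules} (hM : Coh.IsCoh M) (I : Ideal Γ(Y, U))

include hU hM in
set_option maxHeartbeats 800000 in
/-- Sections small on the preimage come from small sections, and almost compatible families of sections are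
near sections. -/
theorem exists_section_bounds :
    ∃ (ι : Type u) (_ : Finite ι) (W : ι → X.Opens) (hW : ∀ a, W a ≤ f ⁻¹ᵁ U),
      (∀ a, IsAffineOpen (W a)) ∧ (∀ a b, IsAffineOpen (W a ⊓ W b)) ∧ f ⁻¹ᵁ U ≤ iSup W ∧ ∃ c : ℕ,
        (∀ (k : ℕ) (s : Γ((Scheme.Modules.pushforward f).obj M, U)),
          (∀ a, M.presheaf.map (homOfLE (hW a)).op s ∈
            I.map (f.appLE U (W a) (hW a)).hom ^ k • (⊤ : Submodule Γ(X, W a) Γ(M, W a))) →
          s ∈ I ^ (k - c) • (⊤ : Submodule Γ(Y, U) Γ((Scheme.Modules.pushforward f).obj M, U))) ∧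
        ∀ (n : ℕ) (z : ∀ a, Γ(M, W a)), (∀ a b, M.presheaf.map (homOfLE (inf_le_left : W a ⊓ W b ≤ W a)).op (z a) -
            M.presheaf.map (homOfLE (inf_le_right : W a ⊓ W b ≤ W b)).op (z b) ∈
            I.map (f.appLE U (W a ⊓ W b) (inf_le_left.trans (hW a))).hom ^ (n + c) •
              (⊤ : Submodule Γ(X, W a ⊓ W b) Γ(M, W a ⊓ W b))) →
          ∃ s : Γ((Scheme.Modules.pushforward f).obj M, U), ∀ a, M.presheaf.map (homOfLE (hW a)).op s - z a ∈
            I.map (f.appLE U (W a) (hW a)).hom ^ n • (⊤ : Submodule Γ(X, W a) Γ(M, W a)) := by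
  classical
  haveI := QCohLib.isNoetherianRing_section hU
  haveI : IsLocallyNoetherian X := LocallyOfFiniteType.isLocallyNoetherian f
  haveI : IsProper (f ∣_ U) := MorphismProperty.of_isPullback (isPullback_morphismRestrict f U).flip ‹_›
  haveI : IsProper (pU f hU) := by unfold pU; infer_instance
  let j := (f ⁻¹ᵁ U).ι
  let M' := M.restrict j
  have hM' : Coh.IsCoh M' := ProjCoh.isCoh_of_iso
    ((Scheme.Modules.restrictFunctorIsoPullback j).app M).symm (PullbackMod.isCoh_pullback _ M hM)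
  haveI := hM'.1
  obtain ⟨ι, hι, V, hcov, haff⟩ := FormalLib.exists_affine_cover (pU f hU)
  haveI := hι
  obtain ⟨c₁, hc₁⟩ := FormalLib.exists_cyc_stable (pU f hU) M' V hM' hcov haff I 0
  obtain ⟨c₂, hc₂⟩ := FormalLib.exists_cocycle_near (pU f hU) M' V hM' hcov haff I 0
  let φ := Coh.toGlobal (pU f hU)
  let W : (Fin 1 → ι) → X.Opens := fun i => imU f (inter V i)
  have hW : ∀ i, W i ≤ f ⁻¹ᵁ U := fun i => imU_le f _
  have hinf : ∀ i i' : Fin 1 → ι, W i ⊓ W i' = imU f (inter V ![i' 0, i 0]) := by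
    intro i i'
    have e : inter V i ⊓ inter V i' = inter V ![i' 0, i 0] := by
      refine le_antisymm (le_iInf fun a => ?_) (le_inf (le_iInf fun a => ?_) (le_iInf fun a => ?_))
      · fin_cases a
        · exact inf_le_right.trans (inter_le V i' 0)
        · exact inf_le_left.trans (inter_le V i 0)
      · obtain rfl : a = 0 := Subsingleton.elim _ _
        exact inter_le V ![i' 0, i 0] 1
      · obtain rfl : a = 0 := Subsingleton.elim _ _
        exact inter_le V ![i' 0, i 0] 0
    show j ''ᵁ _ ⊓ j ''ᵁ _ = j ''ᵁ _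
    rw [← e]
    exact Opens.ext (Set.image_inter j.isOpenEmbedding.injective).symm
  -- restriction to the cover
  let r : Γ((Scheme.Modules.pushforward f).obj M, U) →ₗ[Γ(Y, U)] FormalLib.Coch (pU f hU) M' V 0 :=
    LinearMap.pi fun i =>
      { toFun := fun s => (show Sec φ M' (inter V i) from M.presheaf.map (homOfLE (hW i)).op s)
        map_add' := fun s t => map_add (M.presheaf.map (homOfLE (hW i)).op).hom s t
        map_smul' := fun b s => by
          rw [RingHom.id_apply, sec_smul_eq f hU M (inter V i) b]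
          refine (M.map_smul (homOfLE (hW i)) (f.app U b) s).trans ?_
          refine congrArg (fun c : Γ(X, W i) => c • M.presheaf.map (homOfLE (hW i)).op s) ?_
          rw [Scheme.Hom.app_eq_appLE]
          exact appLE_res f (hW i) le_rfl b }
  have hcovX : f ⁻¹ᵁ U ≤ iSup W := by
    intro x hx
    obtain ⟨a, ha⟩ := Opens.mem_iSup.1 (hcov (show (⟨x, hx⟩ : (f ⁻¹ᵁ U).toScheme) ∈ ⊤ from trivial))
    exact Opens.mem_iSup.2 ⟨fun _ => a, ⟨x, hx⟩, (inter_const a).le ha, rfl⟩
  have hrinj : Function.Injective r := fun s t hst =>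
    QCohLib.eq_of_cover M hW hcovX s t fun i => congr_fun hst i
  have hrran : LinearMap.ker (FormalLib.dL (pU f hU) M' V 0) ≤ LinearMap.range r := by
    intro z hz
    have hz' : cdiff V (Coh.toAb M').obj 0 z = 0 := (FormalLib.dL_eq (pU f hU) M' V 0 z).symm.trans hz
    obtain ⟨s', hs'⟩ := aug_exact (U := V) (Coh.toAb M') (V := ⊤) (fun a => le_top) hcov z hz'
    refine ⟨M.presheaf.map (homOfLE (f ⁻¹ᵁ U).ι_image_top.ge).op (show Γ(M, j ''ᵁ ⊤) from s'), funext fun i => ?_⟩
    refine (restr_trans M (f ⁻¹ᵁ U).ι_image_top.ge (hW i) _).trans ?_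
    have h2 := congr_fun hs' i
    refine Eq.trans ?_ h2
    rfl
  refine ⟨Fin 1 → ι, inferInstance, W, hW, fun i => (haff 0 i).image_of_isOpenImmersion j,
    fun i i' => by rw [hinf]; exact (haff 1 _).image_of_isOpenImmersion j, hcovX, max c₁ c₂,
    fun k s hs => ?_, fun n z hz => ?_⟩
  · rcases lt_or_ge k (max c₁ c₂) with hk | hk
    · rw [Nat.sub_eq_zero_of_le hk.le, pow_zero, Ideal.one_eq_top, Submodule.top_smul]; trivial
    have hr0 : FormalLib.dL (pU f hU) M' V 0 (r s) = 0 := by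
      funext i
      refine (dL_zero_apply f hU M V (r s) i).trans (sub_eq_zero.2 ?_)
      exact (restr_trans M (hW _) _ s).trans (restr_trans M (hW _) _ s).symm
    have hr1 : r s ∈ I ^ k • (⊤ : Submodule Γ(Y, U) (FormalLib.Coch (pU f hU) M' V 0)) := by
      rw [FormalLib.mem_smul_top_iff]
      intro i
      rw [mem_smul_sec f hU, Ideal.map_pow]
      exact hs i
    have h3 := hc₁ k (by omega) ⟨hr0, hr1⟩
    rw [show FormalLib.bdry (pU f hU) M' V I 0 k = ⊥ from rfl, sup_bot_eq] at h3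
    have h4 : r s ∈ I ^ (k - max c₁ c₂) • LinearMap.range r :=
      Submodule.smul_mono (Ideal.pow_le_pow_right (by omega)) (inf_le_left.trans hrran) h3
    rw [← Submodule.map_top, ← Submodule.map_smul''] at h4
    obtain ⟨t, ht, hts⟩ := h4
    rwa [← hrinj hts]
  · let z' : FormalLib.Coch (pU f hU) M' V 0 := fun i => (show Sec φ M' (inter V i) from z i)
    have hd : FormalLib.dL (pU f hU) M' V 0 z' ∈
        I ^ (n + c₂) • (⊤ : Submodule Γ(Y, U) (FormalLib.Coch (pU f hU) M' V 1)) := by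
      rw [FormalLib.mem_smul_top_iff]
      intro i
      rw [mem_smul_sec f hU, Ideal.map_pow]
      have e : W (i ∘ (0 : Fin 2).succAbove) ⊓ W (i ∘ (1 : Fin 2).succAbove) = imU f (inter V i) := by
        rw [hinf]
        congr 2
        funext a
        fin_cases a <;> rfl
      have h1 := diff_mem_of_eq f e (inf_le_left.trans (hW _)) inf_le_left inf_le_right I _ _ _
        (hz (i ∘ (0 : Fin 2).succAbove) (i ∘ (1 : Fin 2).succAbove))
      rw [← dL_zero_apply f hU M V z' i] at h1
      exact Submodule.smul_mono (Ideal.pow_le_pow_right (by omega : n + c₂ ≤ n + max c₁ c₂)) le_rfl h1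
    obtain ⟨y, hy, hzy⟩ := hc₂ n z' hd
    obtain ⟨s, hs⟩ := hrran (show y ∈ LinearMap.ker _ from hy)
    refine ⟨s, fun i => ?_⟩
    rw [FormalLib.mem_smul_top_iff] at hzy
    have h1 := hzy i
    rw [mem_smul_sec f hU, Ideal.map_pow] at h1
    rw [← neg_sub]
    refine neg_mem ?_
    have h2 : (show Γ(M, W i) from y i) = M.presheaf.map (homOfLE (hW i)).op s := (congr_fun hs i).symm
    rw [← h2]
    exact h1

end Groth.Agent.FormalSys
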