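import Groth.Agent.FormalSysLib.Existence
import Groth.Agent.RelDivLib.ImmBC
import Groth.Agent.ClSubLib.Annihilator
import Groth.Prelude.Def_CohB1

/-!
# Algebraization of formal closed subschemes
-/

set_option autoImplicit false
set_option linter.unusedSectionVars false
set_option linter.style.haveILetI false

universe u

open CategoryTheory CategoryTheory.Limits AlgebraicGeometry TopologicalSpace Opposite
open Groth.Agent.CohBase Groth.Agent.ProjCoh Groth.Agent.QCohLib

noncomputable section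

namespace Groth.Agent.FormalSys

section Inter

variable {X : Scheme.{u}}

/-- The intersection of two closed subschemes has the sum of the ideals. -/
theorem ker_comp_of_isPullback {P Z T : Scheme.{u}} {q : P ⟶ T} {p : P ⟶ Z} {i : T ⟶ X} {c : Z ⟶ X}
    (hc : IsPullback q p i c) [IsClosedImmersion i] [IsClosedImmersion c] :
    (p ≫ c).ker = c.ker ⊔ i.ker := by
  haveI : IsClosedImmersion p := MorphismProperty.of_isPullback hc ‹_›
  refine Scheme.IdealSheafData.ext (funext fun U => ?_)
  rw [Scheme.IdealSheafData.ideal_sup, Pi.sup_apply, Scheme.Hom.ker_apply, Scheme.Hom.ker_apply, Scheme.Hom.ker_apply]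
  have hcl : IsClosedImmersion (i ∣_ U.1) := IsZariskiLocalAtTarget.restrict ‹_› _
  obtain ⟨-, hk⟩ := RelDivLib.closed_and_ker_pullback hc U.2 hcl (U.2.preimage c) le_rfl
  rw [← Scheme.Hom.app_eq_appLE] at hk
  show RingHom.ker ((p.app (c ⁻¹ᵁ U.1)).hom.comp (c.app U.1).hom) = _
  rw [← RingHom.comap_ker, hk,
    Ideal.comap_map_of_surjective _ (c.app_surjective U.1 U.2), ← RingHom.ker_eq_comap_bot, sup_comm]

/-- On global sections of a morphism to an affine scheme. -/
theorem appLE_top_eq_φV {A : Type u} [CommRing A] [X.Over (Spec (CommRingCat.of A))] (U : X.Opens) (a : A) :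
    (X ↘ Spec (CommRingCat.of A)).appLE ⊤ U le_top ((Scheme.ΓSpecIso (CommRingCat.of A)).inv a) =
      φV (FormalLib.cst A X) U a := by
  rfl

/-- Sections of the structure module in an ideal multiple of the whole. -/
theorem mem_smul_structure {U : X.Opens} (J : Ideal Γ(X, U)) (s : Γ(Coh.structureModule X, U)) :
    s ∈ J • (⊤ : Submodule Γ(X, U) Γ(Coh.structureModule X, U)) ↔ (show Γ(X, U) from s) ∈ J := by
  refine ⟨fun h => ?_, fun h => ?_⟩
  · refine Submodule.smul_induction_on h (fun b hb w _ => J.mul_mem_right _ hb) (fun a b ha hb => add_mem ha hb)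
  · have h1 := Submodule.smul_mem_smul (N := (⊤ : Submodule Γ(X, U) Γ(Coh.structureModule X, U)))
      (n := (show Γ(Coh.structureModule X, U) from (1 : Γ(X, U)))) h trivial
    have e : (show Γ(X, U) from s) • (show Γ(Coh.structureModule X, U) from (1 : Γ(X, U))) = s :=
      mul_one (show Γ(X, U) from s)
    exact e ▸ h1

end Inter

variable {A : Type u} [CommRing A] {X : Scheme.{u}} [X.Over (Spec (CommRingCat.of A))] (I : Ideal A)

/-- The ideal of a thickening of the closed fibre. -/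
theorem ker_thickι (n : ℕ) (U : X.affineOpens) :
    RingHom.ker ((CohB1.thickι (X ↘ Spec (CommRingCat.of A)) I n).app U.1).hom = JU I U.1 ^ (n + 1) := by
  let q := CohB1.specQuot I n
  haveI : IsClosedImmersion q := IsClosedImmersion.spec_of_surjective _ Ideal.Quotient.mk_surjective
  have hcl : IsClosedImmersion (q ∣_ ⊤) := IsZariskiLocalAtTarget.restrict ‹_› _
  obtain ⟨-, hk⟩ := RelDivLib.closed_and_ker_pullback
    (IsPullback.of_hasPullback (X ↘ Spec (CommRingCat.of A)) q).flip (isAffineOpen_top _) hcl U.2 le_top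
  refine hk.trans ?_
  rw [← Ideal.map_pow]
  refine le_antisymm (Ideal.map_le_iff_le_comap.2 fun b hb => ?_) (Ideal.map_le_iff_le_comap.2 fun a ha => ?_)
  · obtain ⟨a, rfl⟩ : ∃ a : A, (Scheme.ΓSpecIso (CommRingCat.of A)).inv a = b :=
      (ConcreteCategory.bijective_of_isIso (Scheme.ΓSpecIso (CommRingCat.of A)).inv).2 b
    rw [Ideal.mem_comap, appLE_top_eq_φV]
    refine Ideal.mem_map_of_mem _ ?_
    rw [RingHom.mem_ker] at hb
    have h2 := congr($(Scheme.ΓSpecIso_inv_naturality (CommRingCat.ofHom (Ideal.Quotient.mk (I ^ (n + 1))))) a)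
    have h3 : (Scheme.ΓSpecIso (CommRingCat.of (A ⧸ I ^ (n + 1)))).inv (Ideal.Quotient.mk (I ^ (n + 1)) a) = 0 :=
      h2.trans hb
    rw [← Ideal.Quotient.eq_zero_iff_mem]
    exact (ConcreteCategory.bijective_of_isIso (Scheme.ΓSpecIso (CommRingCat.of (A ⧸ I ^ (n + 1)))).inv).1
      (h3.trans (map_zero _).symm)
  · rw [Ideal.mem_comap, ← appLE_top_eq_φV]
    refine Ideal.mem_map_of_mem _ ?_
    rw [RingHom.mem_ker]
    have h2 := congr($(Scheme.ΓSpecIso_inv_naturality (CommRingCat.ofHom (Ideal.Quotient.mk (I ^ (n + 1))))) a)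
    refine Eq.trans h2.symm ?_
    show (Scheme.ΓSpecIso (CommRingCat.of (A ⧸ I ^ (n + 1)))).inv (Ideal.Quotient.mk (I ^ (n + 1)) a) = 0
    rw [Ideal.Quotient.eq_zero_iff_mem.2 ha, map_zero]

variable {I} [IsNoetherianRing A] [IsAdicComplete I A]
  [LocallyOfFiniteType (X ↘ Spec (CommRingCat.of A))] [AlgebraicGeometry.IsNoetherian X]

/-- A compatible family of maps out of a coherent module gives a map out of its completion. -/
theorem exists_completion_map' {G : ℕᵒᵖ ⥤ X.Modules} (hG : Formal.IsCohFormal I G) {E : X.Modules}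
    (hE : Coh.IsCoh E) (τ : ∀ n, E ⟶ G.obj (op n)) (hτ : ∀ {n k : ℕ} (h : n ≤ k), τ k ≫ tr G h = τ n) :
    ∃ Ψ : Formal.completion I E ⟶ G, ∀ n, cπ I E n ≫ Ψ.app (op n) = τ n := by
  choose l hl using fun n => exists_desc_affine (cπ I E n) (τ n) (fun U hU => (app_cπ hE n hU).1)
    fun U hU s hs => by
      have h1 := app_mem_smul (τ n) ((cπ_app_mem hE n hU).1 hs)
      rwa [smul_top_eq_bot hG n hU, Submodule.mem_bot] at h1
  obtain ⟨Ψ, hΨ⟩ := exists_natTrans (F := Formal.completion I E) (G := G) l fun {n k} h => by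
    haveI := epi_cπ (I := I) hE k
    refine (cancel_epi (cπ I E k)).1 ?_
    rw [← Category.assoc, ← Category.assoc, cπ_tr, hl, hl, hτ h]
  exact ⟨Ψ, fun n => by rw [hΨ, hl]⟩

/-- A module with proper support and zero reduction is zero. -/
theorem eq_zero_of_reduction_eq_zero {M : X.Modules} (hM : Coh.IsCoh M) (hs : PropSupp A M)
    (h : ∀ (U : X.Opens), IsAffineOpen U → ∀ m : Γ(M, U), (cπ I M 0).app U m = 0) (U : X.Opens) (m : Γ(M, U)) :
    m = 0 := by
  refine eq_zero_of_disjoint_support (fun x _ hx => ?_) m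
  obtain ⟨T, i, hi, -, hr, hp⟩ := ClSubLib.exists_model _ hs
  haveI := hi
  haveI := hp
  let p := i ≫ (X ↘ Spec (CommRingCat.of A))
  haveI : IsProper p := hp
  obtain ⟨t, rfl⟩ : x ∈ Set.range i := by rw [hr]; exact hx
  obtain ⟨q, ⟨t', rfl⟩, hq⟩ := (p.isClosedMap.isClosed_range).exists_closed_singleton ⟨_, t, rfl⟩
  have hmax : ((p t').asIdeal : Ideal A).IsMaximal := (PrimeSpectrum.isClosed_singleton_iff_isMaximal _).1 hq
  have hI : I ≤ ((X ↘ Spec (CommRingCat.of A)) (i t')).asIdeal :=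
    (IsAdicComplete.le_jacobson_bot I).trans (sInf_le ⟨bot_le, hmax⟩)
  have hmem : i t' ∈ CohB1.support M := hr.le ⟨t', rfl⟩
  refine mem_support_reduction hM hmem hI (subsingleton_of_forall_eq 0 fun z => ?_)
  haveI := epi_cπ (I := I) hM 0
  obtain ⟨w, rfl⟩ := (PullbackMod.epi_iff_stalk (cπ I M 0)).1 inferInstance (i t') z
  have hz : cπ I M 0 = 0 := hom_ext_affine fun U hU s => h U hU s
  obtain ⟨W, hW, σ, rfl⟩ := TopCat.Presheaf.exists_germ_eq M.presheaf w
  rw [PullbackMod.stalkLin_germ, hz]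
  exact map_zero _

set_option maxHeartbeats 800000 in
/-- Algebraization of a cyclic formal module. -/
theorem exists_closed_of_ideals [IsSeparated (X ↘ Spec (CommRingCat.of A))] (J : ℕ → X.IdealSheafData)
    (hJ : ∀ (n : ℕ) (U : X.affineOpens), (J n).ideal U = (J (n + 1)).ideal U ⊔ JU I U.1 ^ (n + 1))
    (hp : ClSub.IsProperOver (X ↘ Spec (CommRingCat.of A)) ((J 0).support : Set X)) :
    ∃ K : X.IdealSheafData, IsProper (K.subschemeι ≫ (X ↘ Spec (CommRingCat.of A))) ∧
      ∀ (n : ℕ) (U : X.affineOpens), (J n).ideal U = K.ideal U ⊔ JU I U.1 ^ (n + 1) := by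
  classical
  let O := Coh.structureModule X
  have hO : Coh.IsCoh O := DevLib.isCoh_structureModule X
  haveI := hO.1
  haveI := fun n => epi_iqπ (J n) hO.1
  have hle : ∀ n, ∀ U : X.affineOpens, (J (n + 1)).ideal U ≤ (J n).ideal U := fun n U => by
    rw [hJ n U]; exact le_sup_left
  have hkill : ∀ n, ClSub.KilledByIdeal (J (n + 1)) ((iqF (J n)).obj O) := fun n U a ha s =>
    killed_iq (J n) hO.1 U a (hle n U ha) s
  choose t ht using fun n => exists_iq_desc (J (n + 1)) hO.1 (iqπ (J n) O) (hkill n)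
  let G : ℕᵒᵖ ⥤ X.Modules := Functor.ofOpSequence (X := fun n => (iqF (J n)).obj O) t
  have hGc : ∀ n, Coh.IsCoh (G.obj (op n)) := fun n => isCoh_iq (J n) hO
  let π : ∀ n, O ⟶ G.obj (op n) := fun n => iqπ (J n) O
  have hπ1 : ∀ n, π (n + 1) ≫ tr G (Nat.le_succ n) = π n := fun n => by
    rw [tr_ofOpSequence_succ]; exact ht n
  have hπs : ∀ (n : ℕ) (U : X.Opens), IsAffineOpen U → Function.Surjective ((π n).app U) :=
    fun n U hU => (app_iqπ (J n) hO.1 hU).1
  have hπk : ∀ (n : ℕ) (U : X.Opens) (hU : IsAffineOpen U) (s : Γ(O, U)),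
      (π n).app U s = 0 ↔ (show Γ(X, U) from s) ∈ (J n).ideal ⟨U, hU⟩ := fun n U hU s => by
    rw [← mem_smul_structure, ← (app_iqπ (J n) hO.1 hU).2]
    exact Iff.rfl
  have hG : Formal.IsCohFormal I G := by
    refine isCohFormal_of_succ hGc fun n U hU => ?_
    have e : ∀ s, (tr G (Nat.le_succ n)).app U ((π (n + 1)).app U s) = (π n).app U s := fun s =>
      congr($(hπ1 n).app U s)
    refine ⟨fun y => ?_, ?_⟩
    · obtain ⟨s, rfl⟩ := hπs n U hU y
      exact ⟨_, e s⟩
    · refine le_antisymm (fun y hy => ?_) ?_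
      · obtain ⟨s, rfl⟩ := hπs (n + 1) U hU y
        have h1 := (hπk n U hU s).1 ((e s).symm.trans hy)
        rw [hJ n ⟨U, hU⟩] at h1
        obtain ⟨b, hb, c, hc, hbc⟩ := Submodule.mem_sup.1 h1
        rw [← map_smul_top (π (n + 1)) (hπs (n + 1) U hU)]
        refine ⟨(show Γ(O, U) from c), (mem_smul_structure _ _).2 hc, ?_⟩
        have h2 : (π (n + 1)).app U (show Γ(O, U) from b) = 0 := (hπk (n + 1) U hU _).2 hb
        have h3 : s = (show Γ(O, U) from b) + (show Γ(O, U) from c) := hbc.symm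
        show (π (n + 1)).app U (show Γ(O, U) from c) = (π (n + 1)).app U s
        rw [h3, map_add, h2, zero_add]
      · rw [← map_smul_top (π (n + 1)) (hπs (n + 1) U hU)]
        rintro _ ⟨c, hc, rfl⟩
        refine (e c).trans ((hπk n U hU c).2 ?_)
        rw [hJ n ⟨U, hU⟩]
        exact Ideal.mem_sup_right ((mem_smul_structure _ c).1 hc)
  have hG0 : PropSupp A (G.obj (op 0)) := by
    refine ClSubLib.isProperOver_subset _ hp (PullbackMod.isClosed_support_of_isFT (hGc 0).2) ?_
    rw [← Scheme.IdealSheafData.range_subschemeι]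
    exact ClSubLib.support_pushforward_subset (J 0).subschemeι _
  obtain ⟨M, hM, hMs, ⟨θ⟩⟩ := exists_algebraization_propSupp hG hG0
  have hπtr : ∀ {n k : ℕ} (h : n ≤ k), π k ≫ tr G h = π n := by
    intro n k h
    induction h with
    | refl => rw [tr_refl, Category.comp_id]
    | @step m h ih =>
      rw [← tr_comp G h (Nat.le_succ m), ← Category.assoc, hπ1, ih]
  obtain ⟨Ψ, hΨ⟩ := exists_completion_map' hG hO π hπtr
  obtain ⟨φ, hφ, -⟩ := HomLib.existsUnique_of_completion I hO hM
    (ClSubLib.isProperOver_subset _ hMs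
      ((PullbackMod.isClosed_support_of_isFT hO.2).inter (PullbackMod.isClosed_support_of_isFT hM.2))
      Set.inter_subset_right) (Ψ ≫ θ.inv)
  have hev : ∀ (n : ℕ) (U : X.Opens) (s : Γ(O, U)),
      (cπ I M n).app U (φ.app U s) = (θ.inv.app (op n)).app U ((π n).app U s) := fun n U s => by
    refine (congr($(hφ n).app U s)).symm.trans ?_
    show (θ.inv.app (op n)).app U ((Ψ.app (op n)).app U ((cπ I O n).app U s)) = _
    rw [← app_comp_apply (cπ I O n), hΨ]
  have hinv : ∀ (n : ℕ) (U : X.Opens) (z), (θ.hom.app (op n)).app U z = 0 → z = 0 := fun n U z hz => by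
    refine (congr($(θ.hom_inv_id_app (op n)).app U z)).symm.trans ?_
    show (θ.inv.app (op n)).app U ((θ.hom.app (op n)).app U z) = 0
    rw [hz, map_zero]
  have hinv' : ∀ (n : ℕ) (U : X.Opens) (z), (θ.hom.app (op n)).app U ((θ.inv.app (op n)).app U z) = z := fun n U z =>
    congr($(θ.inv_hom_id_app (op n)).app U z)
  -- surjectivity
  have hφs : ∀ U : X.Opens, IsAffineOpen U → Function.Surjective (φ.app U) := fun U hU m => by
    obtain ⟨-, hC⟩ := isCoh_kernel_cokernel φ hO hM
    haveI : Epi (cokernel.π φ) := inferInstance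
    refine (FormalLib.cokernel_app φ hO.1 hM.1 hU).2 m ?_
    refine eq_zero_of_reduction_eq_zero (I := I) hC (cohClass_propSupp.quot (cokernel.π φ) hM hC hMs) (fun V hV c => ?_) U _
    obtain ⟨m', rfl⟩ := (FormalLib.cokernel_app φ hO.1 hM.1 hV).1 c
    obtain ⟨s, hs⟩ := hπs 0 V hV ((θ.hom.app (op 0)).app V ((cπ I M 0).app V m'))
    have h1 : (cπ I M 0).app V m' = (cπ I M 0).app V (φ.app V s) := by
      rw [hev, hs]
      exact (congr($(θ.hom_inv_id_app (op 0)).app V _)).symm
    have h2 := app_mem_smul (cokernel.π φ) ((cπ_eq_iff hM 0 hV).1 h1)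
    rw [map_sub, show (cokernel.π φ).app V (φ.app V s) = 0 from congr($(cokernel.condition φ).app V s),
      sub_zero] at h2
    exact (cπ_app_mem hC 0 hV).2 h2
  haveI := hM.1
  let K := ClSubLib.annIdeal M hM.2
  refine ⟨K, ?_, fun n U => ?_⟩
  · exact (ClSubLib.isProperOver_iff _ K.subschemeι (ClSubLib.range_annIdeal M hM.2)).1 hMs
  let one : Γ(O, U.1) := (show Γ(O, U.1) from (1 : Γ(X, U.1)))
  have hgen : ∀ s : Γ(O, U.1), φ.app U.1 s = (show Γ(X, U.1) from s) • φ.app U.1 one := fun s => by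
    rw [← Scheme.Modules.Hom.app_smul]
    exact congrArg _ (mul_one (show Γ(X, U.1) from s)).symm
  have hann : ∀ a : Γ(X, U.1), a ∈ K.ideal U ↔ φ.app U.1 (show Γ(O, U.1) from a) = 0 := fun a => by
    refine ⟨fun ha => by rw [hgen]; exact Module.mem_annihilator.1 ha _, fun ha => Module.mem_annihilator.2 fun m => ?_⟩
    obtain ⟨s, rfl⟩ := hφs U.1 U.2 m
    rw [hgen, smul_comm]
    rw [hgen] at ha
    exact (congrArg ((show Γ(X, U.1) from s) • ·) ha).trans (smul_zero _)
  have key : ∀ a : Γ(X, U.1), a ∈ (J n).ideal U ↔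
      φ.app U.1 (show Γ(O, U.1) from a) ∈ JU I U.1 ^ (n + 1) • (⊤ : Submodule Γ(X, U.1) Γ(M, U.1)) := fun a => by
    rw [← cπ_app_mem hM n U.2, hev, show (J n).ideal U = (J n).ideal ⟨U.1, U.2⟩ from rfl,
      ← hπk n U.1 U.2 (show Γ(O, U.1) from a)]
    refine ⟨fun h => by rw [h, map_zero], fun h => ?_⟩
    rw [← hinv' n U.1 ((π n).app U.1 _), h, map_zero]
  refine le_antisymm (fun a ha => ?_) (sup_le (fun a ha => ?_) fun a ha => ?_)
  · have h1 := (key a).1 ha
    rw [← map_smul_top φ (hφs U.1 U.2)] at h1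
    obtain ⟨b, hb, hb'⟩ := h1
    refine Submodule.mem_sup.2 ⟨a - (show Γ(X, U.1) from b), (hann _).2 ?_, _, (mem_smul_structure _ b).1 hb,
      sub_add_cancel _ _⟩
    show φ.app U.1 ((show Γ(O, U.1) from a) - b) = 0
    rw [map_sub, sub_eq_zero]
    exact hb'.symm
  · refine (key a).2 ?_
    rw [(hann a).1 ha]
    exact zero_mem _
  · exact (key a).2 (app_mem_smul φ ((mem_smul_structure _ (show Γ(O, U.1) from a)).2 ha))

end Groth.Agent.FormalSys

namespace Groth.Agent.FormalSys

/-- Formal closed subschemes are algebraizable. -/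
theorem exists_algebraize_closed {A : Type u} [CommRing A] [IsNoetherianRing A] {I : Ideal A} [IsAdicComplete I A]
    {X : Scheme.{u}} (f : X ⟶ Spec (CommRingCat.of A)) [IsSeparated f] [LocallyOfFiniteType f] [QuasiCompact f]
    (Z : ℕ → Scheme.{u}) (z : (n : ℕ) → (Z n ⟶ CohB1.thick f I n)) (t : (n : ℕ) → (Z n ⟶ Z (n + 1)))
    (hz : ∀ n, IsClosedImmersion (z n))
    (ht : ∀ n, IsPullback (t n) (z n) (z (n + 1)) (CohB1.thickTrans f I n))
    (hp : IsProper (z 0 ≫ CohB1.thickToBase f I 0)) :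
    ∃ (W : Scheme.{u}) (i : W ⟶ X) (w : (n : ℕ) → (Z n ⟶ W)), IsClosedImmersion i ∧
      IsProper (i ≫ f) ∧ (∀ n, w n = t n ≫ w (n + 1)) ∧ ∀ n, IsPullback (w n) (z n) i (CohB1.thickι f I n) := by
  letI : X.Over (Spec (CommRingCat.of A)) := ⟨f⟩
  haveI : LocallyOfFiniteType (X ↘ Spec (CommRingCat.of A)) := ‹LocallyOfFiniteType f›
  haveI : IsSeparated (X ↘ Spec (CommRingCat.of A)) := ‹IsSeparated f›
  haveI : IsLocallyNoetherian X := LocallyOfFiniteType.isLocallyNoetherian f
  haveI : CompactSpace X := QuasiCompact.compactSpace_of_compactSpace f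
  haveI : AlgebraicGeometry.IsNoetherian X := { }
  have hq : ∀ m : ℕ, IsClosedImmersion (CohB1.thickι f I m) := fun m => by
    haveI : IsClosedImmersion (CohB1.specQuot I m) :=
      IsClosedImmersion.spec_of_surjective _ Ideal.Quotient.mk_surjective
    exact inferInstanceAs (IsClosedImmersion (pullback.fst f (CohB1.specQuot I m)))
  haveI := hz
  haveI := hq
  let c : ∀ n, Z n ⟶ X := fun n => z n ≫ CohB1.thickι f I n
  have htι : ∀ n, CohB1.thickTrans f I n ≫ CohB1.thickι f I (n + 1) = CohB1.thickι f I n := fun n => by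
    exact (pullback.lift_fst ..).trans (Category.comp_id _)
  have hsq : ∀ n, IsPullback (z n) (t n) (CohB1.thickι f I n) (c (n + 1)) := fun n => by
    refine IsPullback.of_isLimit (c := PullbackCone.mk (z n) (t n)
      (by rw [← htι n, ← Category.assoc, ← (ht n).w, Category.assoc])) ?_
    refine PullbackCone.IsLimit.mk _ (fun s => (ht n).lift s.snd s.fst ?_) (fun s => (ht n).lift_snd _ _ _)
      (fun s => (ht n).lift_fst _ _ _) fun s m h1 h2 => (ht n).hom_ext (h2.trans ((ht n).lift_fst _ _ _).symm)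
        (h1.trans ((ht n).lift_snd _ _ _).symm)
    refine (cancel_mono (CohB1.thickι f I (n + 1))).1 ?_
    rw [Category.assoc, Category.assoc, htι n]
    exact s.condition.symm
  have htc : ∀ n, t n ≫ c (n + 1) = c n := fun n => (hsq n).w.symm
  have hk : ∀ (n : ℕ) (U : X.affineOpens),
      ((CohB1.thickι f I n).ker).ideal U = JU I U.1 ^ (n + 1) := fun n U => by
    rw [Scheme.Hom.ker_apply]
    exact ker_thickι I n U
  obtain ⟨K, hKp, hK⟩ := exists_closed_of_ideals (I := I) (fun n => (c n).ker) (fun n U => by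
    show (c n).ker.ideal U = (c (n + 1)).ker.ideal U ⊔ _
    rw [← hk n U, ← Pi.sup_apply (f := (c (n + 1)).ker.ideal), ← Scheme.IdealSheafData.ideal_sup,
      ← ker_comp_of_isPullback (hsq n), htc n]) (by
    haveI := hp
    haveI : IsClosedImmersion (CohB1.specQuot I 0) :=
      IsClosedImmersion.spec_of_surjective _ Ideal.Quotient.mk_surjective
    refine (ClSubLib.isProperOver_iff _ (c 0) ?_).2 ?_
    · show Set.range (c 0) = ((c 0).ker.support : Set X)
      rw [Scheme.Hom.support_ker, IsClosed.closure_eq (c 0).isClosedEmbedding.isClosed_range]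
    · have e : c 0 ≫ f = (z 0 ≫ CohB1.thickToBase f I 0) ≫ CohB1.specQuot I 0 :=
        (Category.assoc _ _ _).trans ((congrArg (z 0 ≫ ·) pullback.condition).trans (Category.assoc _ _ _).symm)
      show IsProper (c 0 ≫ f)
      rw [e]
      infer_instance)
  let i := K.subschemeι
  have hle : ∀ n, i.ker ≤ (c n).ker := fun n => by
    rw [Scheme.IdealSheafData.ker_subschemeι]
    exact fun U => by rw [hK n U]; exact le_sup_left
  let w : ∀ n, Z n ⟶ K.subscheme := fun n => IsClosedImmersion.lift i (c n) (hle n)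
  have hw : ∀ n, w n ≫ i = c n := fun n => IsClosedImmersion.lift_fac _ _ _
  refine ⟨K.subscheme, i, w, inferInstance, hKp, fun n => ?_, fun n => ?_⟩
  · rw [← cancel_mono i, Category.assoc, hw, hw, htc]
  · let P := pullback i (CohB1.thickι f I n)
    let l : Z n ⟶ P := pullback.lift (w n) (z n) (hw n)
    have hl : l ≫ pullback.snd _ _ ≫ CohB1.thickι f I n = c n := by
      rw [← Category.assoc, pullback.lift_snd]
    haveI : IsClosedImmersion (pullback.snd i (CohB1.thickι f I n) ≫ CohB1.thickι f I n) := inferInstance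
    haveI : IsIso l := by
      refine IsClosedImmersion.isIso_of_ker_eq (c n) _ l hl ?_
      rw [ker_comp_of_isPullback (IsPullback.of_hasPullback i (CohB1.thickι f I n))]
      refine Scheme.IdealSheafData.ext (funext fun U => ?_)
      rw [Scheme.IdealSheafData.ideal_sup, Pi.sup_apply, hk, Scheme.IdealSheafData.ker_subschemeι, hK n U, sup_comm]
    exact (IsPullback.of_hasPullback i (CohB1.thickι f I n)).of_iso (asIso l).symm (Iso.refl _) (Iso.refl _)
      (Iso.refl _) (by simp only [Iso.symm_hom, asIso_inv, Iso.refl_hom, Category.comp_id]; rw [IsIso.eq_inv_comp]; exact pullback.lift_fst ..) (by simp only [Iso.symm_hom, asIso_inv, Iso.refl_hom, Category.comp_id]; rw [IsIso.eq_inv_comp]; exact pullback.lift_snd ..) (by simp) (by simp)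

end Groth.Agent.FormalSys
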