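import Groth.Agent.FormalSysLib.Power

/-!
# Algebraization of formal modules receiving a completion with bounded kernel and cokernel
-/

set_option autoImplicit false

universe u

open CategoryTheory CategoryTheory.Limits AlgebraicGeometry TopologicalSpace Opposite
open Groth.Agent.CohBase Groth.Agent.ProjCoh Groth.Agent.QCohLib

noncomputable section

namespace Groth.Agent.FormalSys

variable {A : Type u} [CommRing A] {X : Scheme.{u}} [X.Over (Spec (CommRingCat.of A))]
  [AlgebraicGeometry.IsNoetherian X] {I : Ideal A}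

/-- An isomorphism from the completion, out of compatible projections. -/
theorem exists_iso_completion {F : ℕᵒᵖ ⥤ X.Modules} {F' : X.Modules} (hF' : Coh.IsCoh F')
    (τ : ∀ n : ℕ, F' ⟶ F.obj (op n)) (hcompat : ∀ {n n' : ℕ} (h : n ≤ n'), τ n' ≫ tr F h = τ n)
    (hτ : ∀ (n : ℕ) (U : X.Opens), IsAffineOpen U → Function.Surjective ((τ n).app U) ∧
      LinearMap.ker (appLinear (τ n) U) = JU (I ^ (n + 1)) U • ⊤) :
    ∃ β : Formal.completion I F' ≅ F, ∀ n : ℕ, Formal.modPowπ I (n + 1) F' ≫ β.hom.app (op n) = τ n := by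
  choose hz hiso using fun n => exists_isIso_desc (J := I ^ (n + 1)) hF'.1 (τ n) (hτ n)
  let comp : ∀ n : ℕᵒᵖ, (Formal.completion I F').obj n ≅ F.obj n := fun n =>
    @asIso _ _ _ _ (cokernel.desc _ (τ n.unop) (hz n.unop)) (hiso n.unop)
  have hcomp : ∀ n : ℕ, Formal.modPowπ I (n + 1) F' ≫ (comp (op n)).hom = τ n := fun n =>
    cokernel.π_desc _ _ _
  refine ⟨NatIso.ofComponents comp (fun {i j} f => ?_), hcomp⟩
  obtain ⟨n', rfl⟩ : ∃ n', i = op n' := ⟨i.unop, rfl⟩
  obtain ⟨n, rfl⟩ : ∃ n, j = op n := ⟨j.unop, rfl⟩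
  have hle : n ≤ n' := leOfHom f.unop
  obtain rfl : f = (homOfLE hle).op := Subsingleton.elim _ _
  haveI : Epi (Formal.modPowπ I (n' + 1) F') := by
    unfold Formal.modPowπ; exact coequalizer.π_epi
  refine (cancel_epi (Formal.modPowπ I (n' + 1) F')).1 ?_
  refine (Category.assoc _ _ _).symm.trans ((congrArg (· ≫ (comp (op n)).hom)
    (modPowπ_tr I F' hle)).trans ((hcomp n).trans ?_))
  refine Eq.trans ?_ (Category.assoc _ _ _)
  refine Eq.trans ?_ (congrArg (· ≫ tr F hle) (hcomp n').symm)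
  exact (hcompat _).symm

/-- Powers of an ideal annihilate what products of generators annihilate. -/
theorem mul_smul_eq_zero {B : Type*} [CommRing B] {M : Type*} [AddCommGroup M] [Module B M] {r : ℕ} (a : Fin r → B)
    {J : Ideal B} (hJ : J ≤ Ideal.span (Set.range a)) {x : M} (h : ∀ i j, (a i * a j) • x = 0) :
    ∀ c ∈ J * J, c • x = 0 := fun c hc => by
  have hc' := Ideal.mul_mono hJ hJ hc
  clear hc
  rw [Ideal.span_mul_span] at hc'
  induction hc' using Submodule.span_induction with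
  | mem c hc =>
    obtain ⟨_, ⟨i, rfl⟩, _, ⟨j, rfl⟩, rfl⟩ := hc
    exact h i j
  | zero => exact zero_smul _ _
  | add c c' _ _ hh hh' => rw [add_smul, hh, hh', add_zero]
  | smul b c _ hh => rw [smul_eq_mul, mul_smul, hh, smul_zero]

set_option maxHeartbeats 1600000 in
/-- Algebraization (the right case), for any completion data. -/
theorem exists_right' {G : X.Modules} (hG : Coh.IsCoh G) {F : ℕᵒᵖ ⥤ X.Modules} (hF : Formal.IsCohFormal I F)
    {GS : ℕᵒᵖ ⥤ X.Modules} (hGS : Formal.IsCohFormal I GS) (πG : ∀ n, G ⟶ GS.obj (op n))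
    (hπG : ∀ {n k : ℕ} (h : n ≤ k), πG k ≫ tr GS h = πG n)
    (hπGs : ∀ (n : ℕ) {U : X.Opens}, IsAffineOpen U → Function.Surjective ((πG n).app U) ∧
      LinearMap.ker (appLinear (πG n) U) = JU I U ^ (n + 1) • ⊤)
    (α : GS ⟶ F) (t : ℕ) (ht : ∀ n : ℕ, Formal.KilledBy (I ^ (t + 1)) (kernel (α.app (op n))) ∧
      Formal.KilledBy (I ^ (t + 1)) (cokernel (α.app (op n)))) :
    ∃ (F' : X.Modules) (a : G ⟶ F') (τ : ∀ n : ℕ, F' ⟶ F.obj (op n)), Coh.IsCoh F' ∧
      Formal2.KerCokerKilledByIPowHom I a ∧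
      (∀ {n n' : ℕ} (h : n ≤ n'), τ n' ≫ tr F h = τ n) ∧
      (∀ n, πG n ≫ α.app (op n) = a ≫ τ n) ∧
      ∀ (n : ℕ) (U : X.Opens), IsAffineOpen U → Function.Surjective ((τ n).app U) ∧
        LinearMap.ker (appLinear (τ n) U) = JU (I ^ (n + 1)) U • ⊤ := by
  classical
  set c := t + 1
  obtain ⟨ι, _, V, hV, -, hcov⟩ := exists_finite_affine_cover (X := X) (V := ⊤) isCompact_univ
  -- generators of the power of the ideal
  obtain ⟨L, hLJ, hL⟩ := exists_gens (X := X) (I ^ c)
  let a : Fin L.card → A := fun i => (L.equivFin.symm i : A)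
  have ha : ∀ i, a i ∈ I ^ c := fun i => hLJ (L.equivFin.symm i).2
  let φ : ∀ (U : X.Opens), A →+* Γ(X, U) := fun U => φV (FormalLib.cst A X) U
  have hspan : ∀ {U : X.Opens}, IsAffineOpen U → JU (I ^ c) U ≤ Ideal.span (Set.range fun i => φ U (a i)) := by
    intro U hU
    refine (hL U hU).trans (Ideal.span_mono ?_)
    rintro _ ⟨x, hx, rfl⟩
    exact ⟨L.equivFin ⟨x, hx⟩, by simp [a, φ]⟩
  -- the big power and its submodule
  set s := L.card * L.card
  let pi : Fin s → Fin L.card × Fin L.card := finProdFinEquiv.symm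
  obtain ⟨P, hP⟩ := exists_power G hG s
  obtain ⟨D, hD⟩ := P.lift (fun b => Formal.smulMod A G (a (pi b).1 * a (pi b).2))
  have hDapp : ∀ (b : Fin s) (U : X.Opens) (g : Γ(G, U)),
      (P.pr b).app U (D.app U g) = φ U (a (pi b).1) • φ U (a (pi b).2) • g := fun b U g => by
    rw [← app_comp_apply, hD b, smul_smul, ← map_mul]
    rfl
  have hQD : Coh.IsCoh (cokernel D) := (isCoh_kernel_cokernel D hG hP).2
  obtain ⟨R, hR⟩ := exists_power (cokernel D) hQD L.card
  obtain ⟨θ, hθ⟩ := R.lift (fun l => Formal.smulMod A P.obj (a l) ≫ cokernel.π D)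
  have hG2 : Coh.IsCoh (kernel θ) := (isCoh_kernel_cokernel θ hP hR).1
  obtain ⟨D2, hD2⟩ : ∃ D2 : G ⟶ kernel θ, D2 ≫ kernel.ι θ = D := by
    refine ⟨kernel.lift θ D (hom_ext_affine fun U hU g => R.ext fun l => ?_), kernel.lift_ι _ _ _⟩
    rw [app_comp_apply, ← app_comp_apply θ, hθ]
    show (cokernel.π D).app U (φ U (a l) • D.app U g) = _
    rw [← smul_app_natural, ← app_comp_apply, cokernel.condition]
    exact (map_zero _).symm
  let ev : ∀ (U : X.Opens) (v : Γ(kernel θ, U)) (b : Fin s), Γ(G, U) :=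
    fun U v b => (P.pr b).app U ((kernel.ι θ).app U v)
  have hevD : ∀ (U : X.Opens) (g : Γ(G, U)) (b : Fin s), ev U (D2.app U g) b =
      φ U (a (pi b).1) • φ U (a (pi b).2) • g := fun U g b => by
    show (P.pr b).app U ((kernel.ι θ).app U (D2.app U g)) = _
    rw [← app_comp_apply D2, hD2, hDapp]
  obtain ⟨GS2, π2, hGS2, hπ2, hπ2s⟩ : ∃ (GS2 : ℕᵒᵖ ⥤ X.Modules) (π2 : ∀ n, kernel θ ⟶ GS2.obj (op n)),
      Formal.IsCohFormal I GS2 ∧ (∀ {n k : ℕ} (h : n ≤ k), π2 k ≫ tr GS2 h = π2 n) ∧
      ∀ (n : ℕ) {U : X.Opens}, IsAffineOpen U → Function.Surjective ((π2 n).app U) ∧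
        LinearMap.ker (appLinear (π2 n) U) = JU I U ^ (n + 1) • ⊤ :=
    ⟨Formal.completion I (kernel θ), fun n => Formal.modPowπ I (n + 1) (kernel θ),
      isCohFormal_completion hG2 I, fun h => modPowπ_tr I _ h, fun n {U} hU => app_modPowπ hG2.1 I (n + 1) hU⟩
  -- inverses up to multiplication
  choose ψ hψ using fun (n : ℕ) (b : Fin s) => exists_inverse (α.app (op n)) (hGS.1 n).1 (hF.1 n).1 (ht n).1 (ht n).2
    (ha (pi b).1) (ha (pi b).2)
  have hpre : ∀ (n : ℕ) {U : X.Opens}, IsAffineOpen U → ∀ (l : Fin L.card) (x : Γ(F.obj (op n), U)),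
      ∃ y, (α.app (op n)).app U y = φ U (a l) • x := fun n U hU l x =>
    (killedBy_cokernel_iff _ (hGS.1 n).1 (hF.1 n).1).1 (ht n).2 U hU (a l) (ha l) x
  have hψα : ∀ (n : ℕ) (b : Fin s) (U : X.Opens) (y : Γ(GS.obj (op n), U)),
      (ψ n b).app U ((α.app (op n)).app U y) = φ U (a (pi b).1) • φ U (a (pi b).2) • y := fun n b U y => by
    rw [hψ n b U _ (φ U (a (pi b).1) • y) (by rw [smul_app_natural]), smul_comm]
  have hαψ : ∀ (n : ℕ) (b : Fin s) {U : X.Opens}, IsAffineOpen U → ∀ (x : Γ(F.obj (op n), U)),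
      (α.app (op n)).app U ((ψ n b).app U x) = φ U (a (pi b).1) • φ U (a (pi b).2) • x := fun n b U hU x => by
    obtain ⟨y, hy⟩ := hpre n hU (pi b).1 x
    rw [hψ n b U x y hy, smul_app_natural, hy, smul_comm]
  have hψtr : ∀ {n k : ℕ} (h : n ≤ k) (b : Fin s) {U : X.Opens}, IsAffineOpen U → ∀ (x : Γ(F.obj (op k), U)),
      (ψ n b).app U ((tr F h).app U x) = (tr GS h).app U ((ψ k b).app U x) := fun {n k} h b U hU x => by
    obtain ⟨y, hy⟩ := hpre k hU (pi b).1 x
    rw [hψ k b U x y hy, smul_app_natural]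
    refine hψ n b U _ _ ?_
    rw [← app_comp_apply, tr_app α h, app_comp_apply, hy, smul_app_natural]
  -- Artin–Rees on the cover
  have hAR : ∀ i, ∃ d : ℕ, (∀ (n : ℕ) (w : Γ(P.obj, V i)), θ.app (V i) w ∈ JU I (V i) ^ n • (⊤ : Submodule Γ(X, V i) Γ(R.obj, V i)) →
      w ∈ LinearMap.ker (appLinear θ (V i)) ⊔ JU I (V i) ^ (n - d) • ⊤) ∧
      ∀ (n : ℕ) (v : Γ(kernel θ, V i)), (kernel.ι θ).app (V i) v ∈ JU I (V i) ^ n • (⊤ : Submodule Γ(X, V i) Γ(P.obj, V i)) →
        v ∈ JU I (V i) ^ (n - d) • (⊤ : Submodule Γ(X, V i) Γ(kernel θ, V i)) := by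
    intro i
    haveI := isNoetherianRing_section (hV i)
    haveI := finite_sections_of_isCoh hR (hV i)
    haveI := finite_sections_of_isCoh hP (hV i)
    obtain ⟨d1, h1⟩ := exists_comap_le (JU I (V i)) (appLinear θ (V i))
    obtain ⟨d2, h2⟩ := exists_comap_le (JU I (V i)) (appLinear (kernel.ι θ) (V i))
    refine ⟨max d1 d2, fun n w hw => ?_, fun n v hv => ?_⟩
    · obtain ⟨p, hp, q, hq, rfl⟩ := Submodule.mem_sup.1 (h1 n w hw)
      exact add_mem (Submodule.mem_sup_left hp) (Submodule.mem_sup_right (Submodule.smul_mono (Ideal.pow_le_pow_right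
        (Nat.sub_le_sub_left (le_max_left d1 d2) n)) le_rfl hq))
    have h := h2 n v hv
    rw [LinearMap.ker_eq_bot.2 (show Function.Injective (appLinear (kernel.ι θ) (V i)) from
      app_injective_of_mono (kernel.ι θ) (V i)), bot_sup_eq] at h
    exact Submodule.smul_mono (Ideal.pow_le_pow_right (Nat.sub_le_sub_left (le_max_right d1 d2) n)) le_rfl h
  choose dd hd1 hd2 using hAR
  haveI := Fintype.ofFinite ι
  set d := Finset.univ.sup dd
  have hdle : ∀ i, dd i ≤ d := fun i => Finset.le_sup (Finset.mem_univ i)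
  -- existence of compatible sections of the submodule
  have hexists : ∀ (i : ι) (k K : ℕ) (hK : k + d ≤ K) (x : Γ(F.obj (op K), V i)), ∃ v : Γ(kernel θ, V i),
      ∀ b, (πG k).app (V i) (ev (V i) v b) = (tr GS (show k ≤ K by omega)).app (V i) ((ψ K b).app (V i) x) := by
    intro i k K hK x
    choose g hg using fun b => (hπGs K (hV i)).1 ((ψ K b).app (V i) x)
    obtain ⟨w, hw⟩ := P.mem g
    have hθw : θ.app (V i) w ∈ JU I (V i) ^ (K + 1) • (⊤ : Submodule Γ(X, V i) Γ(R.obj, V i)) := by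
      refine R.mem_smul_top _ _ fun l => ?_
      rw [← app_comp_apply, hθ l]
      show (cokernel.π D).app (V i) (φ (V i) (a l) • w) ∈ _
      obtain ⟨y, hy⟩ := hpre K (hV i) l x
      obtain ⟨g₀, rfl⟩ := (hπGs K (hV i)).1 y
      have hdiff : φ (V i) (a l) • w - D.app (V i) g₀ ∈ JU I (V i) ^ (K + 1) • (⊤ : Submodule Γ(X, V i) Γ(P.obj, V i)) := by
        refine P.mem_smul_top _ _ fun b => ?_
        rw [← (hπGs K (hV i)).2, LinearMap.mem_ker]
        show (πG K).app (V i) _ = 0
        rw [map_sub, map_sub, smul_app_natural, smul_app_natural, hw, hg, hDapp, smul_app_natural, smul_app_natural,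
          ← hψα K b, hy, smul_app_natural, sub_self]
      have := Submodule.mem_map_of_mem (f := appLinear (cokernel.π D) (V i)) hdiff
      rw [Submodule.map_smul''] at this
      replace this := Submodule.smul_mono le_rfl le_top this
      rw [map_sub] at this
      have h0 : (cokernel.π D).app (V i) (D.app (V i) g₀) = 0 := congr($(cokernel.condition D).app (V i) g₀)
      rwa [show appLinear (cokernel.π D) (V i) (D.app (V i) g₀) = 0 from h0, sub_zero] at this
    obtain ⟨v', hv', e, he, rfl⟩ := Submodule.mem_sup.1 (hd1 i (K + 1) w hθw)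
    obtain ⟨v, hv⟩ := kernel_app_exact θ (V i) v' hv'
    refine ⟨v, fun b => ?_⟩
    show (πG k).app (V i) ((P.pr b).app (V i) ((kernel.ι θ).app (V i) v)) = _
    rw [hv, ← hg b, ← hw b, ← app_comp_apply (πG K), hπG, map_add, map_add, left_eq_add]
    have he' : (P.pr b).app (V i) e ∈ LinearMap.ker (appLinear (πG k) (V i)) := by
      rw [(hπGs k (hV i)).2]
      have := Submodule.mem_map_of_mem (f := appLinear (P.pr b) (V i)) he
      rw [Submodule.map_smul''] at this
      exact Submodule.smul_mono (Ideal.pow_le_pow_right (by have := hdle i; omega)) le_top this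
    exact he'
  have hsmall : ∀ (i : ι) (n : ℕ) (v : Γ(kernel θ, V i)), (∀ b, (πG (n + d)).app (V i) (ev (V i) v b) = 0) →
      (π2 n).app (V i) v = 0 := by
    intro i n v hv
    have h : v ∈ LinearMap.ker (appLinear (π2 n) (V i)) := by
      rw [(hπ2s n (hV i)).2]
      refine Submodule.smul_mono (Ideal.pow_le_pow_right (show n + 1 ≤ n + d + 1 - dd i by have := hdle i; omega)) le_rfl
        (hd2 i (n + d + 1) v (P.mem_smul_top _ _ fun b => ?_))
      rw [← (hπGs (n + d) (hV i)).2]
      exact hv b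
    exact h
  -- the comparison map to the completion of the submodule
  have hα2 : ∀ n, ∃ f : F.obj (op n) ⟶ GS2.obj (op n), ∀ (i : ι) (x : Γ(F.obj (op (n + d + d)), V i))
      (v : Γ(kernel θ, V i)), (∀ b, (πG (n + d)).app (V i) (ev (V i) v b) =
        (tr GS (show n + d ≤ n + d + d by omega)).app (V i) ((ψ (n + d + d) b).app (V i) x)) →
      f.app (V i) ((tr F (show n ≤ n + d + d by omega)).app (V i) x) = (π2 n).app (V i) v := by
    intro n
    obtain ⟨PS, hPS⟩ := exists_power (GS.obj (op (n + d))) (hGS.1 (n + d)) s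
    obtain ⟨ρ, hρ⟩ := PS.lift (fun b => kernel.ι θ ≫ P.pr b ≫ πG (n + d))
    obtain ⟨σ, hσ⟩ := PS.lift (fun b => ψ (n + d + d) b ≫ tr GS (show n + d ≤ n + d + d by omega))
    obtain ⟨T, hT⟩ := exists_fork ρ σ hG2 (hF.1 (n + d + d)) hPS
    have hpair : ∀ (i : ι) (v : Γ(kernel θ, V i)) (x : Γ(F.obj (op (n + d + d)), V i)),
        ρ.app (V i) v = σ.app (V i) x ↔ ∀ b, (πG (n + d)).app (V i) (ev (V i) v b) =
          (tr GS (show n + d ≤ n + d + d by omega)).app (V i) ((ψ (n + d + d) b).app (V i) x) := by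
      intro i v x
      have e1 : ∀ b, (PS.pr b).app (V i) (ρ.app (V i) v) = (πG (n + d)).app (V i) (ev (V i) v b) :=
        fun b => congr($(hρ b).app (V i) v)
      have e2 : ∀ b, (PS.pr b).app (V i) (σ.app (V i) x) =
          (tr GS (show n + d ≤ n + d + d by omega)).app (V i) ((ψ (n + d + d) b).app (V i) x) :=
        fun b => congr($(hσ b).app (V i) x)
      exact ⟨fun h b => by rw [← e1, h, e2], fun h => PS.ext fun b => by rw [e1, e2, h]⟩
    haveI := (hF.1 (n + d + d)).1
    haveI : Epi T.snd := epi_of_cover T.snd V hV hcov fun i x => by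
      obtain ⟨v, hv⟩ := hexists i (n + d) (n + d + d) le_rfl x
      obtain ⟨f, -, hf⟩ := T.mem v x ((hpair i v x).2 hv)
      exact ⟨f, hf⟩
    haveI := (isCoh_kernel_cokernel T.snd hT (hF.1 (n + d + d))).1.1
    obtain ⟨g, hg⟩ := exists_desc_of_epi T.snd (T.fst ≫ π2 n) (hom_zero_of_cover _ V hV hcov fun i z => by
      rw [app_comp_apply, app_comp_apply]
      refine hsmall i n _ fun b => ?_
      have h0 : T.snd.app (V i) ((kernel.ι T.snd).app (V i) z) = 0 := congr($(kernel.condition T.snd).app (V i) z)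
      rw [(hpair i _ ((0 : Γ(F.obj (op (n + d + d)), V i)))).1 (by
        rw [map_zero, ← app_comp_apply, T.cond, app_comp_apply, h0, map_zero]) b, map_zero, map_zero])
    haveI := epi_tr hF (show n ≤ n + d + d by omega)
    obtain ⟨f, hf⟩ := exists_desc_of_epi (tr F (show n ≤ n + d + d by omega)) g (hom_ext_affine fun U hU z => by
      have hz : (kernel.ι (tr F (show n ≤ n + d + d by omega))).app U z ∈
          LinearMap.ker (appLinear (tr F (show n ≤ n + d + d by omega)) U) :=
        congr($(kernel.condition (tr F (show n ≤ n + d + d by omega))).app U z)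
      rw [(app_tr hF _ hU).2] at hz
      have h := Submodule.mem_map_of_mem (f := appLinear g U) hz
      rw [Submodule.map_smul''] at h
      replace h := Submodule.smul_mono le_rfl le_top h
      rw [smul_top_eq_bot hGS2 n hU] at h
      exact h)
    refine ⟨f, fun i x v hv => ?_⟩
    obtain ⟨z, hz1, hz2⟩ := T.mem v x ((hpair i v x).2 hv)
    rw [← app_comp_apply, hf, ← hz2, ← app_comp_apply, hg, app_comp_apply, hz1]
  choose α2 hα2 using hα2
  have hnat : ∀ n, tr F (Nat.le_succ n) ≫ α2 n = α2 (n + 1) ≫ tr GS2 (Nat.le_succ n) := fun n => by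
    haveI := (hF.1 (n + 1)).1
    refine hom_ext_cover V hV hcov fun i y => ?_
    obtain ⟨x, rfl⟩ := (app_tr hF (show n + 1 ≤ n + 1 + d + d by omega) (hV i)).1 y
    obtain ⟨v, hv⟩ := hexists i (n + 1 + d) (n + 1 + d + d) le_rfl x
    show (α2 n).app (V i) ((tr F (Nat.le_succ n)).app (V i) _) = (tr GS2 (Nat.le_succ n)).app (V i) ((α2 (n + 1)).app (V i) _)
    have e : (tr F (Nat.le_succ n)).app (V i) ((tr F (show n + 1 ≤ n + 1 + d + d by omega)).app (V i) x) =
        (tr F (show n ≤ n + d + d by omega)).app (V i)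
          ((tr F (show n + d + d ≤ n + 1 + d + d by omega)).app (V i) x) :=
      congr($((tr_comp F (Nat.le_succ n) (show n + 1 ≤ n + 1 + d + d by omega)).trans
        (tr_comp F (show n ≤ n + d + d by omega) (show n + d + d ≤ n + 1 + d + d by omega)).symm).app (V i) x)
    rw [hα2 (n + 1) i x v hv, ← app_comp_apply (π2 (n + 1)), hπ2, e]
    refine hα2 n i _ v fun b => ?_
    rw [hψtr _ b (hV i), ← app_comp_apply (tr GS _), tr_comp,
      ← hπG (show n + d ≤ n + 1 + d by omega), app_comp_apply, hv b, ← app_comp_apply, tr_comp]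
  let α2' : F ⟶ GS2 :=
    { app := fun n => α2 n.unop
      naturality := fun i j f => by
        obtain ⟨n', rfl⟩ : ∃ n', i = op n' := ⟨i.unop, rfl⟩
        obtain ⟨n, rfl⟩ : ∃ n, j = op n := ⟨j.unop, rfl⟩
        have hle : n ≤ n' := leOfHom f.unop
        obtain rfl : f = (homOfLE hle).op := Subsingleton.elim _ _
        show tr F hle ≫ α2 n = α2 n' ≫ tr GS2 hle
        induction hle with
        | refl => rw [tr_refl, tr_refl, Category.id_comp, Category.comp_id]
        | @step m h ih =>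
          have h' : n ≤ m := h
          rw [← tr_comp F h' (Nat.le_succ m), ← tr_comp GS2 h' (Nat.le_succ m), Category.assoc, ih,
            ← Category.assoc, hnat, Category.assoc] }
  have hδ : ∀ n, (πG n ≫ α.app (op n)) ≫ α2 n = D2 ≫ π2 n := fun n => by
    haveI := hG.1
    refine hom_ext_cover V hV hcov fun i g => ?_
    rw [app_comp_apply, app_comp_apply (πG n), ← hπG (show n ≤ n + d + d by omega), app_comp_apply,
      ← app_comp_apply (tr GS _), tr_app α, app_comp_apply, app_comp_apply D2]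
    refine hα2 n i _ _ fun b => ?_
    rw [hevD, smul_app_natural, smul_app_natural, hψα, smul_app_natural, smul_app_natural, ← app_comp_apply,
      hπG]
  -- kernel and cokernel of the comparison
  have hc2 : (t + t + 1) + 1 = c + c := by omega
  have ht2 : ∀ n, Formal.KilledBy (I ^ ((t + t + 1) + 1)) (kernel (α2'.app (op n))) ∧
      Formal.KilledBy (I ^ ((t + t + 1) + 1)) (cokernel (α2'.app (op n))) := fun n => by
    obtain ⟨hk2, hc2'⟩ := isCoh_kernel_cokernel (α2 n) (hF.1 n) (hGS2.1 n)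
    refine ⟨fun r hr => ?_, fun r hr => ?_⟩
    · show Formal.smulMod A (kernel (α2 n)) r = 0
      haveI := hk2.1
      refine hom_zero_of_cover _ V hV hcov fun i z => app_injective_of_mono (kernel.ι (α2 n)) (V i) ?_
      show (kernel.ι (α2 n)).app (V i) (φ (V i) r • z) = _
      rw [smul_app_natural, map_zero]
      set y := (kernel.ι (α2 n)).app (V i) z
      have hy : (α2 n).app (V i) y = 0 := congr($(kernel.condition (α2 n)).app (V i) z)
      have hr' : φ (V i) r ∈ JU (I ^ c) (V i) * JU (I ^ c) (V i) := by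
        rw [← Ideal.map_mul, ← pow_add, ← hc2]; exact Ideal.mem_map_of_mem _ hr
      refine mul_smul_eq_zero _ (hspan (hV i)) (fun l₁ l₂ => ?_) _ hr'
      obtain ⟨x, hx⟩ := (app_tr hF (show n ≤ n + d + d by omega) (hV i)).1 y
      obtain ⟨v, hv⟩ := hexists i (n + d) (n + d + d) le_rfl x
      have h0 : v ∈ LinearMap.ker (appLinear (π2 n) (V i)) := by
        show (π2 n).app (V i) v = 0
        rw [← hα2 n i x v hv, hx, hy]
      rw [(hπ2s n (hV i)).2] at h0
      set b := finProdFinEquiv (l₁, l₂)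
      have hb : pi b = (l₁, l₂) := finProdFinEquiv.symm_apply_apply _
      have h1 := Submodule.mem_map_of_mem (f := appLinear (kernel.ι θ ≫ P.pr b) (V i)) h0
      rw [Submodule.map_smul''] at h1
      replace h1 := Submodule.smul_mono le_rfl le_top h1
      rw [← (hπGs n (hV i)).2] at h1
      replace h1 : (πG n).app (V i) (ev (V i) v b) = 0 := h1
      rw [← hπG (show n ≤ n + d by omega), app_comp_apply, hv b, ← app_comp_apply, tr_comp, ← hψtr _ b (hV i), hx] at h1
      have h2 := hαψ n b (hV i) y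
      rw [h1, map_zero, hb] at h2
      rw [← smul_smul, ← h2]
    · show Formal.smulMod A (cokernel (α2 n)) r = 0
      haveI := hc2'.1
      refine hom_zero_of_cover _ V hV hcov fun i z => ?_
      show φ (V i) r • z = 0
      obtain ⟨z', rfl⟩ := (FormalLib.cokernel_app (α2 n) (hF.1 n).1 (hGS2.1 n).1 (hV i)).1 z
      obtain ⟨v, rfl⟩ := (hπ2s n (hV i)).1 z'
      have hr' : φ (V i) r ∈ Ideal.span (Set.range fun l => φ (V i) (a l)) :=
        hspan (hV i) (Ideal.mem_map_of_mem _ (Ideal.pow_le_pow_right (show c ≤ t + t + 1 + 1 by omega) hr))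
      obtain ⟨e, he⟩ := Ideal.mem_span_range_iff_exists_fun.1 hr'
      rw [← he, Finset.sum_smul]
      refine Finset.sum_eq_zero fun l _ => ?_
      rw [mul_smul]
      suffices h : φ (V i) (a l) • (cokernel.π (α2 n)).app (V i) ((π2 n).app (V i) v) = 0 by rw [h, smul_zero]
      have h1 : (cokernel.π D).app (V i) (φ (V i) (a l) • (kernel.ι θ).app (V i) v) = 0 := by
        have := congrArg ((R.pr l).app (V i)) (congr($(kernel.condition θ).app (V i) v))
        rw [app_comp_apply, ← app_comp_apply θ, hθ] at this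
        exact this.trans (map_zero _)
      obtain ⟨g, hg⟩ := (FormalLib.cokernel_app D hG.1 hP.1 (hV i)).2 _ h1
      have h3 : φ (V i) (a l) • v = D2.app (V i) g := app_injective_of_mono (kernel.ι θ) (V i) (by
        rw [smul_app_natural, ← hg, ← app_comp_apply D2, hD2])
      rw [← smul_app_natural, ← smul_app_natural, h3, ← app_comp_apply D2, ← hδ, app_comp_apply,
        ← app_comp_apply (α2 n), cokernel.condition]
      rfl
  -- the left case
  obtain ⟨F', a', τ, hF', ⟨t', hk', hc'⟩, hcompat, hτα, hτ, huniv⟩ :=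
    exists_left' hG2 hF hGS2 π2 (fun h => hπ2 h) hπ2s α2' (t + t + 1) ht2
  obtain ⟨b, hb, hb'⟩ := huniv G D2 (fun n => πG n ≫ α.app (op n))
    (fun {n k} h => by rw [Category.assoc, ← tr_app α h, ← Category.assoc, hπG]) hδ
  refine ⟨F', b, τ, hF', ⟨t + t + 1 + (t' + 1), ?_, ?_⟩, fun h => hcompat h, hb', hτ⟩
  · refine (killedBy_kernel_iff _).2 fun U hU r hr g hg => ?_
    have hD0 : D2.app U g = 0 := by rw [← hb, app_comp_apply, hg, map_zero]
    have hr' : φ U r ∈ JU (I ^ c) U * JU (I ^ c) U := by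
      rw [← Ideal.map_mul, ← pow_add]
      exact Ideal.mem_map_of_mem _ (Ideal.pow_le_pow_right (by omega) hr)
    refine mul_smul_eq_zero _ (hspan hU) (fun l₁ l₂ => ?_) _ hr'
    have h := hevD U g (finProdFinEquiv (l₁, l₂))
    rw [hD0] at h
    simp only [ev, map_zero, pi, Equiv.symm_apply_apply] at h
    rw [← smul_smul, ← h]
  · refine (killedBy_cokernel_iff _ hG.1 hF'.1).2 fun U hU r hr z => ?_
    have hr' : φ U r ∈ JU (I ^ c) U * JU (I ^ (t' + 1)) U := by
      rw [← Ideal.map_mul, ← pow_add]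
      exact Ideal.mem_map_of_mem _ (Ideal.pow_le_pow_right (by omega) hr)
    change φ U r • z ∈ LinearMap.range (appLinear b U)
    refine Submodule.mul_induction_on hr' (fun x hx x' hx' => ?_) (fun x y hx hy => by
      rw [add_smul]; exact add_mem hx hy)
    obtain ⟨e, rfl⟩ := Ideal.mem_span_range_iff_exists_fun.1 (hspan hU hx)
    rw [Finset.sum_mul, Finset.sum_smul]
    refine Submodule.sum_mem _ fun l _ => ?_
    rw [mul_assoc, mul_smul]
    refine Submodule.smul_mem _ _ ?_
    rw [mul_comm, mul_smul]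
    have h1 : (cokernel.π D).app U (φ U (a l) • (kernel.ι θ).app U (a'.app U z)) = 0 := by
      have := congrArg ((R.pr l).app U) (congr($(kernel.condition θ).app U (a'.app U z)))
      rw [app_comp_apply, ← app_comp_apply θ, hθ] at this
      exact this.trans (map_zero _)
    obtain ⟨g, hg⟩ := (FormalLib.cokernel_app D hG.1 hP.1 hU).2 _ h1
    have h3 : a'.app U (φ U (a l) • z - b.app U g) = 0 := app_injective_of_mono (kernel.ι θ) U (by
      rw [map_sub, smul_app_natural, map_sub, map_zero, smul_app_natural, ← app_comp_apply b, hb, ← app_comp_apply D2, hD2,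
        hg, sub_self])
    induction hx' using Submodule.span_induction with
    | mem x hx =>
      obtain ⟨q, hq, rfl⟩ := hx
      refine ⟨φV (FormalLib.cst A X) U q • g, ?_⟩
      show b.app U _ = _
      rw [smul_app_natural, ← sub_eq_zero, ← smul_sub, ← neg_sub (φ U (a l) • z), smul_neg, neg_eq_zero]
      exact (killedBy_kernel_iff _).1 hk' U hU q hq _ h3
    | zero => rw [zero_smul]; exact zero_mem _
    | add x y _ _ h h' => rw [add_smul]; exact add_mem h h'
    | smul e' x _ h => rw [smul_eq_mul, mul_smul]; exact Submodule.smul_mem _ _ h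

/-- Algebraization (the right case). -/
theorem exists_right {G : X.Modules} (hG : Coh.IsCoh G) {F : ℕᵒᵖ ⥤ X.Modules} (hF : Formal.IsCohFormal I F)
    (α : Formal.completion I G ⟶ F) (hα : Formal2.KerCokerKilledByIPow I α) :
    ∃ (F' : X.Modules) (a : G ⟶ F') (β : Formal.completion I F' ≅ F), Coh.IsCoh F' ∧
      Formal2.KerCokerKilledByIPowHom I a ∧
      ∀ n : ℕ, Formal.modPowπ I (n + 1) G ≫ α.app (op n) =
        a ≫ Formal.modPowπ I (n + 1) F' ≫ β.hom.app (op n) := by
  obtain ⟨t, ht⟩ := hα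
  obtain ⟨F', a, τ, hF', ha, hcompat, hτα, hτ⟩ := exists_right' hG hF (isCohFormal_completion hG I)
    (fun n => Formal.modPowπ I (n + 1) G) (fun h => modPowπ_tr I G h)
    (fun n {U} hU => app_modPowπ hG.1 I (n + 1) hU) α t ht
  obtain ⟨β, hβ⟩ := exists_iso_completion hF' τ (fun h => hcompat h) hτ
  exact ⟨F', a, β, hF', ha, fun n => (hτα n).trans (congrArg (a ≫ ·) (hβ n).symm)⟩

end Groth.Agent.FormalSys
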