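import Mathlib

/-!
# Descending from a chart to the completed base along a valuation
-/

set_option autoImplicit false
set_option linter.unusedSectionVars false
set_option linter.style.haveILetI false

universe u

open TensorProduct

namespace Groth.Agent.FormalSys

/-- A map which is bijective up to `e`-torsion stays injective up to `e`-torsion after tensoring. -/
theorem exists_pow_smul_eq_zero_of_rTensor {B P Q A' : Type u} [CommRing B] [AddCommGroup P] [Module B P]
    [AddCommGroup Q] [Module B Q] [AddCommGroup A'] [Module B A'] (g : P →ₗ[B] Q) (e : B)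
    (hk : ∀ p, g p = 0 → ∃ n : ℕ, e ^ n • p = 0) (hs : ∀ q, ∃ (n : ℕ) (p : P), g p = e ^ n • q)
    (x : P ⊗[B] A') (hx : g.rTensor A' x = 0) : ∃ n : ℕ, e ^ n • x = 0 := by
  let S := Submonoid.powers e
  let mP := LocalizedModule.mkLinearMap S P
  let mQ := LocalizedModule.mkLinearMap S Q
  let g' := IsLocalizedModule.map S mP mQ g
  have hg : Function.Bijective g' := by
    constructor
    · rw [injective_iff_map_eq_zero]
      intro z hz
      obtain ⟨⟨p, s⟩, rfl⟩ := IsLocalizedModule.mk'_surjective S mP z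
      simp only [Function.uncurry_apply_pair, g', IsLocalizedModule.map_mk', IsLocalizedModule.mk'_eq_zero'] at hz
      obtain ⟨⟨_, a, rfl⟩, ha⟩ := hz
      obtain ⟨n, hn⟩ := hk (e ^ a • p) (by rw [map_smul]; exact ha)
      exact (IsLocalizedModule.mk'_eq_zero' mP s).2 ⟨⟨e ^ (n + a), n + a, rfl⟩, by
        show e ^ (n + a) • p = 0
        rwa [pow_add, mul_smul]⟩
    · intro z
      obtain ⟨⟨q, s⟩, rfl⟩ := IsLocalizedModule.mk'_surjective S mQ z
      obtain ⟨n, p, hp⟩ := hs q
      refine ⟨IsLocalizedModule.mk' mP p ((⟨e ^ n, n, rfl⟩ : S) * s), ?_⟩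
      simp only [g', IsLocalizedModule.map_mk', Function.uncurry_apply_pair, hp]
      exact IsLocalizedModule.mk'_cancel_left (f := mQ) q (⟨e ^ n, n, rfl⟩ : S) s
  let ψ : Q →ₗ[B] LocalizedModule S P := (LinearEquiv.ofBijective g' hg).symm.toLinearMap.comp mQ
  have hψ : ψ ∘ₗ g = mP := LinearMap.ext fun p => (LinearEquiv.symm_apply_eq (LinearEquiv.ofBijective g' hg)).2
    (IsLocalizedModule.map_apply S mP mQ g p).symm
  have h0 : (AlgebraTensorModule.rTensor B A' mP) x = 0 := by
    show mP.rTensor A' x = 0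
    rw [← hψ, LinearMap.rTensor_comp, LinearMap.comp_apply, hx, map_zero]
  obtain ⟨⟨_, n, rfl⟩, hn⟩ := (IsLocalizedModule.eq_zero_iff S (AlgebraTensorModule.rTensor B A' mP)).1 h0
  exact ⟨n, hn⟩

section Chart

variable {B R S : Type u} [CommRing B] [CommRing R] [CommRing S] [Algebra B R] [Algebra B S]
  {V : Type u} [CommRing V] [IsDomain V] [IsLocalRing V] (θ : R →+* V) (σ : S →+* V)
  (hσ : ∀ b : B, σ (algebraMap B S b) = θ (algebraMap B R b))
  (J : Ideal B) (hJ : ∀ j ∈ J, θ (algebraMap B R j) ∈ IsLocalRing.maximalIdeal V)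
  (e : B) (he : θ (algebraMap B R e) ≠ 0)
  (hS : ∀ s : S, ∃ (i j : ℕ) (b : B), algebraMap B S e ^ i * (algebraMap B S e ^ j * s - algebraMap B S b) = 0)

include hS in
/-- Elements of the chart become constants after multiplying by a power of `e`. -/
theorem exists_pow_mul_eq_constant (t : R ⊗[B] S) :
    ∃ (N : ℕ) (r : R), algebraMap B (R ⊗[B] S) e ^ N * t = r ⊗ₜ 1 := by
  induction t using TensorProduct.induction_on with
  | zero => exact ⟨0, 0, by rw [mul_zero, zero_tmul]⟩
  | tmul r s =>
    obtain ⟨i, j, b, h⟩ := hS s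
    refine ⟨i + j, (e ^ i * b) • r, ?_⟩
    rw [← map_pow, ← Algebra.smul_def, ← tmul_smul, smul_tmul, Algebra.smul_def (e ^ (i + j)),
      Algebra.smul_def (e ^ i * b), mul_one, map_pow, map_mul, map_pow]
    congr 1
    rw [mul_sub, ← mul_assoc, ← pow_add, sub_eq_zero] at h
    exact h
  | add t t' h h' =>
    obtain ⟨N, r, hr⟩ := h
    obtain ⟨N', r', hr'⟩ := h'
    refine ⟨N + N', (e ^ N') • r + (e ^ N) • r', ?_⟩
    rw [add_tmul, ← smul_tmul', ← smul_tmul', ← hr, ← hr', Algebra.smul_def, Algebra.smul_def, map_pow, map_pow]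
    ring

include hσ hJ he hS in
/-- Elements congruent to one are non-zero constants up to a power of `e`. -/
theorem exists_good_constant (u : R ⊗[B] S) (hu : u - 1 ∈ J.map (algebraMap B (R ⊗[B] S))) :
    ∃ (N : ℕ) (r : R), algebraMap B (R ⊗[B] S) e ^ N * u = r ⊗ₜ 1 ∧ θ r ≠ 0 := by
  obtain ⟨N, r, hr⟩ := exists_pow_mul_eq_constant e hS u
  refine ⟨N, r, hr, fun h0 => ?_⟩
  letI : Algebra B V := (θ.comp (algebraMap B R)).toAlgebra
  let Θ : R ⊗[B] S →ₐ[B] V := Algebra.TensorProduct.lift ⟨θ, fun _ => rfl⟩ ⟨σ, hσ⟩ fun _ _ => Commute.all _ _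
  have hmem : ∀ t ∈ J.map (algebraMap B (R ⊗[B] S)), Θ t ∈ IsLocalRing.maximalIdeal V := by
    intro t ht
    induction ht using Submodule.span_induction with
    | mem t ht =>
      obtain ⟨j, hj, rfl⟩ := ht
      rw [Θ.commutes]
      exact hJ j hj
    | zero => rw [map_zero]; exact zero_mem _
    | add a b _ _ h h' => rw [map_add]; exact add_mem h h'
    | smul c a _ h => rw [smul_eq_mul, map_mul]; exact Ideal.mul_mem_left _ _ h
  have hu' : IsUnit (Θ u) := by
    by_contra hnu
    refine (IsLocalRing.maximalIdeal.isMaximal V).ne_top ((Ideal.eq_top_iff_one _).2 ?_)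
    have := sub_mem ((IsLocalRing.mem_maximalIdeal _).2 hnu) (hmem _ hu)
    rwa [map_sub, map_one, sub_sub_cancel] at this
  have h1 := congrArg Θ hr
  rw [map_mul, map_pow, Θ.commutes, Algebra.TensorProduct.lift_tmul, map_one, mul_one] at h1
  exact mul_ne_zero (pow_ne_zero N (show algebraMap B V e ≠ 0 from he)) hu'.ne_zero (h1.trans h0)

variable [IsNoetherianRing R] [Algebra.FiniteType B S]

/-- Finite type algebras over Noetherian rings. -/
theorem isNoetherianRing_chart : IsNoetherianRing (R ⊗[B] S) :=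
  Algebra.FiniteType.isNoetherianRing R (R ⊗[B] S)

include hσ hJ he hS in
/-- Kernel elements: killed by a constant not vanishing on the valuation. -/
theorem exists_constant_kills (hS0 : ∀ b : B, algebraMap B S b = 0 → ∃ n : ℕ, e ^ n * b = 0)
    {L : Type u} [AddCommGroup L] [Module R L] [Module B L] [IsScalarTower B R L] [Module.Finite R L]
    {G : ℕ → Type u} [∀ k, AddCommGroup (G k)] [∀ k, Module B (G k)] (π : ∀ k, L →ₗ[B] G k)
    (hπ : ∀ k, Function.Surjective (π k))
    (hπk : ∀ k x, π k x = 0 → x ∈ J.map (algebraMap B R) ^ k • (⊤ : Submodule R L))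
    (z : L) (hz : ∀ k, (1 : S) ⊗ₜ[B] π k z = 0) : ∃ r : R, θ r ≠ 0 ∧ r • z = 0 := by
  classical
  haveI := isNoetherianRing_chart (B := B) (R := R) (S := S)
  let T := R ⊗[B] S
  let JT : Ideal T := J.map (algebraMap B T)
  let w : T ⊗[R] L := (1 : T) ⊗ₜ z
  have hw : ∀ k : ℕ, w ∈ JT ^ k • (⊤ : Submodule T (T ⊗[R] L)) := by
    intro k
    let P := JT ^ k • (⊤ : Submodule T (T ⊗[R] L))
    let q : L →ₗ[B] (T ⊗[R] L) ⧸ P := ((Submodule.mkQ P).restrictScalars B).comp ((TensorProduct.mk R T L 1).restrictScalars B)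
    have hq : LinearMap.ker (π k) ≤ LinearMap.ker q := by
      intro x hx
      refine (Submodule.Quotient.mk_eq_zero P).2 ?_
      show (1 : T) ⊗ₜ[R] x ∈ P
      refine Submodule.smul_induction_on (hπk k x hx) (fun r hr y _ => ?_) (fun a b ha hb => ?_)
      · rw [← smul_tmul, ← mul_one (r • (1 : T)), ← smul_eq_mul, ← smul_tmul']
        refine Submodule.smul_mem_smul ?_ trivial
        rw [show r • (1 : T) = algebraMap R T r from (Algebra.algebraMap_eq_smul_one r).symm,
          show JT ^ k = ((J.map (algebraMap B R)) ^ k).map (algebraMap R T) by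
            rw [Ideal.map_pow, Ideal.map_map, ← IsScalarTower.algebraMap_eq]]
        exact Ideal.mem_map_of_mem _ hr
      · rw [tmul_add]; exact add_mem ha hb
    let γ : G k →ₗ[B] (T ⊗[R] L) ⧸ P :=
      ((LinearMap.ker (π k)).liftQ q hq).comp ((π k).quotKerEquivOfSurjective (hπ k)).symm.toLinearMap
    have hγ : ∀ x, γ (π k x) = q x := fun x => by
      simp only [γ, LinearMap.comp_apply, LinearEquiv.coe_coe, LinearMap.quotKerEquivOfSurjective_symm_apply,
        Submodule.liftQ_apply]
    let Φ : S ⊗[B] G k →ₗ[B] (T ⊗[R] L) ⧸ P := TensorProduct.lift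
      ((LinearMap.lsmul T ((T ⊗[R] L) ⧸ P)).restrictScalars₁₂ B B |>.comp
        (Algebra.TensorProduct.includeRight : S →ₐ[B] T).toLinearMap |>.compl₂ γ)
    have h1 := congrArg Φ (hz k)
    simp only [Φ, TensorProduct.lift.tmul, map_zero, LinearMap.compl₂_apply, LinearMap.comp_apply,
      AlgHom.toLinearMap_apply, map_one, LinearMap.restrictScalars₁₂_apply_apply, LinearMap.lsmul_apply,
      one_smul, hγ] at h1
    exact (Submodule.Quotient.mk_eq_zero P).1 h1
  obtain ⟨⟨j, hj⟩, hjw⟩ := (JT.mem_iInf_smul_pow_eq_bot_iff w).1 (Submodule.mem_iInf _ |>.2 hw)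
  obtain ⟨N, r, hr, hr0⟩ := exists_good_constant θ σ hσ J hJ e he hS (1 - j) (by
    rw [sub_sub_cancel_left]
    exact neg_mem hj)
  have hkill : ((1 : T) ⊗ₜ[R] (r • z)) = 0 := by
    rw [tmul_smul, show r • ((1 : T) ⊗ₜ[R] z) = (algebraMap R T r) • w from (algebraMap_smul T r w).symm,
      show algebraMap R T r = r ⊗ₜ[B] 1 from rfl, ← hr, mul_smul, sub_smul, one_smul,
      show j • w = w from hjw, sub_self, smul_zero]
  -- back to `L`
  have hk : ∀ b, (Algebra.linearMap B S) b = 0 → ∃ n : ℕ, e ^ n • b = 0 := hS0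
  have hs : ∀ s : S, ∃ (n : ℕ) (b : B), (Algebra.linearMap B S) b = e ^ n • s := fun s => by
    obtain ⟨i, j, b, h⟩ := hS s
    refine ⟨i + j, e ^ i * b, ?_⟩
    rw [mul_sub, ← mul_assoc, ← pow_add, sub_eq_zero] at h
    rw [Algebra.linearMap_apply, map_mul, map_pow, ← h, Algebra.smul_def, map_pow]
  obtain ⟨n, hn⟩ := exists_pow_smul_eq_zero_of_rTensor (Algebra.linearMap B S) e hk hs ((1 : B) ⊗ₜ[B] (r • z)) (by
    rw [LinearMap.rTensor_tmul, Algebra.linearMap_apply, map_one]
    let back : T ⊗[R] L →ₗ[B] S ⊗[B] L :=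
      ((TensorProduct.comm B L S).toLinearMap).comp
        ((AlgebraTensorModule.cancelBaseChange B R R L S).toLinearMap.restrictScalars B |>.comp
          ((TensorProduct.comm R T L).toLinearMap.restrictScalars B))
    have hb : back ((1 : T) ⊗ₜ[R] (r • z)) = (1 : S) ⊗ₜ[B] (r • z) := by
      show TensorProduct.comm B L S (AlgebraTensorModule.cancelBaseChange B R R L S
        ((r • z) ⊗ₜ[R] ((1 : R) ⊗ₜ[B] (1 : S)))) = _
      rw [AlgebraTensorModule.cancelBaseChange_tmul, one_smul, TensorProduct.comm_tmul]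
    rw [← hb, hkill, map_zero])
  refine ⟨algebraMap B R (e ^ n) * r, ?_, ?_⟩
  · rw [map_mul, map_pow, map_pow]
    exact mul_ne_zero (pow_ne_zero n he) hr0
  · rw [mul_smul, algebraMap_smul]
    have h2 := congrArg (TensorProduct.lid B L) hn
    rwa [map_smul, TensorProduct.lid_tmul, one_smul, map_zero] at h2

end Chart

section Coker

variable {B R S : Type u} [CommRing B] [CommRing R] [CommRing S] [Algebra B R] [Algebra B S]
  [IsNoetherianRing R] [Algebra.FiniteType B S]
  {V : Type u} [CommRing V] [IsDomain V] [IsLocalRing V] (θ : R →+* V) (σ : S →+* V)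
  (hσ : ∀ b : B, σ (algebraMap B S b) = θ (algebraMap B R b))
  (J : Ideal B) (hJac : J.map (algebraMap B R) ≤ Ideal.jacobson ⊥)
  (hJ : ∀ j ∈ J, θ (algebraMap B R j) ∈ IsLocalRing.maximalIdeal V)
  (e : B) (he : θ (algebraMap B R e) ≠ 0)
  (hS : ∀ s : S, ∃ (i j : ℕ) (b : B), algebraMap B S e ^ i * (algebraMap B S e ^ j * s - algebraMap B S b) = 0)

include hσ hJac hJ he hS in
/-- Cokernel elements: killed by a constant not vanishing on the valuation. -/
theorem exists_constant_range {L N H₀ M : Type u} [AddCommGroup L] [Module R L] [AddCommGroup N] [Module R N]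
    [Module B N] [IsScalarTower B R N] [Module.Finite R N]
    [AddCommGroup H₀] [Module B H₀] [AddCommGroup M] [Module B M] [Module S M] [IsScalarTower B S M]
    [Module.Finite S M]
    (α : L →ₗ[R] N) (ι₀ : H₀ →ₗ[B] N)
    (hι₀ : ∀ y, ∃ h, y - ι₀ h ∈ J.map (algebraMap B R) • (⊤ : Submodule R N))
    (res : H₀ →ₗ[B] M) (hk : ∀ h, res h = 0 → ∃ n : ℕ, e ^ n • h = 0)
    (hs : ∀ m, ∃ (n : ℕ) (h : H₀), res h = e ^ n • m)
    (hgen : ∀ m, m ∈ Submodule.span S (res '' {h | ∃ z, ι₀ h - α z ∈ J.map (algebraMap B R) • (⊤ : Submodule R N)}) ⊔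
      J.map (algebraMap B S) • (⊤ : Submodule S M))
    (y : N) : ∃ r : R, θ r ≠ 0 ∧ r • y ∈ LinearMap.range α := by
  classical
  set JR := J.map (algebraMap B R)
  let T := S ⊗[B] R
  haveI : IsNoetherianRing T := by
    haveI := isNoetherianRing_chart (B := B) (R := R) (S := S)
    exact isNoetherianRing_of_ringEquiv (R ⊗[B] S) (Algebra.TensorProduct.comm B R S).toRingEquiv
  let JT : Ideal T := J.map (algebraMap B T)
  let ev : R ⊗[B] H₀ →ₗ[R] N := ι₀.liftBaseChange R
  have hev : ∀ h, ev ((1 : R) ⊗ₜ h) = ι₀ h := fun h => by simp [ev]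
  have hevs : Function.Surjective ev := by
    rw [← LinearMap.range_eq_top, eq_top_iff]
    refine Submodule.le_of_le_smul_of_le_jacobson_bot (Module.Finite.fg_top (R := R) (M := N)) hJac ?_
    intro x _
    obtain ⟨h, hh⟩ := hι₀ x
    exact Submodule.mem_sup.2 ⟨ι₀ h, ⟨_, hev h⟩, _, hh, add_sub_cancel _ _⟩
  let img : R ⊗[B] H₀ →ₗ[B] T ⊗[S] M := TensorProduct.lift
    (((TensorProduct.mk S T M).restrictScalars₁₂ B B).comp
      (Algebra.TensorProduct.includeRight : R →ₐ[B] T).toLinearMap |>.compl₂ res)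
  have himg : ∀ (r : R) (h : H₀), img (r ⊗ₜ h) = ((1 : S) ⊗ₜ[B] r : T) ⊗ₜ[S] res h := fun r h => by
    simp [img]
  have himgs : ∀ (r : R) (x : R ⊗[B] H₀), img (r • x) = ((1 : S) ⊗ₜ[B] r : T) • img x := fun r x => by
    induction x using TensorProduct.induction_on with
    | zero => rw [smul_zero, map_zero, smul_zero]
    | tmul r' h =>
      rw [smul_tmul', smul_eq_mul, himg, himg, smul_tmul', smul_eq_mul, Algebra.TensorProduct.tmul_mul_tmul, one_mul]
    | add x x' h h' => rw [smul_add, map_add, h, h', map_add, smul_add]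
  have himgJ : ∀ x ∈ JR • (⊤ : Submodule R (R ⊗[B] H₀)), img x ∈ JT • (⊤ : Submodule T (T ⊗[S] M)) := by
    intro x hx
    refine Submodule.smul_induction_on hx (fun r hr y _ => ?_) (fun a b ha hb => by rw [map_add]; exact add_mem ha hb)
    rw [himgs]
    refine Submodule.smul_mem_smul ?_ trivial
    have h := Ideal.mem_map_of_mem (Algebra.TensorProduct.includeRight : R →ₐ[B] T).toRingHom hr
    rw [Ideal.map_map, AlgHom.toRingHom_eq_coe, AlgHom.comp_algebraMap] at h
    exact h
  let Hα : Set H₀ := {h | ∃ z, ι₀ h - α z ∈ JR • (⊤ : Submodule R N)}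
  have hlift : ∀ h : Hα, ∃ a, ev a ∈ LinearMap.range α ∧ (1 : R) ⊗ₜ h.1 - a ∈ JR • (⊤ : Submodule R (R ⊗[B] H₀)) := by
    rintro ⟨h, z, hz⟩
    rw [← LinearMap.range_eq_top.2 hevs, ← Submodule.map_top, ← Submodule.map_smul''] at hz
    obtain ⟨j, hj, hj'⟩ := hz
    exact ⟨(1 : R) ⊗ₜ h - j, ⟨z, by rw [map_sub, hev, hj', sub_sub_cancel]⟩, by rwa [sub_sub_cancel]⟩
  choose a ha ha' using hlift
  let Q : Submodule T (T ⊗[S] M) := Submodule.span T (Set.range fun h => img (a h))
  have hQ : ⊤ ≤ Q ⊔ JT • (⊤ : Submodule T (T ⊗[S] M)) := by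
    rintro x -
    induction x using TensorProduct.induction_on with
    | zero => exact zero_mem _
    | add x x' h h' => exact add_mem h h'
    | tmul t m =>
      rw [show t ⊗ₜ[S] m = t • ((1 : T) ⊗ₜ[S] m) by rw [smul_tmul', smul_eq_mul, mul_one]]
      refine Submodule.smul_mem _ t ?_
      obtain ⟨p, hp, q, hq, rfl⟩ := Submodule.mem_sup.1 (hgen m)
      rw [tmul_add]
      refine add_mem ?_ (Submodule.mem_sup_right ?_)
      · induction hp using Submodule.span_induction with
        | mem p hp =>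
          obtain ⟨h, hh, rfl⟩ := hp
          have h1 : img (a ⟨h, hh⟩) + img ((1 : R) ⊗ₜ h - a ⟨h, hh⟩) = (1 : T) ⊗ₜ[S] res h := by
            rw [← map_add, add_sub_cancel, himg]
            rfl
          rw [← h1]
          exact Submodule.add_mem_sup (Submodule.subset_span ⟨⟨h, hh⟩, rfl⟩) (himgJ _ (ha' _))
        | zero => rw [tmul_zero]; exact zero_mem _
        | add p p' _ _ h h' => rw [tmul_add]; exact add_mem h h'
        | smul s p _ h =>
          rw [tmul_smul, ← algebraMap_smul T s]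
          exact Submodule.smul_mem _ _ h
      · refine Submodule.smul_induction_on hq (fun s hs m' _ => ?_) (fun a b ha hb => ?_)
        · rw [tmul_smul, ← algebraMap_smul T s]
          refine Submodule.smul_mem_smul ?_ trivial
          have := Ideal.mem_map_of_mem (algebraMap S T) hs
          rw [Ideal.map_map, ← IsScalarTower.algebraMap_eq] at this
          exact this
        · rw [tmul_add]; exact add_mem ha hb
  obtain ⟨u, hu, hu0⟩ := Submodule.exists_sub_one_mem_and_smul_eq_zero_of_fg_of_le_smul JT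
    (⊤ : Submodule T ((T ⊗[S] M) ⧸ Q)) Module.Finite.fg_top (by
      rw [← Submodule.range_mkQ Q, ← Submodule.map_top, ← Submodule.map_smul'']
      refine (Submodule.map_mono hQ).trans ?_
      rw [Submodule.map_sup, Submodule.mkQ_map_self, bot_sup_eq])
  obtain ⟨yt, rfl⟩ := hevs y
  have hmem : u • img yt ∈ Q := (Submodule.Quotient.mk_eq_zero Q).1
    ((Submodule.Quotient.mk_smul Q u (img yt)).trans (hu0 (Submodule.Quotient.mk (img yt)) trivial))
  obtain ⟨n, c, g, hsum⟩ := Submodule.mem_span_set'.1 hmem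
  choose i hi using fun l => (g l).2
  -- constants
  let sw : T →ₐ[B] R ⊗[B] S := (Algebra.TensorProduct.comm B S R).toAlgHom
  have hsw : Function.Injective sw := (Algebra.TensorProduct.comm B S R).injective
  obtain ⟨N₀, r₀, hr₀, hr₀0⟩ := exists_good_constant θ σ hσ J hJ e he hS (sw u) (by
    have := Ideal.mem_map_of_mem sw.toRingHom hu
    rw [Ideal.map_map, AlgHom.toRingHom_eq_coe, AlgHom.comp_algebraMap] at this
    rw [RingHom.coe_coe, map_sub, map_one] at this
    exact this)
  choose N₁ r₁ hr₁ using fun l => exists_pow_mul_eq_constant (R := R) e hS (sw (c l))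
  set K := N₀ + ∑ l, N₁ l
  have hconst : ∀ (t : T) (N : ℕ) (r : R), N ≤ K → algebraMap B (R ⊗[B] S) e ^ N * sw t = r ⊗ₜ 1 →
      algebraMap B T e ^ K * t = (1 : S) ⊗ₜ[B] (algebraMap B R e ^ (K - N) * r) := by
    intro t N r hN h
    refine hsw ?_
    rw [map_mul, map_pow, sw.commutes, show sw ((1 : S) ⊗ₜ[B] (algebraMap B R e ^ (K - N) * r)) =
      (algebraMap B R e ^ (K - N) * r) ⊗ₜ[B] (1 : S) from Algebra.TensorProduct.comm_tmul _ _ _,
      ← Nat.sub_add_cancel hN, pow_add, mul_assoc, h, Nat.sub_add_cancel hN,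
      show algebraMap B (R ⊗[B] S) e = algebraMap B R e ⊗ₜ[B] 1 from rfl, Algebra.TensorProduct.tmul_pow,
      one_pow, Algebra.TensorProduct.tmul_mul_tmul, one_mul]
  have hN₁ : ∀ l, N₁ l ≤ K := fun l => (Finset.single_le_sum (fun l _ => Nat.zero_le (N₁ l))
    (Finset.mem_univ l)).trans (Nat.le_add_left _ _)
  set r := algebraMap B R e ^ (K - N₀) * r₀
  let x : R ⊗[B] H₀ := r • yt - ∑ l, (algebraMap B R e ^ (K - N₁ l) * r₁ l) • a (i l)
  have hx0 : img x = 0 := by
    simp only [x, map_sub, map_sum, himgs, sub_eq_zero]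
    rw [show r = algebraMap B R e ^ (K - N₀) * r₀ from rfl, ← hconst u N₀ r₀ (Nat.le_add_right _ _) hr₀,
      mul_smul, ← hsum, Finset.smul_sum]
    refine Finset.sum_congr rfl fun l _ => ?_
    rw [← hconst (c l) (N₁ l) (r₁ l) (hN₁ l) (hr₁ l), mul_smul]
    exact congrArg (fun v => algebraMap B T e ^ K • c l • v) (hi l).symm
  have hres : res.lTensor R x = 0 := by
    let Φ₀ : T →ₗ[B] M →ₗ[B] R ⊗[B] M := TensorProduct.lift
      (LinearMap.mk₂ B (fun (s : S) (r : R) => (TensorProduct.mk B R M r).comp ((LinearMap.lsmul S M s).restrictScalars B))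
        (fun s s' r => LinearMap.ext fun m => by simp [add_smul, tmul_add])
        (fun b s r => LinearMap.ext fun m => by simp)
        (fun s r r' => LinearMap.ext fun m => by simp [add_tmul])
        (fun b s r => LinearMap.ext fun m => by simp [smul_tmul']))
    let Φ : T ⊗[S] M →+ R ⊗[B] M := TensorProduct.liftAddHom
      { toFun := fun t => (Φ₀ t).toAddMonoidHom
        map_zero' := AddMonoidHom.ext fun m => by simp
        map_add' := fun t t' => AddMonoidHom.ext fun m => by simp }
      (fun s t m => by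
        show Φ₀ (s • t) m = Φ₀ t (s • m)
        induction t using TensorProduct.induction_on with
        | zero => simp
        | tmul s' r =>
          show r ⊗ₜ[B] ((s • s') • m) = r ⊗ₜ[B] (s' • s • m)
          rw [smul_eq_mul, mul_comm, mul_smul]
        | add t t' h h' => rw [smul_add, map_add, map_add, LinearMap.add_apply, LinearMap.add_apply, h, h'])
    have hΦ : ∀ x, Φ (img x) = res.lTensor R x := fun x => by
      induction x using TensorProduct.induction_on with
      | zero => simp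
      | tmul r h =>
        rw [himg]
        show r ⊗ₜ[B] ((1 : S) • res h) = _
        rw [one_smul, LinearMap.lTensor_tmul]
      | add x x' h h' => rw [map_add, map_add, h, h', map_add]
    rw [← hΦ, hx0, map_zero]
  obtain ⟨p, hp⟩ := exists_pow_smul_eq_zero_of_rTensor res e hk hs (TensorProduct.comm B R H₀ x) (by
    have := congrArg (TensorProduct.comm B R M) hres
    rw [map_zero] at this
    rw [← this]
    generalize x = x'
    induction x' using TensorProduct.induction_on with
    | zero => simp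
    | tmul r h => simp
    | add x x' h h' => simp [h, h'])
  refine ⟨algebraMap B R e ^ p * r, ?_, ?_⟩
  · simp only [r, map_mul, map_pow]
    exact mul_ne_zero (pow_ne_zero _ he) (mul_ne_zero (pow_ne_zero _ he) hr₀0)
  · have hx1 : e ^ p • x = 0 := (TensorProduct.comm B R H₀).injective (by rw [map_smul, hp, map_zero])
    have h1 := congrArg ev hx1
    rw [map_zero, ← algebraMap_smul R (e ^ p) x, map_smul, map_pow] at h1
    simp only [x, map_sub, map_sum, map_smul, smul_sub, sub_eq_zero] at h1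
    rw [mul_smul, h1, Finset.smul_sum]
    exact Submodule.sum_mem _ fun l _ => Submodule.smul_mem _ _ (Submodule.smul_mem _ _ (ha _))

end Coker

end Groth.Agent.FormalSys
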