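import Groth.Agent.FormalSysLib.PushMap
import Groth.Agent.FormalSysLib.PushAlg
import Groth.Agent.FormalSysLib.PushChart
import Groth.Agent.PullbackMod.Props

/-!
# Kernel and cokernel of a push-pull map of systems
-/

set_option autoImplicit false
set_option backward.isDefEq.respectTransparency false
set_option linter.unusedSectionVars false
set_option linter.style.haveILetI false

universe u

open CategoryTheory CategoryTheory.Limits AlgebraicGeometry TopologicalSpace Opposite TensorProduct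
open Groth.Agent.CohBase Groth.Agent.ProjCoh Groth.Agent.QCohLib

noncomputable section

namespace Groth.Agent.FormalSys

variable {A : Type u} [CommRing A] {X Y : Scheme.{u}} [X.Over (Spec (CommRingCat.of A))]
  [Y.Over (Spec (CommRingCat.of A))] [AlgebraicGeometry.IsNoetherian X] [AlgebraicGeometry.IsNoetherian Y]
  (f : X ⟶ Y) [IsProper f] (hf : f ≫ (Y ↘ Spec (CommRingCat.of A)) = X ↘ Spec (CommRingCat.of A)) (J : Ideal A)
  {F : X.Modules} (hF : Coh.IsCoh F) {G : ℕᵒᵖ ⥤ Y.Modules}
  (β : (G ⋙ Scheme.Modules.pullback f) ≅ Formal.completion J F)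

/-- What the chart needs: sections over the chart up to `e`-torsion. -/
theorem chart_facts (M : X.Modules) (hM : Coh.IsQCoh M) (hfM : Coh.IsQCoh ((Scheme.Modules.pushforward f).obj M))
    {U : Y.Opens} (hU : IsAffineOpen U) {W : X.Opens} (hW : W ≤ f ⁻¹ᵁ U) (hWa : IsAffineOpen W) (e : Γ(Y, U))
    (hle : f ⁻¹ᵁ Y.basicOpen e ≤ W) :
    (∀ h : Γ((Scheme.Modules.pushforward f).obj M, U), M.presheaf.map (homOfLE hW).op h = 0 →
        ∃ n : ℕ, e ^ n • h = 0) ∧
      ∀ m : Γ(M, W), ∃ (n : ℕ) (h : Γ((Scheme.Modules.pushforward f).obj M, U)),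
        M.presheaf.map (homOfLE hW).op h = f.appLE U W hW (e ^ n) • m := by
  haveI := hM
  haveI := hfM
  let e' : Γ(X, W) := f.appLE U W hW e
  have hb : X.basicOpen e' = f ⁻¹ᵁ Y.basicOpen e := by
    have e1 : e' = X.presheaf.map (homOfLE hW).op (f.app U e) := rfl
    rw [e1, Scheme.basicOpen_res, Scheme.preimage_basicOpen, inf_eq_right.2]
    rw [← Scheme.preimage_basicOpen]
    exact hle
  refine ⟨fun h hh => ?_, fun m => ?_⟩
  · have h0 : ((Scheme.Modules.pushforward f).obj M).presheaf.map (homOfLE (Y.basicOpen_le e)).op h = 0 := by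
      show M.presheaf.map (homOfLE (f.preimage_mono (Y.basicOpen_le e))).op h = 0
      rw [← restr_trans M hW hle, hh, map_zero]
    obtain ⟨n, hn⟩ := (locAt ((Scheme.Modules.pushforward f).obj M) hU).kill e h h0
    refine ⟨n, ?_⟩
    rw [← hn]
    refine (congrArg (fun c => c • h) ?_)
    exact (congr($(Y.presheaf.map_id (op U)) (e ^ n))).symm
  · obtain ⟨n, h, hh⟩ := (locAt ((Scheme.Modules.pushforward f).obj M) hU).extend e
      (M.presheaf.map (homOfLE hle).op m)
    obtain ⟨k, hk⟩ := (locAt M hWa).kill e' (M.presheaf.map (homOfLE hW).op h - f.appLE U W hW (e ^ n) • m) (by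
      have key : ∀ V : X.Opens, ∀ hV : V ≤ W, ∀ hVU : V ≤ f ⁻¹ᵁ Y.basicOpen e,
          M.presheaf.map (homOfLE hV).op (M.presheaf.map (homOfLE hW).op h - f.appLE U W hW (e ^ n) • m) = 0 := by
        intro V hV hVU
        rw [map_sub, sub_eq_zero]
        refine (restr_trans M hW hV h).trans ?_
        have h1 := congrArg (M.presheaf.map (homOfLE hVU).op) hh
        refine (restr_trans M (f.preimage_mono (Y.basicOpen_le e)) hVU h).symm.trans (h1.trans ?_)
        refine Eq.trans (M.map_smul (homOfLE hVU) _ _) ?_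
        refine Eq.trans ?_ (M.map_smul (homOfLE hV) _ _).symm
        refine congrArg₂ (fun (a : Γ(X, V)) (b : Γ(M, V)) => a • b) ?_ (restr_trans M hle hVU m)
        show X.presheaf.map _ (f.app _ (Y.presheaf.map _ (e ^ n))) = _
        rw [Scheme.Hom.app_eq_appLE, ← CategoryTheory.ConcreteCategory.comp_apply,
          ← CategoryTheory.ConcreteCategory.comp_apply, ← CategoryTheory.ConcreteCategory.comp_apply,
          Scheme.Hom.appLE_map, Scheme.Hom.map_appLE, Scheme.Hom.appLE_map]
      exact key _ _ hb.le)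
    refine ⟨n + k, e ^ k • h, ?_⟩
    have hk' : f.appLE U W hW (e ^ k) • (M.presheaf.map (homOfLE hW).op h - f.appLE U W hW (e ^ n) • m) = 0 := by
      rw [map_pow]
      exact (congrArg (fun c => c • (_ : Γ(M, W))) (congr($(X.presheaf.map_id (op W)) (e' ^ k))).symm).trans hk
    rw [smul_sub, sub_eq_zero, ← mul_smul, ← map_mul, ← pow_add, add_comm k n] at hk'
    rw [← hk']
    refine (M.map_smul (homOfLE hW) (f.app U (e ^ k)) h).trans ?_
    rw [Scheme.Hom.app_eq_appLE]
    exact congrArg (fun c : Γ(X, W) => c • M.presheaf.map (homOfLE hW).op h) (appLE_res f hW le_rfl (e ^ k))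

/-- Functions on the chart are constants up to `e`-torsion. -/
theorem chart_ring {U : Y.Opens} (hU : IsAffineOpen U) {W : X.Opens} (hW : W ≤ f ⁻¹ᵁ U) (hWa : IsAffineOpen W)
    (e : Γ(Y, U)) (hle : f ⁻¹ᵁ Y.basicOpen e ≤ W) (hbij : Function.Bijective (f.app (Y.basicOpen e))) :
    (∀ s : Γ(X, W), ∃ (i j : ℕ) (b : Γ(Y, U)),
        f.appLE U W hW e ^ i * (f.appLE U W hW e ^ j * s - f.appLE U W hW b) = 0) ∧
      ∀ b : Γ(Y, U), f.appLE U W hW b = 0 → ∃ n : ℕ, e ^ n * b = 0 := by
  let e' : Γ(X, W) := f.appLE U W hW e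
  have hb : X.basicOpen e' = f ⁻¹ᵁ Y.basicOpen e := by
    have e1 : e' = X.presheaf.map (homOfLE hW).op (f.app U e) := rfl
    rw [e1, Scheme.basicOpen_res, Scheme.preimage_basicOpen, inf_eq_right.2]
    rw [← Scheme.preimage_basicOpen]
    exact hle
  letI : Algebra Γ(Y, U) Γ(Y, Y.basicOpen e) := (Y.presheaf.map (homOfLE (Y.basicOpen_le e)).op).hom.toAlgebra
  haveI : IsLocalization.Away e Γ(Y, Y.basicOpen e) := hU.isLocalization_basicOpen e
  letI : Algebra Γ(X, W) Γ(X, X.basicOpen e') := (X.presheaf.map (homOfLE (X.basicOpen_le e')).op).hom.toAlgebra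
  haveI : IsLocalization.Away e' Γ(X, X.basicOpen e') := hWa.isLocalization_basicOpen e'
  let r : Γ(X, f ⁻¹ᵁ Y.basicOpen e) ⟶ Γ(X, X.basicOpen e') := X.presheaf.map (homOfLE hb.le).op
  have hcomm : ∀ b : Γ(Y, U), algebraMap Γ(X, W) Γ(X, X.basicOpen e') (f.appLE U W hW b) =
      r (f.app _ (algebraMap Γ(Y, U) Γ(Y, Y.basicOpen e) b)) := fun b => by
    show X.presheaf.map _ (f.appLE U W hW b) = r (f.app _ (Y.presheaf.map _ b))
    simp only [r, Scheme.Hom.app_eq_appLE, ← CategoryTheory.ConcreteCategory.comp_apply, Scheme.Hom.appLE_map,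
      Scheme.Hom.map_appLE]
  have hr : Function.Bijective r := by
    haveI : IsIso r := by
      have : r = X.presheaf.map (eqToHom hb).op := congrArg _ (Subsingleton.elim _ _)
      rw [this]
      infer_instance
    exact ConcreteCategory.bijective_of_isIso r
  refine ⟨fun s => ?_, fun b hb0 => ?_⟩
  · obtain ⟨y, hy⟩ := (hr.comp hbij).2 (algebraMap Γ(X, W) Γ(X, X.basicOpen e') s)
    obtain ⟨⟨b, ⟨_, j, rfl⟩⟩, hbj⟩ := IsLocalization.surj (Submonoid.powers e) y
    have h1 : algebraMap Γ(X, W) Γ(X, X.basicOpen e') (e' ^ j * s - f.appLE U W hW b) = 0 := by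
      rw [map_sub, sub_eq_zero, map_mul, ← hy, hcomm, ← hbj, map_pow, hcomm]
      simp only [Function.comp_apply, map_mul, map_pow]
      ring
    obtain ⟨⟨_, i, rfl⟩, hi⟩ := (IsLocalization.map_eq_zero_iff (Submonoid.powers e') _ _).1 h1
    exact ⟨i, j, b, hi⟩
  · have h1 : algebraMap Γ(Y, U) Γ(Y, Y.basicOpen e) b = 0 := by
      refine (hr.comp hbij).1 ?_
      show r (f.app _ (algebraMap Γ(Y, U) Γ(Y, Y.basicOpen e) b)) = r (f.app _ 0)
      rw [← hcomm, hb0, map_zero, map_zero, map_zero]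
    obtain ⟨⟨_, n, rfl⟩, hn⟩ := (IsLocalization.map_eq_zero_iff (Submonoid.powers e) _ _).1 h1
    exact ⟨n, hn⟩

variable (α : G ⟶ Formal.completion J ((Scheme.Modules.pushforward f).obj F))

/-- The completed base of an affine open. -/
abbrev RU (J : Ideal A) (U : Y.Opens) : Type u := AdicCompletion (JU J U) Γ(Y, U)

set_option maxHeartbeats 1600000 in
include hf hF in
/-- The main computation: away from the centre, the completed map is bijective. -/
theorem exists_pow_bound (hG : Formal.IsCohFormal J G) (O : Y.Opens) [IsIso (f ∣_ O)] {U : Y.Opens}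
    (hU : IsAffineOpen U) (a : Γ(Y, U)) (ha : Y.basicOpen a ≤ O) (c : ℕ)
    (hc1 : ∀ (k : ℕ) (s : Γ((Scheme.Modules.pushforward f).obj F, U)), (ρ f J F k).app U s = 0 →
        s ∈ JU J U ^ (k + 1 - c) • (⊤ : Submodule Γ(Y, U) Γ((Scheme.Modules.pushforward f).obj F, U)))
    (hex : ∀ (n k : ℕ) (h : n + c + c ≤ k) (x : Γ(G.obj (op k), U)), ∃ s,
        (ρ f J F (n + c)).app U s = (trQ f J F (show n + c ≤ k by omega)).app U ((adjMap f J β k).app U x))
    (hα : ∀ (n k : ℕ) (h : n + c + c ≤ k) (x : Γ(G.obj (op k), U))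
          (s : Γ((Scheme.Modules.pushforward f).obj F, U)),
          (ρ f J F (n + c)).app U s = (trQ f J F (show n + c ≤ k by omega)).app U ((adjMap f J β k).app U x) →
          (α.app (op n)).app U ((tr G (show n ≤ k by omega)).app U x) =
            (cπ J ((Scheme.Modules.pushforward f).obj F) n).app U s) :
    ∃ p : ℕ, ∀ n : ℕ, (∀ x, (α.app (op n)).app U x = 0 → a ^ p • x = 0) ∧
      ∀ y, ∃ x, (α.app (op n)).app U x = a ^ p • y := by
  classical
  let H := (Scheme.Modules.pushforward f).obj F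
  have hH : Coh.IsCoh H := by
    haveI := hF.1
    exact RpushLib.isCoh_push f hF
  haveI := isNoetherianRing_section hU
  let CH := Formal.completion J H
  have hCH : Formal.IsCohFormal J CH := isCohFormal_completion hH J
  haveI : ∀ n, Module.Finite Γ(Y, U) Γ(G.obj (op n), U) := fun n => finite_sections_of_isCoh (hG.1 n) hU
  haveI : ∀ n, Module.Finite Γ(Y, U) Γ(CH.obj (op n), U) := fun n => finite_sections_of_isCoh (hCH.1 n) hU
  have hG' := adic_sections hG hU
  have hN' := adic_sections hCH hU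
  let B := Γ(Y, U)
  let R := RU J U
  letI := fun n => modR (JU J U) n (hG'.torsion n)
  letI := fun n => modR (JU J U) n (hN'.torsion n)
  haveI := fun n => modR_tower (JU J U) n (hG'.torsion n)
  haveI := fun n => modR_tower (JU J U) n (hN'.torsion n)
  haveI : IsNoetherianRing R := RegLocal.isNoetherianRing_adicCompletion (JU J U) (JU J U).fg_of_isNoetherianRing
  set JR := (JU J U).map (algebraMap B R)
  haveI : IsAdicComplete JR R := AdicCompletion.isAdicComplete_self (JU J U) (JU J U).fg_of_isNoetherianRing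
  haveI : ∀ n, Module.Finite R Γ(G.obj (op n), U) := fun n => Module.Finite.of_restrictScalars_finite B R _
  haveI : ∀ n, Module.Finite R Γ(CH.obj (op n), U) := fun n => Module.Finite.of_restrictScalars_finite B R _
  obtain ⟨hfL, hπL⟩ := (hG'.adicR (JU J U)).lim_spec
  obtain ⟨hfN, hπN⟩ := (hN'.adicR (JU J U)).lim_spec
  let L := Adic.lim (M := fun n => ↥Γ(G.obj (op n), U)) hG'.TR
  let N := Adic.lim (M := fun n => ↥Γ(CH.obj (op n), U)) hN'.TR
  let πG : ∀ n, L →ₗ[R] Γ(G.obj (op n), U) := fun n => Adic.proj hG'.TR n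
  let πH : ∀ n, N →ₗ[R] Γ(CH.obj (op n), U) := fun n => Adic.proj hN'.TR n
  let Φ : L →ₗ[R] N := Adic.limMap (hG'.mapR hN' (fun n => appLinear (α.app (op n)) U))
    (fun h x => congr($(tr_app α h).app U x))
  have htrL : ∀ {n k : ℕ} (h : n ≤ k) (z : L), (tr G h).app U (πG k z) = πG n z := fun h z => z.2 _ _ h
  have hΦ : ∀ n z, πH n (Φ z) = (α.app (op n)).app U (πG n z) := fun n z => rfl
  -- lifts
  have hspec : ∀ (k : ℕ) (z : L), ∃ s : Γ(H, U), πH k (Φ z) = (cπ J H k).app U s ∧
      (ρ f J F k).app U s = (adjMap f J β k).app U (πG k z) := by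
    intro k z
    obtain ⟨s, hs⟩ := hex k (k + c + c) le_rfl (πG _ z)
    refine ⟨s, ?_, ?_⟩
    · rw [hΦ, ← htrL (show k ≤ k + c + c by omega) z]
      exact hα k (k + c + c) le_rfl _ s hs
    · have h1 := congrArg ((trQ f J F (show k ≤ k + c by omega)).app U) hs
      rw [← app_comp_apply (ρ f J F (k + c)), ρ_trQ, ← app_comp_apply (trQ f J F _), ← Functor.map_comp, tr_comp] at h1
      rw [h1, ← app_comp_apply (adjMap f J β (k + c + c)), ← adjMap_natural, app_comp_apply, htrL]
  -- the key: away from primes containing `a`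
  have hmain : ∀ q : Ideal R, q.IsPrime → algebraMap B R a ∉ q →
      (∀ z, Φ z = 0 → ∃ r ∉ q, r • z = 0) ∧ ∀ y, ∃ r ∉ q, r • y ∈ LinearMap.range Φ := by
    intro q hq hqa
    let K := FractionRing (R ⧸ q)
    let θK : R →+* K := (algebraMap (R ⧸ q) K).comp (Ideal.Quotient.mk q)
    have hker : ∀ r, θK r = 0 ↔ r ∈ q := fun r => by
      show algebraMap (R ⧸ q) K _ = 0 ↔ _
      exact (map_eq_zero_iff _ (IsFractionRing.injective (R ⧸ q) K)).trans Ideal.Quotient.eq_zero_iff_mem
    let I₀ : Ideal θK.range := JR.map θK.rangeRestrict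
    have hI₀ : I₀ ≠ ⊤ := by
      intro htop
      obtain ⟨j, hj, hj1⟩ := (Ideal.mem_map_iff_of_surjective _ θK.rangeRestrict_surjective).1
        ((Ideal.eq_top_iff_one I₀).1 htop)
      have h1 : j - 1 ∈ q := by
        rw [← hker, map_sub, map_one, sub_eq_zero]
        exact congrArg Subtype.val hj1
      have hu : IsUnit (j - 1) := by
        have := Ideal.mem_jacobson_bot.1 (IsAdicComplete.le_jacobson_bot JR hj) (-1)
        rw [show j * -1 + 1 = -(j - 1) by ring] at this
        exact IsUnit.neg_iff _ |>.1 this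
      exact hq.ne_top (Ideal.eq_top_of_isUnit_mem _ h1 hu)
    obtain ⟨V, hV, hVI⟩ := Ideal.image_subset_nonunits_valuationSubring I₀ hI₀
    let θ : R →+* V := θK.codRestrict V.toSubring fun r => hV ⟨r, rfl⟩
    have hθ0 : ∀ r, θ r = 0 ↔ r ∈ q := fun r => by
      rw [← hker]
      exact ⟨fun h => congrArg Subtype.val h, fun h => Subtype.ext h⟩
    have hθJ : ∀ j ∈ JU J U, θ (algebraMap B R j) ∈ IsLocalRing.maximalIdeal V := fun j hj =>
      (ValuationSubring.coe_mem_nonunits_iff).1
        (hVI ⟨θK.rangeRestrict (algebraMap B R j), Ideal.mem_map_of_mem _ (Ideal.mem_map_of_mem _ hj), rfl⟩)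
    obtain ⟨W, hW, σ, e, hWa, hσ, he, hle, hea⟩ := exists_chart f O hU a ha (V := V) (K := K)
      (θ.comp (algebraMap B R)) (fun h => hqa ((hθ0 _).1 h))
    let S := Γ(X, W)
    letI : Algebra B S := (f.appLE U W hW).hom.toAlgebra
    haveI : Algebra.FiniteType B S := f.finiteType_appLE hU hWa hW
    obtain ⟨hS, hS0⟩ := chart_ring f hU hW hWa e hle (app_bijective_of_le f (hea.trans ha))
    -- the inverse image on the chart
    have hpull : ∀ (k : ℕ) (x : Γ(G.obj (op k), U)), (β.hom.app (op k)).app W (PullbackMod.pullMap f (G.obj (op k)) hW x) =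
        ((Formal.completion J F).obj (op k)).presheaf.map (homOfLE hW).op ((adjMap f J β k).app U x) := fun k x =>
      QCohLib.app_res (β.hom.app (op k)) hW _
    have hβinj : ∀ k, Function.Injective ((β.hom.app (op k)).app W) := fun k => by
      haveI : Mono (β.hom.app (op k)) := inferInstance
      exact app_injective_of_mono _ W
    have hkill : ∀ z, Φ z = 0 → ∀ k, (1 : S) ⊗ₜ[B] πG k z = 0 := by
      intro z hz k
      haveI : Coh.IsQCoh (G.obj (op k)) := (hG.1 k).1
      obtain ⟨φ, hφ⟩ := PullbackMod.exists_pullback_sections_equiv f (G.obj (op k)) hU hWa hW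
      refine φ.injective ?_
      rw [hφ, one_smul, map_zero]
      refine hβinj k ?_
      rw [hpull, map_zero]
      obtain ⟨s, hs1, hs2⟩ := hspec k z
      rw [hz, map_zero] at hs1
      have h3 : (ρ f J F k).app U s = 0 := by
        have h4 := app_mem_smul (ρ f J F k) ((cπ_app_mem hH k hU).1 hs1.symm)
        have hk0 : Formal.KilledBy (J ^ (k + 1)) ((Scheme.Modules.pushforward f).obj ((Formal.completion J F).obj (op k))) :=
          fun b hb => by
            rw [← FormalLib.push_smulMod f hf, (isCohFormal_completion hF J).2.1 k b hb]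
            exact Functor.map_zero _ _ _
        rwa [JU_pow_smul_eq_bot hk0 hU, Submodule.mem_bot] at h4
      rw [← hs2, h3, map_zero]
    refine ⟨fun z hz => ?_, fun y => ?_⟩
    · obtain ⟨r, hr, hrz⟩ := exists_constant_kills (B := B) (R := R) (S := S) (V := V) θ σ hσ (JU J U) hθJ e he hS hS0
        (π := fun k => (πG k).restrictScalars B) (fun k => (hπL k).1) (fun k x hx => by
          have h1 : x ∈ LinearMap.ker (πG k) := hx
          rw [(hπL k).2] at h1
          exact Submodule.smul_mono (Ideal.pow_le_pow_right (Nat.le_succ k)) le_rfl h1) z (hkill z hz)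
      exact ⟨r, fun h => hr ((hθ0 r).2 h), hrz⟩
    · obtain ⟨hk1, hk2⟩ := chart_facts f F hF.1 hH.1 hU hW hWa e hle
      let ι₀ : Γ(H, U) →ₗ[B] N :=
        { toFun := fun h => ⟨fun n => (cπ J H n).app U h, fun m k hmk => congr($(cπ_tr (I := J) H hmk).app U h)⟩
          map_add' := fun h h' => Subtype.ext (funext fun n => map_add _ _ _)
          map_smul' := fun b h => Subtype.ext (funext fun n => Scheme.Modules.Hom.app_smul _ _ _) }
      have hker0 : ∀ w : N, πH 0 w = 0 → w ∈ JR • (⊤ : Submodule R N) := fun w hw => by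
        have h1 : w ∈ LinearMap.ker (πH 0) := hw
        rw [(hπN 0).2, zero_add, pow_one] at h1
        exact h1
      letI : Module B Γ(F, W) := Module.compHom Γ(F, W) (f.appLE U W hW).hom
      haveI : IsScalarTower B S Γ(F, W) := .of_algebraMap_smul fun _ _ => rfl
      haveI : Module.Finite S Γ(F, W) := finite_sections_of_isCoh hF hWa
      let res : Γ(H, U) →ₗ[B] Γ(F, W) :=
        { toFun := fun h => F.presheaf.map (homOfLE hW).op h
          map_add' := fun h h' => map_add _ h h'
          map_smul' := fun b h => by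
            refine (F.map_smul (homOfLE hW) (f.app U b) h).trans ?_
            show _ = f.appLE U W hW b • F.presheaf.map (homOfLE hW).op h
            rw [Scheme.Hom.app_eq_appLE]
            exact congrArg (fun t : S => t • F.presheaf.map (homOfLE hW).op h) (appLE_res f hW le_rfl b) }
      have hι : ∀ y : N, ∃ h, y - ι₀ h ∈ JR • (⊤ : Submodule R N) := fun y => by
        obtain ⟨h, hh⟩ := (app_cπ hH 0 hU).1 (πH 0 y)
        refine ⟨h, hker0 _ ?_⟩
        rw [map_sub, sub_eq_zero]
        exact hh.symm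
      have hgen' : ∀ m : Γ(F, W), m ∈ Submodule.span S (res '' {h | ∃ z, ι₀ h - Φ z ∈ JR • (⊤ : Submodule R N)}) ⊔
          (JU J U).map (algebraMap B S) • (⊤ : Submodule S Γ(F, W)) := fun m => by
        set Hα := {h | ∃ z, ι₀ h - Φ z ∈ JR • (⊤ : Submodule R N)}
        haveI : Coh.IsQCoh (G.obj (op 0)) := (hG.1 0).1
        obtain ⟨φ, hφ⟩ := PullbackMod.exists_pullback_sections_equiv f (G.obj (op 0)) hU hWa hW
        haveI : IsIso (β.hom.app (op 0)) := inferInstance
        have hgen : ∀ t : Γ(X, W) ⊗[B] Γ(G.obj (op 0), U), ∃ p ∈ Submodule.span S (res '' Hα),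
            (cπ J F 0).app W p = (β.hom.app (op 0)).app W (φ t) := by
          intro t
          induction t using TensorProduct.induction_on with
          | zero => exact ⟨0, zero_mem _, by rw [map_zero, map_zero, map_zero]⟩
          | add t t' h h' =>
            obtain ⟨p, hp, hp'⟩ := h
            obtain ⟨p', hq, hq'⟩ := h'
            exact ⟨p + p', add_mem hp hq, by rw [map_add, map_add, map_add, hp', hq']⟩
          | tmul b x =>
            obtain ⟨z, rfl⟩ := (hπL 0).1 x
            obtain ⟨s, hs1, hs2⟩ := hspec 0 z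
            refine ⟨b • res s, Submodule.smul_mem _ _ (Submodule.subset_span ⟨s, ⟨z, hker0 _ ?_⟩, rfl⟩), ?_⟩
            · rw [map_sub, sub_eq_zero]
              exact hs1.symm
            · rw [hφ, Scheme.Modules.Hom.app_smul, Scheme.Modules.Hom.app_smul]
              refine congrArg (b • ·) ?_
              refine Eq.trans ?_ (hpull 0 (πG 0 z)).symm
              rw [← hs2]
              exact QCohLib.app_res (cπ J F 0) hW s
        have hβs : Function.Surjective ((β.hom.app (op 0)).app W) := (ConcreteCategory.bijective_of_isIso _).2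
        obtain ⟨v, hv⟩ := hβs ((cπ J F 0).app W m)
        obtain ⟨t, rfl⟩ := φ.surjective v
        obtain ⟨p, hp, hp'⟩ := hgen t
        refine Submodule.mem_sup.2 ⟨p, hp, m - p, ?_, add_sub_cancel _ _⟩
        have h1 := (cπ_app_mem hF 0 hWa).1 (show (cπ J F 0).app W (m - p) = 0 by rw [map_sub, hp', hv, sub_self])
        rw [zero_add, pow_one, ← map_JU_appLE f hf J hW] at h1
        exact h1
      obtain ⟨r, hr, hry⟩ := exists_constant_range (B := B) (R := R) (S := S) (V := V) θ σ hσ (JU J U)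
        (IsAdicComplete.le_jacobson_bot JR) hθJ e he hS Φ ι₀ hι res hk1 hk2 hgen' y
      exact ⟨r, fun h => hr ((hθ0 r).2 h), hry⟩
  -- powers of `a`
  have hrad : ∀ 𝔞 : Ideal R, (∀ q : Ideal R, q.IsPrime → algebraMap B R a ∉ q → ¬ 𝔞 ≤ q) →
      ∃ p, algebraMap B R a ^ p ∈ 𝔞 := fun 𝔞 h => by
    have : algebraMap B R a ∈ 𝔞.radical := by
      rw [Ideal.radical_eq_sInf, Ideal.mem_sInf]
      rintro q ⟨hle, hq⟩
      by_contra hqa
      exact h q hq hqa hle
    exact this
  have hsub : ∀ (M : Type u) [AddCommGroup M] [Module R M] (P P' : Submodule R M), P.FG →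
      (∀ q : Ideal R, q.IsPrime → algebraMap B R a ∉ q → ∀ x ∈ P, ∃ r ∉ q, r • x ∈ P') →
      ∃ p, ∀ x ∈ P, algebraMap B R a ^ p • x ∈ P' := by
    intro M _ _ P P' hP h
    obtain ⟨T, rfl⟩ := hP
    obtain ⟨p, hp⟩ := hrad (P'.colon (Submodule.span R (T : Set M) : Set M)) fun q hq hqa hle => by
      choose r hr hr' using fun x : T => h q hq hqa x.1 (Submodule.subset_span x.2)
      have h1 : ∏ x, r x ∉ q := fun hmem => by
        obtain ⟨x, -, hx⟩ := hq.prod_mem_iff.1 hmem
        exact hr x hx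
      refine h1 (hle (Submodule.mem_colon.2 fun y hy => ?_))
      induction hy using Submodule.span_induction with
      | mem y hy =>
        rw [← Finset.prod_erase_mul _ _ (Finset.mem_univ (⟨y, hy⟩ : T)), mul_smul]
        exact Submodule.smul_mem _ _ (hr' _)
      | zero => rw [smul_zero]; exact zero_mem _
      | add y y' _ _ h h' => rw [smul_add]; exact add_mem h h'
      | smul b y _ h => rw [smul_comm]; exact Submodule.smul_mem _ _ h
    exact ⟨p, fun x hx => Submodule.mem_colon.1 hp x hx⟩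
  haveI : IsNoetherian R L := isNoetherian_of_isNoetherianRing_of_finite R L
  obtain ⟨p₁, hp₁⟩ := hsub L (LinearMap.ker Φ) ⊥ (IsNoetherian.noetherian _) fun q hq hqa z hz => by
    obtain ⟨r, hr, hrz⟩ := (hmain q hq hqa).1 z hz
    exact ⟨r, hr, (Submodule.mem_bot R).2 hrz⟩
  obtain ⟨p₂, hp₂⟩ := hsub N ⊤ (LinearMap.range Φ) (Module.Finite.fg_top) fun q hq hqa y _ => (hmain q hq hqa).2 y
  refine ⟨p₁ + p₂, fun n => ⟨fun x hx => ?_, fun y => ?_⟩⟩
  · obtain ⟨z, rfl⟩ := (hπL n).1 x
    have h1 : Φ z ∈ LinearMap.ker (πH n) := hx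
    rw [(hπN n).2] at h1
    have h2 : algebraMap B R a ^ p₂ • Φ z ∈ JR ^ (n + 1) • LinearMap.range Φ := by
      refine Submodule.smul_induction_on h1 (fun r hr y _ => ?_) (fun u v hu hv => by rw [smul_add]; exact add_mem hu hv)
      rw [smul_comm]
      exact Submodule.smul_mem_smul hr (hp₂ y trivial)
    rw [← Submodule.map_top, ← Submodule.map_smul''] at h2
    obtain ⟨w, hw, hw'⟩ := h2
    have h3 := hp₁ (algebraMap B R a ^ p₂ • z - w) (by rw [LinearMap.mem_ker, map_sub, map_smul, hw', sub_self])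
    rw [Submodule.mem_bot, smul_sub, sub_eq_zero, ← mul_smul, ← pow_add] at h3
    have h4 : w ∈ LinearMap.ker (πG n) := by rw [(hπL n).2]; exact hw
    have h5 := congrArg (πG n) h3
    rw [map_smul, map_smul, LinearMap.mem_ker.1 h4, smul_zero, ← map_pow, algebraMap_smul] at h5
    exact h5
  · obtain ⟨w, rfl⟩ := (hπN n).1 y
    obtain ⟨z, hz⟩ := hp₂ w trivial
    refine ⟨πG n (algebraMap B R a ^ p₁ • z), ?_⟩
    rw [← hΦ, map_smul Φ, hz, ← mul_smul, ← pow_add, map_smul, ← map_pow, algebraMap_smul]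

include hf hF β in
/-- The push-pull map of systems. -/
theorem exists_push_pull (hG : Formal.IsCohFormal J G) (K : Y.IdealSheafData) (hV : IsIso (f ∣_ K.support.compl)) :
    ∃ α : G ⟶ Formal.completion J ((Scheme.Modules.pushforward f).obj F), Formal2.KerCokerKilledByPow K α := by
  classical
  obtain ⟨ι, hι, V, hVa, hcov, c, hc1, hex, α, hα⟩ := exists_push_map f hf J hF β hG
  haveI := Fintype.ofFinite ι
  refine ⟨α, ?_⟩
  let H := (Scheme.Modules.pushforward f).obj F
  have hH : Coh.IsCoh H := by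
    haveI := hF.1
    exact RpushLib.isCoh_push f hF
  have hCH := isCohFormal_completion hH J
  have h1 : ∀ i, ∃ t : ℕ, ∀ a ∈ K.ideal ⟨V i, hVa i⟩ ^ t, ∀ n : ℕ,
      (∀ x, (α.app (op n)).app (V i) x = 0 → a • x = 0) ∧ ∀ y, ∃ x, (α.app (op n)).app (V i) x = a • y := by
    intro i
    let 𝔞 : Ideal Γ(Y, V i) :=
      { carrier := {a | ∀ n : ℕ, (∀ x, (α.app (op n)).app (V i) x = 0 → a • x = 0) ∧
          ∀ y, ∃ x, (α.app (op n)).app (V i) x = a • y}
        zero_mem' := fun n => ⟨fun x _ => zero_smul _ _, fun y => ⟨0, by rw [map_zero, zero_smul]⟩⟩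
        add_mem' := fun {a b} ha hb n => ⟨fun x hx => by rw [add_smul, (ha n).1 x hx, (hb n).1 x hx, add_zero],
          fun y => by
            obtain ⟨x, hx⟩ := (ha n).2 y
            obtain ⟨x', hx'⟩ := (hb n).2 y
            exact ⟨x + x', by rw [map_add, hx, hx', add_smul]⟩⟩
        smul_mem' := fun b a ha n => ⟨fun x hx => by rw [smul_eq_mul, mul_smul, (ha n).1 x hx, smul_zero],
          fun y => by
            obtain ⟨x, hx⟩ := (ha n).2 y
            exact ⟨b • x, by rw [Scheme.Modules.Hom.app_smul, hx, smul_eq_mul, mul_smul]⟩⟩ }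
    haveI := isNoetherianRing_section (hVa i)
    have hle : K.ideal ⟨V i, hVa i⟩ ≤ 𝔞.radical := by
      intro a ha
      have hbasic : Y.basicOpen a ≤ K.support.compl := fun y hy hyK => by
        have hy' : y ∈ V i := Y.basicOpen_le a hy
        have h2 := (Scheme.IdealSheafData.mem_support_iff_of_mem (U := ⟨V i, hVa i⟩) hy').1 hyK
        rw [Scheme.mem_zeroLocus_iff] at h2
        exact h2 a ha hy
      haveI := hV
      obtain ⟨p, hp⟩ := exists_pow_bound f hf J hF β α hG K.support.compl (hVa i) a hbasic c (hc1 i) (hex i)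
        (fun n k h x s => hα n k h (V i) (hVa i) x s)
      exact ⟨p, hp⟩
    obtain ⟨t, ht⟩ := Ideal.exists_pow_le_of_le_radical_of_fg hle (IsNoetherian.noetherian _)
    exact ⟨t, fun a ha => ht ha⟩
  choose t ht using h1
  set T := Finset.univ.sup t
  refine ⟨T, fun n => ?_⟩
  have hK : ∀ (i : ι) (a : Γ(Y, V i)), a ∈ (K ^ (T + 1)).ideal ⟨V i, hVa i⟩ → a ∈ K.ideal ⟨V i, hVa i⟩ ^ t i := by
    intro i a ha
    rw [Scheme.IdealSheafData.ideal_pow, Pi.pow_apply] at ha
    exact Ideal.pow_le_pow_right ((Finset.le_sup (f := t) (Finset.mem_univ i)).trans (Nat.le_succ _)) ha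
  obtain ⟨hkc, hcc⟩ := isCoh_kernel_cokernel (α.app (op n)) (hG.1 n) (hCH.1 n)
  have main : ∀ N : Y.Modules, Coh.IsCoh N → (∀ i (a : Γ(Y, V i)), a ∈ (K ^ (T + 1)).ideal ⟨V i, hVa i⟩ →
      ∀ s : Γ(N, V i), a • s = 0) → ClSub.KilledByIdeal (K ^ (T + 1)) N := by
    intro N hN h U a ha s
    haveI := hN.1
    have h0 : ∀ i (z : Γ(N, V i)), (iqπ (K ^ (T + 1)) N).app (V i) z = 0 → z = 0 := fun i z hz => by
      have h2 : z ∈ LinearMap.ker (appLinear (iqπ (K ^ (T + 1)) N) (V i)) := hz
      rw [(app_iqπ _ hN.1 (hVa i)).2] at h2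
      refine Submodule.smul_induction_on h2 (fun b hb m _ => h i b hb m) (fun u v hu hv => by rw [hu, hv, add_zero])
    have h3 : a • s ∈ LinearMap.ker (appLinear (iqπ (K ^ (T + 1)) N) U.1) := by
      rw [(app_iqπ _ hN.1 U.2).2]
      exact Submodule.smul_mem_smul ha trivial
    exact vanish_of_cover (iqπ (K ^ (T + 1)) N) (𝟙 N) hN.1 (isCoh_iq _ hN).1 V hVa hcov (fun i z hz => h0 i z hz)
      (a • s) h3
  refine ⟨main _ hkc fun i a ha z => ?_, main _ hcc fun i a ha z => ?_⟩
  · refine app_injective_of_mono (kernel.ι (α.app (op n))) (V i) ?_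
    rw [Scheme.Modules.Hom.app_smul, map_zero]
    exact (ht i a (hK i a ha) n).1 _ congr($(kernel.condition (α.app (op n))).app (V i) z)
  · obtain ⟨y, rfl⟩ := (FormalLib.cokernel_app (α.app (op n)) (hG.1 n).1 (hCH.1 n).1 (hVa i)).1 z
    obtain ⟨x, hx⟩ := (ht i a (hK i a ha) n).2 y
    rw [← Scheme.Modules.Hom.app_smul, ← hx]
    exact congr($(cokernel.condition (α.app (op n))).app (V i) x)

end Groth.Agent.FormalSys
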