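import Groth.Agent.FormalSysLib.QuasiProj
import Groth.Agent.FormalSysLib.PushKill
import Groth.Agent.HomLib.Completion
import Groth.Agent.S0025

/-!
# Grothendieck's existence theorem with proper supports
-/

set_option autoImplicit false
set_option linter.unusedSectionVars false
set_option linter.style.haveILetI false

universe u

open CategoryTheory CategoryTheory.Limits AlgebraicGeometry TopologicalSpace Opposite
open Groth.Agent.CohBase Groth.Agent.ProjCoh Groth.Agent.QCohLib

noncomputable section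

namespace Groth.Agent.FormalSys

variable {A : Type u} [CommRing A] [IsNoetherianRing A] {I : Ideal A} [IsAdicComplete I A]

/-- Existence on the empty scheme. -/
theorem exists_of_isEmpty {X : Scheme.{u}} [X.Over (Spec (CommRingCat.of A))] [AlgebraicGeometry.IsNoetherian X]
    [IsEmpty X] {G : ℕᵒᵖ ⥤ X.Modules} (hG : Formal.IsCohFormal I G) (hGs : PropSupp A (G.obj (op 0))) :
    ∃ M : X.Modules, Coh.IsCoh M ∧ PropSupp A M ∧ Nonempty (Formal.completion I M ≅ G) := by
  have h0 : ∀ (M : X.Modules) (U : X.Opens) (s : Γ(M, U)), s = 0 := fun M U s =>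
    eq_zero_of_disjoint_support (fun x _ => isEmptyElim x) s
  obtain ⟨β, -⟩ := exists_iso_completion (I := I) (F := G) (hG.1 0) (fun _ => 0) (fun _ => zero_comp)
    fun n U hU => ⟨fun y => ⟨0, (h0 _ _ _).trans (h0 _ _ y).symm⟩, by
      ext s
      rw [h0 _ _ s]
      simp only [zero_mem]⟩
  exact ⟨_, hG.1 0, hGs, ⟨β⟩⟩

variable {X : Scheme.{u}} [X.Over (Spec (CommRingCat.of A))]

/-- Full faithfulness onto modules with proper support. -/
theorem ffp_propSupp [AlgebraicGeometry.IsNoetherian X] [LocallyOfFiniteType (X ↘ Spec (CommRingCat.of A))]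
    (K : X.IdealSheafData) : FFP I (fun M : X.Modules => PropSupp A M) K := fun M N hM hN _ _ hNs ψ =>
  HomLib.existsUnique_of_completion I hM hN
    (ClSubLib.isProperOver_subset _ hNs
      ((PullbackMod.isClosed_support_of_isFT hM.2).inter (PullbackMod.isClosed_support_of_isFT hN.2))
      Set.inter_subset_right) ψ

/-- The induction step. -/
theorem exists_of_step [IsSeparated (X ↘ Spec (CommRingCat.of A))]
    [LocallyOfFiniteType (X ↘ Spec (CommRingCat.of A))] [AlgebraicGeometry.IsNoetherian X]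
    (hsub : ∀ (T : Closeds X), (T : Set X) ≠ Set.univ → ∀ (Z : Scheme.{u}) [Z.Over (Spec (CommRingCat.of A))]
      (i : Z ⟶ X), IsClosedImmersion i → i ≫ (X ↘ Spec (CommRingCat.of A)) = Z ↘ Spec (CommRingCat.of A) →
      Set.range i ⊆ (T : Set X) → ∀ G : ℕᵒᵖ ⥤ Z.Modules, Formal.IsCohFormal I G → PropSupp A (G.obj (op 0)) →
      ∃ M : Z.Modules, Coh.IsCoh M ∧ PropSupp A M ∧ Nonempty (Formal.completion I M ≅ G))
    [Nonempty X] {G : ℕᵒᵖ ⥤ X.Modules} (hG : Formal.IsCohFormal I G) (hGs : PropSupp A (G.obj (op 0))) :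
    ∃ M : X.Modules, Coh.IsCoh M ∧ PropSupp A M ∧ Nonempty (Formal.completion I M ≅ G) := by
  haveI : QuasiCompact (X ↘ Spec (CommRingCat.of A)) :=
    (quasiCompact_iff_compactSpace (X ↘ Spec (CommRingCat.of A))).2 inferInstance
  obtain ⟨n, X', π, j, hj, hjf, hπ, -, U, hU, hiso⟩ :=
    Groth.Agent.S0025.result (X ↘ Spec (CommRingCat.of A))
  letI : X'.Over (Spec (CommRingCat.of A)) := ⟨π ≫ (X ↘ Spec (CommRingCat.of A))⟩
  have w : π ≫ (X ↘ Spec (CommRingCat.of A)) = X' ↘ Spec (CommRingCat.of A) := rfl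
  haveI : LocallyOfFiniteType (X' ↘ Spec (CommRingCat.of A)) := by rw [← w]; infer_instance
  haveI : IsLocallyNoetherian X' := LocallyOfFiniteType.isLocallyNoetherian π
  haveI : CompactSpace X' := QuasiCompact.compactSpace_of_compactSpace π
  haveI : AlgebraicGeometry.IsNoetherian X' := { }
  have hG' := isCohFormal_pullback π w hG
  haveI := (hG.1 0).1
  have hG's : PropSupp A ((G ⋙ Scheme.Modules.pullback π).obj (op 0)) :=
    ClSubLib.isProperOver_subset _ (ClSubLib.isProperOver_preimage _ _ π w hGs)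
      (PullbackMod.isClosed_support_of_isFT (hG'.1 0).2) (ClSubLib.support_pullback_subset π _)
  obtain ⟨F, hF, hFs, ⟨θ⟩⟩ := exists_of_immersion j (hjf.trans w) hG' hG's
  let T : Closeds X := ⟨(U : Set X)ᶜ, U.2.isClosed_compl⟩
  have hT : (T : Set X) ≠ Set.univ := by
    obtain ⟨x, hx⟩ := hU.nonempty
    exact fun h => ((h.ge (Set.mem_univ x)) : x ∉ (U : Set X)) hx
  let K := Scheme.IdealSheafData.vanishingIdeal T
  have hKU : K.support.compl = U := by
    refine Opens.ext ?_
    show (K.support : Set X)ᶜ = U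
    rw [Scheme.IdealSheafData.coe_support_vanishingIdeal]
    exact compl_compl _
  obtain ⟨α, hα⟩ := exists_push_pull π w I hF θ.symm hG K (by rw [hKU]; exact hiso)
  haveI := hF.1
  have hH : Coh.IsCoh ((Scheme.Modules.pushforward π).obj F) := RpushLib.isCoh_push π hF
  have himg := ClSubLib.isProperOver_image _ _ π w hFs (Or.inl inferInstance)
  have hHs : PropSupp A ((Scheme.Modules.pushforward π).obj F) :=
    ClSubLib.isProperOver_subset _ himg (PullbackMod.isClosed_support_of_isFT hH.2)
      (support_push_subset π himg.1 fun x' hx' => ⟨x', hx', rfl⟩)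
  refine exists_algebraization_class hG hH α K hα cohClass_propSupp hHs hGs fun e => ⟨ffp_propSupp _, ?_⟩
  let i := (K ^ e).subschemeι
  letI : (K ^ e).subscheme.Over (Spec (CommRingCat.of A)) := ⟨i ≫ (X ↘ Spec (CommRingCat.of A))⟩
  haveI : IsLocallyNoetherian (K ^ e).subscheme := LocallyOfFiniteType.isLocallyNoetherian i
  haveI : CompactSpace (K ^ e).subscheme := QuasiCompact.compactSpace_of_compactSpace i
  haveI : AlgebraicGeometry.IsNoetherian (K ^ e).subscheme := { }
  refine exists_of_killed_closed i rfl (hsub T hT _ i inferInstance rfl ?_) _ (Scheme.IdealSheafData.ker_subschemeι _)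
  rw [Scheme.IdealSheafData.range_subschemeι]
  rcases e with _ | e
  · rw [pow_zero, Scheme.IdealSheafData.one_eq_top, Scheme.IdealSheafData.support_top]
    exact Set.empty_subset _
  · rw [Scheme.IdealSheafData.support_pow_succ, Scheme.IdealSheafData.coe_support_vanishingIdeal]

/-- The existence theorem on a separated scheme of finite type, with proper supports. -/
theorem exists_algebraization_propSupp [IsSeparated (X ↘ Spec (CommRingCat.of A))]
    [LocallyOfFiniteType (X ↘ Spec (CommRingCat.of A))] [AlgebraicGeometry.IsNoetherian X]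
    {G : ℕᵒᵖ ⥤ X.Modules} (hG : Formal.IsCohFormal I G) (hGs : PropSupp A (G.obj (op 0))) :
    ∃ M : X.Modules, Coh.IsCoh M ∧ PropSupp A M ∧ Nonempty (Formal.completion I M ≅ G) := by
  suffices h : ∀ (T : Closeds X) (Z : Scheme.{u}) [Z.Over (Spec (CommRingCat.of A))] (i : Z ⟶ X),
      IsClosedImmersion i → i ≫ (X ↘ Spec (CommRingCat.of A)) = Z ↘ Spec (CommRingCat.of A) →
      Set.range i ⊆ (T : Set X) → ∀ G : ℕᵒᵖ ⥤ Z.Modules, Formal.IsCohFormal I G → PropSupp A (G.obj (op 0)) →
      ∃ M : Z.Modules, Coh.IsCoh M ∧ PropSupp A M ∧ Nonempty (Formal.completion I M ≅ G) by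
    exact h ⊤ X (𝟙 X) inferInstance (Category.id_comp _) (Set.subset_univ _) G hG hGs
  intro T
  induction T using WellFoundedLT.induction with
  | ind T ih =>
    intro Z _ i hi w hr G hG hGs
    haveI := hi
    haveI : IsSeparated (Z ↘ Spec (CommRingCat.of A)) := by rw [← w]; infer_instance
    haveI : LocallyOfFiniteType (Z ↘ Spec (CommRingCat.of A)) := by rw [← w]; infer_instance
    haveI : IsLocallyNoetherian Z := LocallyOfFiniteType.isLocallyNoetherian i
    haveI : CompactSpace Z := QuasiCompact.compactSpace_of_compactSpace i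
    haveI : AlgebraicGeometry.IsNoetherian Z := { }
    rcases isEmpty_or_nonempty Z with hZ | hZ
    · exact exists_of_isEmpty hG hGs
    refine exists_of_step (fun T' hT' Y _ k hk wk hrk => ?_) hG hGs
    have hT'' : IsClosed (i '' (T' : Set Z)) := i.isClosedEmbedding.isClosedMap _ T'.2
    haveI := hk
    refine ih ⟨_, hT''⟩ (lt_of_le_of_ne ?_ ?_) Y (k ≫ i) inferInstance (by rw [Category.assoc, w, wk]) ?_
    · exact (Set.image_subset_range _ _).trans hr
    · intro he
      refine hT' (Set.eq_univ_iff_forall.2 fun z => ?_)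
      obtain ⟨z', hz', e⟩ := (congrArg (fun C : Closeds X => (C : Set X)) he).ge (hr ⟨z, rfl⟩)
      exact i.isClosedEmbedding.injective e ▸ hz'
    · rintro _ ⟨y, rfl⟩
      exact ⟨k y, hrk ⟨y, rfl⟩, rfl⟩

end Groth.Agent.FormalSys
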