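import Groth.Agent.FormalSysLib.Sys
import Groth.Prelude.Def_Formal2

/-!
# Algebraization along maps with kernel and cokernel killed by an auxiliary ideal sheaf
-/

set_option autoImplicit false
set_option linter.unusedSectionVars false
set_option linter.style.haveILetI false

universe u

open CategoryTheory CategoryTheory.Limits AlgebraicGeometry TopologicalSpace Opposite
open Groth.Agent.CohBase Groth.Agent.ProjCoh Groth.Agent.QCohLib

noncomputable section

namespace Groth.Agent.FormalSys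

variable {A : Type u} [CommRing A] {X : Scheme.{u}} [X.Over (Spec (CommRingCat.of A))]
  [AlgebraicGeometry.IsNoetherian X] {I : Ideal A}

lemma π_app_mem {M : X.Modules} (hM : Coh.IsCoh M) (n : ℕ) {U : X.Opens} (hU : IsAffineOpen U) {s : Γ(M, U)} :
    (Formal.modPowπ I n M).app U s = 0 ↔ s ∈ JU I U ^ n • (⊤ : Submodule Γ(X, U) Γ(M, U)) := by
  rw [← (app_modPowπ hM.1 I n hU).2]
  exact Iff.rfl

lemma π_eq_iff {M : X.Modules} (hM : Coh.IsCoh M) (n : ℕ) {U : X.Opens} (hU : IsAffineOpen U) {s s' : Γ(M, U)} :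
    (Formal.modPowπ I n M).app U s = (Formal.modPowπ I n M).app U s' ↔
      s - s' ∈ JU I U ^ n • (⊤ : Submodule Γ(X, U) Γ(M, U)) := by
  rw [← π_app_mem hM n hU, map_sub, sub_eq_zero]

lemma epi_π {M : X.Modules} (hM : Coh.IsCoh M) (n : ℕ) : Epi (Formal.modPowπ I n M) :=
  epi_of_affine _ fun _ hU => (app_modPowπ hM.1 I n hU).1

variable (I) in
/-- The projection to a term of the completion. -/
def cπ (M : X.Modules) (n : ℕ) : M ⟶ (Formal.completion I M).obj (op n) := Formal.modPowπ I (n + 1) M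

lemma app_cπ {M : X.Modules} (hM : Coh.IsCoh M) (n : ℕ) {U : X.Opens} (hU : IsAffineOpen U) :
    Function.Surjective ((cπ I M n).app U) ∧
      LinearMap.ker (appLinear (cπ I M n) U) = JU I U ^ (n + 1) • ⊤ :=
  app_modPowπ hM.1 I (n + 1) hU

lemma cπ_app_mem {M : X.Modules} (hM : Coh.IsCoh M) (n : ℕ) {U : X.Opens} (hU : IsAffineOpen U) {s : Γ(M, U)} :
    (cπ I M n).app U s = 0 ↔ s ∈ JU I U ^ (n + 1) • (⊤ : Submodule Γ(X, U) Γ(M, U)) := by
  rw [← (app_cπ hM n hU).2]
  exact Iff.rfl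

lemma cπ_eq_iff {M : X.Modules} (hM : Coh.IsCoh M) (n : ℕ) {U : X.Opens} (hU : IsAffineOpen U) {s s' : Γ(M, U)} :
    (cπ I M n).app U s = (cπ I M n).app U s' ↔
      s - s' ∈ JU I U ^ (n + 1) • (⊤ : Submodule Γ(X, U) Γ(M, U)) := by
  rw [← cπ_app_mem hM n hU, map_sub, sub_eq_zero]

lemma cπ_tr (M : X.Modules) {n k : ℕ} (h : n ≤ k) : cπ I M k ≫ tr (Formal.completion I M) h = cπ I M n :=
  modPowπ_tr I M h

lemma epi_cπ {M : X.Modules} (hM : Coh.IsCoh M) (n : ℕ) : Epi (cπ I M n) :=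
  epi_of_affine _ fun _ hU => (app_cπ hM n hU).1

/-- The map induced on a term of the completion. -/
lemma exists_cmap' {M N : X.Modules} (hM : Coh.IsCoh M) (hN : Coh.IsCoh N) (φ : M ⟶ N) (n : ℕ) :
    ∃ ψ : (Formal.completion I M).obj (op n) ⟶ (Formal.completion I N).obj (op n),
      cπ I M n ≫ ψ = φ ≫ cπ I N n :=
  exists_cmap hM hN φ (n + 1)

variable (I) in
/-- Full faithfulness of completion on modules killed by an ideal sheaf. -/
def FFOn (K : X.IdealSheafData) : Prop :=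
  ∀ (M N : X.Modules), Coh.IsCoh M → Coh.IsCoh N → ClSub.KilledByIdeal K M → ClSub.KilledByIdeal K N →
    ∀ ψ : Formal.completion I M ⟶ Formal.completion I N,
      ∃! φ : M ⟶ N, ∀ n : ℕ, Formal.modPowπ I (n + 1) M ≫ ψ.app (op n) = φ ≫ Formal.modPowπ I (n + 1) N

variable (I) in
/-- Essential surjectivity of completion on modules killed by an ideal sheaf. -/
def ESOn (K : X.IdealSheafData) : Prop :=
  ∀ G : ℕᵒᵖ ⥤ X.Modules, Formal.IsCohFormal I G → (∀ n : ℕ, ClSub.KilledByIdeal K (G.obj (op n))) →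
    ∃ M : X.Modules, Coh.IsCoh M ∧ ClSub.KilledByIdeal K M ∧ Nonempty (Formal.completion I M ≅ G)

/-- Injectivity on all opens gives a monomorphism. -/
theorem mono_of_inj {M N : X.Modules} (f : M ⟶ N) (h : ∀ W : X.Opens, Function.Injective (f.app W)) : Mono f :=
  haveI : Mono f.mapPresheaf := by
    rw [NatTrans.mono_iff_mono_app]
    exact fun W => (AddCommGrpCat.mono_iff_injective _).2 (h W.unop)
  (Scheme.Modules.toPresheaf X).mono_of_mono_map (f := f) this

/-- A class of coherent modules stable under quotients, submodules and sums. -/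
structure CohClass (P : X.Modules → Prop) : Prop where
  quot : ∀ {M N : X.Modules} (e : M ⟶ N) [Epi e], Coh.IsCoh M → Coh.IsCoh N → P M → P N
  sub : ∀ {M N : X.Modules} (e : M ⟶ N) [Mono e], Coh.IsCoh M → Coh.IsCoh N → P N → P M
  sum : ∀ {M N : X.Modules}, Coh.IsCoh M → Coh.IsCoh N → P M → P N → P (M ⊞ N)

variable (I) in
/-- Full faithfulness into a class of modules killed by an ideal sheaf. -/
def FFP (P : X.Modules → Prop) (K : X.IdealSheafData) : Prop :=
  ∀ (M N : X.Modules), Coh.IsCoh M → Coh.IsCoh N → ClSub.KilledByIdeal K M → ClSub.KilledByIdeal K N → P N →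
    ∀ ψ : Formal.completion I M ⟶ Formal.completion I N,
      ∃! φ : M ⟶ N, ∀ n : ℕ, Formal.modPowπ I (n + 1) M ≫ ψ.app (op n) = φ ≫ Formal.modPowπ I (n + 1) N

variable (I) in
/-- Essential surjectivity onto a class of modules killed by an ideal sheaf. -/
def ESP (P : X.Modules → Prop) (K : X.IdealSheafData) : Prop :=
  ∀ G : ℕᵒᵖ ⥤ X.Modules, Formal.IsCohFormal I G → (∀ n : ℕ, ClSub.KilledByIdeal K (G.obj (op n))) →
    P (G.obj (op 0)) →
    ∃ M : X.Modules, Coh.IsCoh M ∧ ClSub.KilledByIdeal K M ∧ P M ∧ Nonempty (Formal.completion I M ≅ G)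

variable {P : X.Modules → Prop}

set_option maxHeartbeats 800000 in
/-- The image of the map is the completion of a submodule. -/
theorem exists_image_sub {F : ℕᵒᵖ ⥤ X.Modules} (hF : Formal.IsCohFormal I F) {H : X.Modules} (hH : Coh.IsCoh H)
    (α : F ⟶ Formal.completion I H) (K : X.IdealSheafData)
    (hc : ∀ n : ℕ, ClSub.KilledByIdeal K (cokernel (α.app (op n)))) (hC₀ : CohClass P) (hPH : P H)
    (hff : FFP I P K) (hes : ESP I P K) :
    ∃ (H' : X.Modules) (k : H' ⟶ H), Coh.IsCoh H' ∧ Mono k ∧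
      (∀ (n : ℕ) (U : X.Opens), IsAffineOpen U → ∀ x : Γ(F.obj (op n), U),
        ∃ h, (α.app (op n)).app U x = (cπ I H n).app U (k.app U h)) ∧
      ∀ (n : ℕ) (U : X.Opens), IsAffineOpen U → ∀ h : Γ(H', U),
        ∃ x, (α.app (op n)).app U x = (cπ I H n).app U (k.app U h) := by
  let GS := Formal.completion I H
  have hGS : Formal.IsCohFormal I GS := isCohFormal_completion hH I
  let α' : ∀ n, F.obj (op n) ⟶ GS.obj (op n) := fun n => α.app (op n)
  have hQc : ∀ n, Coh.IsCoh (cokernel (α' n)) := fun n => (isCoh_kernel_cokernel (α' n) (hF.1 n) (hGS.1 n)).2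
  let Q : ℕᵒᵖ ⥤ X.Modules := Functor.ofOpSequence (X := fun n => cokernel (α' n)) fun n =>
    cokernel.map (α' (n + 1)) (α' n) (tr F (Nat.le_succ n)) (tr GS (Nat.le_succ n)) (tr_app α (Nat.le_succ n)).symm
  let p : GS ⟶ Q := NatTrans.ofOpSequence (fun n => cokernel.π (α' n)) fun n => by
    rw [show Q.map (homOfLE (n.le_add_right 1)).op = _ from Functor.ofOpSequence_map_homOfLE_succ _ n]
    exact (cokernel.π_desc _ _ _).symm
  have hpsurj : ∀ (n : ℕ) (U : X.Opens), IsAffineOpen U → Function.Surjective ((p.app (op n)).app U) := fun n U hU =>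
    (FormalLib.cokernel_app (α' n) (hF.1 n).1 (hGS.1 n).1 hU).1
  have hpker : ∀ (n : ℕ) (U : X.Opens), IsAffineOpen U → ∀ s, (p.app (op n)).app U s = 0 →
      ∃ x, (α' n).app U x = s := fun n U hU =>
    (FormalLib.cokernel_app (α' n) (hF.1 n).1 (hGS.1 n).1 hU).2
  have hp0 : ∀ (n : ℕ) (U : X.Opens) (x : Γ(F.obj (op n), U)), (p.app (op n)).app U ((α' n).app U x) = 0 :=
    fun n U x => congr($(cokernel.condition (α' n)).app U x)
  have hQ : Formal.IsCohFormal I Q := isCohFormal_quot hGS hQc p hpsurj fun n U hU s hs => by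
    obtain ⟨x, rfl⟩ := hpker n U hU s hs
    obtain ⟨x', rfl⟩ := (app_tr hF (Nat.le_succ n) hU).1 x
    exact ⟨(α' (n + 1)).app U x', hp0 _ U _, congr($((tr_app α (Nat.le_succ n)).symm).app U x')⟩
  obtain ⟨M, hM, hMK, hMP, ⟨θ⟩⟩ := hes Q hQ hc (by
    haveI : Epi (p.app (op 0)) := epi_of_affine _ (hpsurj 0)
    haveI := epi_cπ (I := I) hH 0
    exact hC₀.quot (p.app (op 0)) (hGS.1 0) (hQc 0) (hC₀.quot (cπ I H 0) hH (hGS.1 0) hPH))
  let πH : ∀ n, H ⟶ GS.obj (op n) := fun n => cπ I H n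
  let πM : ∀ n, M ⟶ (Formal.completion I M).obj (op n) := fun n => cπ I M n
  let g : ∀ n, H ⟶ (Formal.completion I M).obj (op n) := fun n => πH n ≫ p.app (op n) ≫ θ.inv.app (op n)
  have hMn : ∀ n, ClSub.KilledByIdeal K ((Formal.completion I M).obj (op n)) := fun n =>
    killed_of_surjective (πM n) (fun U hU => (app_cπ hM n hU).1) hMK
  haveI := epi_iqπ K hH.1
  choose l hl using fun n => exists_iq_desc K hH.1 (g n) (hMn n)
  have hHe : Coh.IsCoh ((iqF K).obj H) := isCoh_iq K hH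
  have hCM : Formal.IsCohFormal I (Formal.completion I M) := isCohFormal_completion hM I
  choose ψ hψ using fun n => exists_desc_affine (cπ I ((iqF K).obj H) n) (l n)
    (fun U hU => (app_cπ hHe n hU).1) (fun U hU s hs => by
      have h1 := (cπ_app_mem hHe n hU).1 hs
      have h2 := app_mem_smul (l n) h1
      rwa [JU_pow_smul_eq_bot (hCM.2.1 n) hU, Submodule.mem_bot] at h2)
  obtain ⟨Ψ, hΨ⟩ := exists_natTrans (F := Formal.completion I ((iqF K).obj H)) (G := Formal.completion I M) ψ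
    fun {n m} h => by
    haveI := epi_cπ (I := I) hHe m
    have e1 : cπ I ((iqF K).obj H) m ≫ tr (Formal.completion I ((iqF K).obj H)) h ≫ ψ n = l n := by
      exact (Category.assoc _ _ _).symm.trans ((congrArg (· ≫ ψ n) (cπ_tr _ h)).trans (hψ n))
    have e2 : g m ≫ tr (Formal.completion I M) h = g n := by
      simp only [g, Category.assoc]
      rw [← tr_app θ.inv h, ← Category.assoc (p.app _), ← tr_app p h, ← Category.assoc, ← Category.assoc,
        show πH m ≫ tr GS h = πH n from cπ_tr H h, Category.assoc]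
    refine (cancel_epi (cπ I ((iqF K).obj H) m)).1 (e1.trans ?_)
    refine Eq.trans ?_ (Category.assoc _ _ _)
    refine Eq.trans ?_ (congrArg (· ≫ tr (Formal.completion I M) h) (hψ m)).symm
    refine (cancel_epi (iqπ K H)).1 ((hl n).trans ?_)
    exact e2.symm.trans ((congrArg (· ≫ tr (Formal.completion I M) h) (hl m).symm).trans (Category.assoc _ _ _))
  obtain ⟨φe, hφe, -⟩ := hff _ M hHe hM (killed_iq K hH.1) hMK hMP Ψ
  let φ : H ⟶ M := iqπ K H ≫ φe
  have hφ : ∀ n, φ ≫ πM n = g n := fun n => by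
    refine (Category.assoc _ _ _).trans ((congrArg (iqπ K H ≫ ·) ?_).trans (hl n))
    exact (hφe n).symm.trans ((congrArg (cπ I _ n ≫ ·) (hΨ n)).trans (hψ n))
  have hinj : ∀ (n : ℕ) (U : X.Opens) (z : Γ(Q.obj (op n), U)), (θ.inv.app (op n)).app U z = 0 → z = 0 :=
    fun n U z hz => by
    have e : (θ.inv.app (op n) ≫ θ.hom.app (op n)).app U z = z := by
      rw [θ.inv_hom_id_app]
      rfl
    rw [← e, app_comp_apply, hz, map_zero]
  have hev : ∀ (n : ℕ) (U : X.Opens) (h : Γ(H, U)), (πM n).app U (φ.app U h) =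
      (θ.inv.app (op n)).app U ((p.app (op n)).app U ((πH n).app U h)) := fun n U h => congr($(hφ n).app U h)
  -- `φ` is surjective
  have hφs : ∀ U : X.Opens, IsAffineOpen U → Function.Surjective (φ.app U) := by
    obtain ⟨-, hC⟩ := isCoh_kernel_cokernel φ hH hM
    have hsC : ∀ U : X.Opens, IsAffineOpen U → Function.Surjective ((cokernel.π φ).app U) := fun U hU =>
      (FormalLib.cokernel_app φ hH.1 hM.1 hU).1
    have hCK := killed_of_surjective (cokernel.π φ) hsC hMK
    have h0 : ∀ n, cπ I (cokernel φ) n = 0 := fun n => hom_ext_affine fun U hU c => by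
      obtain ⟨m, rfl⟩ := hsC U hU c
      obtain ⟨q, hq⟩ := hpsurj n U hU ((θ.hom.app (op n)).app U ((πM n).app U m))
      obtain ⟨h, rfl⟩ := (app_cπ hH n hU).1 q
      have h1 : (πM n).app U (φ.app U h) = (πM n).app U m := by
        rw [hev]
        exact (congrArg _ hq).trans congr($(θ.hom_inv_id_app (op n)).app U ((πM n).app U m))
      have h2 := app_mem_smul (cokernel.π φ) ((cπ_eq_iff hM n hU).1 h1.symm)
      rw [map_sub, show (cokernel.π φ).app U (φ.app U h) = 0 from congr($(cokernel.condition φ).app U h),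
        sub_zero] at h2
      exact (cπ_app_mem hC n hU).2 h2
    obtain ⟨χ, -, hχ⟩ := hff _ _ hC hC hCK hCK (hC₀.quot (cokernel.π φ) hM hC hMP) (𝟙 _)
    have e : (𝟙 (cokernel φ)) = 0 := (hχ _ fun n => by
      rw [Category.id_comp]
      exact Category.comp_id _).trans (hχ _ fun n => by
      exact (congrArg (· ≫ _) (h0 n : Formal.modPowπ I (n + 1) (cokernel φ) = 0)).trans
        (zero_comp.trans zero_comp.symm)).symm
    intro U hU m
    refine (FormalLib.cokernel_app φ hH.1 hM.1 hU).2 m ?_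
    exact congr($(e).app U ((cokernel.π φ).app U m))
  refine ⟨kernel φ, kernel.ι φ, (isCoh_kernel_cokernel φ hH hM).1, inferInstanceAs (Mono (kernel.ι φ)),
    fun n U hU x => ?_, fun n U hU h => ?_⟩
  · obtain ⟨h0, h0'⟩ := (app_cπ hH n hU).1 ((α' n).app U x)
    have h1 : (πM n).app U (φ.app U h0) = 0 := by
      rw [hev, show (πH n).app U h0 = (α' n).app U x from h0', hp0, map_zero]
    have h2 := (cπ_app_mem hM n hU).1 h1
    rw [← map_smul_top φ (hφs U hU)] at h2
    obtain ⟨j, hj, hj'⟩ := h2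
    obtain ⟨h, hh⟩ := kernel_app_exact φ U (h0 - j) (by
      rw [map_sub, sub_eq_zero]
      exact hj'.symm)
    refine ⟨h, h0'.symm.trans ?_⟩
    rw [hh]
    exact (cπ_eq_iff hH n hU).2 (by rwa [sub_sub_cancel])
  · refine hpker n U hU _ (hinj n U _ ?_)
    rw [← hev, show φ.app U ((kernel.ι φ).app U h) = 0 from congr($(kernel.condition φ).app U h), map_zero]

set_option maxHeartbeats 800000 in
/-- Corestriction to the completion of a submodule containing the image. -/
theorem exists_corestrict {F : ℕᵒᵖ ⥤ X.Modules} (hF : Formal.IsCohFormal I F) {H H' : X.Modules}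
    (hH : Coh.IsCoh H) (hH' : Coh.IsCoh H') (α : F ⟶ Formal.completion I H) (k : H' ⟶ H) [Mono k]
    (K : X.IdealSheafData) (hk : ∀ n : ℕ, ClSub.KilledByIdeal K (kernel (α.app (op n))))
    (h1 : ∀ (n : ℕ) (U : X.Opens), IsAffineOpen U → ∀ x : Γ(F.obj (op n), U),
      ∃ h, (α.app (op n)).app U x = (cπ I H n).app U (k.app U h))
    (h2 : ∀ (n : ℕ) (U : X.Opens), IsAffineOpen U → ∀ h : Γ(H', U),
      ∃ x, (α.app (op n)).app U x = (cπ I H n).app U (k.app U h)) :
    ∃ β : F ⟶ Formal.completion I H',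
      (∀ (n : ℕ) (U : X.Opens), IsAffineOpen U → Function.Surjective ((β.app (op n)).app U)) ∧
      ∀ (n : ℕ) (U : X.affineOpens) (a : Γ(X, U.1)), a ∈ K.ideal U → ∀ x : Γ(F.obj (op n), U.1),
        (β.app (op n)).app U.1 x = 0 → a • x = 0 := by
  obtain ⟨ι, _, V, hV, -, hcov⟩ := exists_finite_affine_cover (X := X) (V := ⊤) isCompact_univ
  obtain ⟨c, hc⟩ := exists_comap_cover hH k I V hV
  let GS := Formal.completion I H
  let GS' := Formal.completion I H'
  -- small preimages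
  have hAR : ∀ (n m : ℕ), n + c ≤ m → ∀ {U : X.Opens} (h : Γ(H', U)),
      (cπ I H m).app U (k.app U h) = 0 → (cπ I H' n).app U h = 0 :=
    fun n m hm U h hh => vanish_of_cover (k ≫ cπ I H m) _ hH'.1 (isCoh_modPow hH I _).1 V hV hcov
      (fun i s hs => by
        obtain ⟨t, ht, hst⟩ := hc i (m + 1) s ((cπ_app_mem hH m (hV i)).1 hs)
        have ht0 : t = 0 := app_injective_of_mono k _ (ht.trans (map_zero _).symm)
        rw [ht0, sub_zero] at hst
        exact (cπ_app_mem hH' n (hV i)).2 (Submodule.smul_mono (Ideal.pow_le_pow_right (by omega)) le_rfl hst))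
      h hh
  have hcomp : ∀ n, ∃ b : F.obj (op n) ⟶ GS'.obj (op n), ∀ (m : ℕ) (hm : n + c ≤ m) (U : X.Opens),
      IsAffineOpen U → ∀ (x : Γ(F.obj (op m), U)) (h : Γ(H', U)),
      (α.app (op m)).app U x = (cπ I H m).app U (k.app U h) →
      b.app U ((tr F ((Nat.le_add_right n c).trans hm)).app U x) = (cπ I H' n).app U h := by
    intro n
    obtain ⟨P, hP⟩ := exists_fork (α.app (op (n + c))) (k ≫ cπ I H (n + c)) (hF.1 _) hH'
      (isCoh_modPow hH I _)
    obtain ⟨b₀, hb₀⟩ := exists_desc_affine P.fst (P.snd ≫ cπ I H' n)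
      (fun U hU x => by
        obtain ⟨h, hh⟩ := h1 (n + c) U hU x
        obtain ⟨f, hf, -⟩ := P.mem x h hh
        exact ⟨f, hf⟩)
      (fun U hU f hf => by
        refine hAR n (n + c) le_rfl (P.snd.app U f) ?_
        have := congr($(P.cond).app U f)
        rw [app_comp_apply, hf, map_zero] at this
        exact this.symm)
    obtain ⟨b, hb⟩ := exists_desc_tr hF (Nat.le_add_right n c) ((isCohFormal_completion hH' I).2.1 n) b₀
    refine ⟨b, fun m hm U hU x h hxh => ?_⟩
    have hx' : (α.app (op (n + c))).app U ((tr F hm).app U x) =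
        (cπ I H (n + c)).app U (k.app U h) := by
      refine (congr($(tr_app α hm).app U x)).trans ?_
      show (tr GS hm).app U ((α.app (op m)).app U x) = _
      rw [hxh]
      exact congr($(cπ_tr H hm).app U (k.app U h))
    obtain ⟨f, hf1, hf2⟩ := P.mem ((tr F hm).app U x) h hx'
    rw [← tr_comp F (Nat.le_add_right n c) hm, app_comp_apply, ← app_comp_apply (tr F (Nat.le_add_right n c)) b,
      hb, ← hf1, ← app_comp_apply, hb₀, app_comp_apply, hf2]
  choose b hb using hcomp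
  obtain ⟨β, hβ⟩ := exists_natTrans (F := F) (G := GS') b fun {n n'} h => by
    haveI := epi_tr hF (Nat.le_add_right n' c)
    refine (cancel_epi (tr F (Nat.le_add_right n' c))).1 (hom_ext_affine fun U hU x => ?_)
    obtain ⟨hh, hxh⟩ := h1 (n' + c) U hU x
    have e1 := hb n (n' + c) (by omega) U hU x hh hxh
    have e2 := hb n' (n' + c) le_rfl U hU x hh hxh
    show (b n).app U ((tr F h).app U ((tr F _).app U x)) = (tr GS' h).app U ((b n').app U ((tr F _).app U x))
    rw [e2, show (tr F h).app U ((tr F (Nat.le_add_right n' c)).app U x) =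
      (tr F (h.trans (Nat.le_add_right n' c))).app U x from congr($(tr_comp F h _).app U x), e1]
    exact congr($(cπ_tr H' h).app U hh).symm
  refine ⟨β, fun n U hU y => ?_, fun n U a ha x hx => ?_⟩
  · obtain ⟨h, rfl⟩ := (app_cπ hH' n hU).1 y
    obtain ⟨x, hx⟩ := h2 (n + c) U hU h
    exact ⟨_, by rw [hβ]; exact hb n (n + c) le_rfl U hU x h hx⟩
  · have hU := U.2
    set m := n + c
    have hnm : n ≤ m := Nat.le_add_right n c
    obtain ⟨y, rfl⟩ := (app_tr hF hnm hU).1 x
    obtain ⟨h, hyh⟩ := h1 m U.1 hU y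
    rw [hβ, hb n m le_rfl U.1 hU y h hyh] at hx
    let Ψ := (appLinear (cπ I H m) U.1).comp (appLinear k U.1)
    have h3 := Submodule.mem_map_of_mem (f := Ψ) ((cπ_app_mem hH' n hU).1 hx)
    rw [Submodule.map_smul''] at h3
    have h4 : JU I U.1 ^ (n + 1) • (⊤ : Submodule Γ(X, U.1) Γ(H', U.1)).map Ψ ≤
        (JU I U.1 ^ (n + 1) • (⊤ : Submodule Γ(X, U.1) Γ(F.obj (op m), U.1))).map (appLinear (α.app (op m)) U.1) := by
      rw [Submodule.map_smul'']
      refine Submodule.smul_mono le_rfl ?_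
      rintro _ ⟨h', -, rfl⟩
      obtain ⟨x', hx'⟩ := h2 m U.1 hU h'
      exact ⟨x', trivial, hx'⟩
    obtain ⟨w, hw, hw'⟩ := h4 h3
    have hd : (α.app (op m)).app U.1 (y - w) = 0 := by
      rw [map_sub, sub_eq_zero, hyh]
      exact hw'.symm
    have hw0 : (tr F hnm).app U.1 w = 0 := by
      rw [SetLike.mem_coe, ← (app_tr hF hnm hU).2] at hw
      exact hw
    have h5 : (tr F hnm).app U.1 (a • (y - w)) = a • (tr F hnm).app U.1 (y - w) := Scheme.Modules.Hom.app_smul _ _ _
    rw [smul_mem_kernel_app (hk m) U ha _ hd, map_zero, map_sub, hw0, sub_zero] at h5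
    exact h5.symm

set_option maxHeartbeats 800000 in
/-- The separation bounds on a cover. -/
theorem exists_ideal_bound_cover {F G : ℕᵒᵖ ⥤ X.Modules} (hF : Formal.IsCohFormal I F)
    (hG : Formal.IsCohFormal I G) (β : F ⟶ G) (K : X.IdealSheafData)
    (hk : ∀ (n : ℕ) (U : X.affineOpens) (a : Γ(X, U.1)), a ∈ K.ideal U → ∀ x : Γ(F.obj (op n), U.1),
        (β.app (op n)).app U.1 x = 0 → a • x = 0)
    {ι : Type u} [Finite ι] (V : ι → X.Opens) (hV : ∀ i, IsAffineOpen (V i)) :
    ∃ p d : ℕ, ∀ (i : ι) (n k : ℕ) (h : n + d ≤ k) (x : Γ(F.obj (op k), V i)),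
      x ∈ (K ^ p).ideal ⟨V i, hV i⟩ • (⊤ : Submodule Γ(X, V i) Γ(F.obj (op k), V i)) →
      (β.app (op k)).app (V i) x = 0 → (tr F ((Nat.le_add_right n d).trans h)).app (V i) x = 0 := by
  classical
  haveI := Fintype.ofFinite ι
  have h1 : ∀ i, ∃ m : ℕ, ∀ p : ℕ, m ≤ p → ∃ d : ℕ, ∀ (n k : ℕ) (h : n + d ≤ k) (x : Γ(F.obj (op k), V i)),
      x ∈ K.ideal ⟨V i, hV i⟩ ^ p • (⊤ : Submodule Γ(X, V i) Γ(F.obj (op k), V i)) →
      (β.app (op k)).app (V i) x = 0 → (tr F ((Nat.le_add_right n d).trans h)).app (V i) x = 0 := fun i => by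
    haveI := isNoetherianRing_section (hV i)
    haveI : ∀ n, Module.Finite Γ(X, V i) Γ(F.obj (op n), V i) := fun n => finite_sections_of_isCoh (hF.1 n) (hV i)
    haveI : ∀ n, Module.Finite Γ(X, V i) Γ(G.obj (op n), V i) := fun n => finite_sections_of_isCoh (hG.1 n) (hV i)
    exact exists_ideal_bound (JU I (V i)) (adic_sections hF (hV i)) (adic_sections hG (hV i))
      (fun n => appLinear (β.app (op n)) (V i)) (fun h x => congr($(tr_app β h).app (V i) x))
      (K.ideal ⟨V i, hV i⟩) fun n a ha x hx => hk n ⟨V i, hV i⟩ a ha x hx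
  choose m hm using h1
  choose d hd using fun i => hm i (Finset.univ.sup m) (Finset.le_sup (Finset.mem_univ i))
  refine ⟨Finset.univ.sup m, Finset.univ.sup d, fun i n k h x hx hx0 => ?_⟩
  have hdi := Finset.le_sup (f := d) (Finset.mem_univ i)
  rw [Scheme.IdealSheafData.ideal_pow, Pi.pow_apply] at hx
  exact hd i n k (by omega) x hx hx0

set_option maxHeartbeats 1600000 in
/-- Algebraization of extensions. -/
theorem exists_algebraization_of_surjective {F : ℕᵒᵖ ⥤ X.Modules} (hF : Formal.IsCohFormal I F) {H : X.Modules}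
    (hH : Coh.IsCoh H) (β : F ⟶ Formal.completion I H)
    (hβs : ∀ (n : ℕ) (U : X.Opens), IsAffineOpen U → Function.Surjective ((β.app (op n)).app U))
    (K : X.IdealSheafData)
    (hk : ∀ (n : ℕ) (U : X.affineOpens) (a : Γ(X, U.1)), a ∈ K.ideal U → ∀ x : Γ(F.obj (op n), U.1),
        (β.app (op n)).app U.1 x = 0 → a • x = 0)
    (hC₀ : CohClass P) (hPH : P H) (hPF : P (F.obj (op 0)))
    (h : ∀ p : ℕ, FFP I P (K ^ p) ∧ ESP I P (K ^ p)) :
    ∃ M : X.Modules, Coh.IsCoh M ∧ P M ∧ Nonempty (Formal.completion I M ≅ F) := by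
  obtain ⟨ι, _, V, hV, -, hcov⟩ := exists_finite_affine_cover (X := X) (V := ⊤) isCompact_univ
  let CH := Formal.completion I H
  have hCH : Formal.IsCohFormal I CH := isCohFormal_completion hH I
  obtain ⟨p, d, hd⟩ := exists_ideal_bound_cover hF hCH β K hk V hV
  obtain ⟨hff, hes⟩ := h p
  set L := K ^ p
  -- the quotient system
  let F₂ : ℕᵒᵖ ⥤ X.Modules := F ⋙ iqF L
  let q : F ⟶ F₂ :=
    { app := fun n => iqπ L (F.obj n)
      naturality := fun _ _ f => iqπ_natural L (F.map f) }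
  have hF₂ : Formal.IsCohFormal I F₂ := isCohFormal_quot hF (fun n => isCoh_iq L (hF.1 n)) q
    (fun n U hU => (app_iqπ L (hF.1 n).1 hU).1) fun n U hU s hs => by
      have h1 : s ∈ LinearMap.ker (appLinear (iqπ L (F.obj (op n))) U) := hs
      rw [(app_iqπ L (hF.1 n).1 hU).2, ← map_smul_top (tr F (Nat.le_succ n)) (app_tr hF _ hU).1] at h1
      obtain ⟨t, ht, hts⟩ := h1
      rw [SetLike.mem_coe, ← (app_iqπ L (hF.1 (n + 1)).1 hU).2] at ht
      exact ⟨t, ht, hts⟩
  obtain ⟨M₂, hP, hPL, hPP, ⟨θ⟩⟩ := hes F₂ hF₂ (fun n => killed_iq L (hF.1 n).1) (by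
    haveI := epi_iqπ L (hF.1 0).1
    exact hC₀.quot (iqπ L (F.obj (op 0))) (hF.1 0) (hF₂.1 0) hPF)
  let H₂ := (iqF L).obj H
  have hH₂ : Coh.IsCoh H₂ := isCoh_iq L hH
  let r : H ⟶ H₂ := iqπ L H
  have hr : ∀ U : X.Opens, IsAffineOpen U → Function.Surjective (r.app U) := fun U hU => (app_iqπ L hH.1 hU).1
  let CH₂ := Formal.completion I H₂
  choose cm hcm using fun n => exists_cmap' (I := I) hH hH₂ r n
  have hCH₂K : ∀ n, ClSub.KilledByIdeal L (CH₂.obj (op n)) := fun n =>
    killed_of_surjective (cπ I H₂ n) (fun U hU => (app_cπ hH₂ n hU).1)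
      (killed_iq L hH.1)
  have hl' : ∀ n, ∃ l : F₂.obj (op n) ⟶ CH₂.obj (op n), q.app (op n) ≫ l = β.app (op n) ≫ cm n := fun n => by
    haveI := epi_iqπ L (hF.1 n).1
    exact exists_iq_desc L (hF.1 n).1 _ (hCH₂K n)
  choose l hl using hl'
  have hcmn : ∀ {n m : ℕ} (hnm : n ≤ m), tr CH hnm ≫ cm n = cm m ≫ tr CH₂ hnm := fun {n m} hnm => by
    haveI := epi_cπ (I := I) hH m
    refine (cancel_epi (cπ I H m)).1 ?_
    rw [← Category.assoc, ← Category.assoc, cπ_tr, hcm n, hcm m, Category.assoc, cπ_tr]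
  obtain ⟨ψ, hψ⟩ := exists_natTrans (F := Formal.completion I M₂) (G := CH₂)
    (fun n => θ.hom.app (op n) ≫ l n) fun {n m} hnm => by
    rw [← Category.assoc, tr_app θ.hom hnm, Category.assoc, Category.assoc]
    congr 1
    haveI : Epi (q.app (op m)) := epi_iqπ L (hF.1 m).1
    refine (cancel_epi (q.app (op m))).1 ?_
    rw [← Category.assoc, ← Category.assoc, ← tr_app q hnm, Category.assoc, hl, hl, ← Category.assoc,
      tr_app β hnm, Category.assoc, hcmn, ← Category.assoc]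
  have hPH₂ : P H₂ := by
    haveI := epi_iqπ L hH.1
    exact hC₀.quot r hH hH₂ hPH
  obtain ⟨φ, hφ, -⟩ := hff M₂ H₂ hP hH₂ hPL (killed_iq L hH.1) hPH₂ ψ
  obtain ⟨R, hR⟩ := exists_fork φ r hP hH hH₂
  obtain ⟨c₁, hc₁⟩ : ∃ c : ℕ, ∀ (i : ι) (n : ℕ) (s : Γ(R.obj, V i)),
      R.fst.app (V i) s ∈ JU I (V i) ^ n • (⊤ : Submodule Γ(X, V i) Γ(M₂, V i)) →
      R.snd.app (V i) s ∈ JU I (V i) ^ n • (⊤ : Submodule Γ(X, V i) Γ(H, V i)) →
      s ∈ JU I (V i) ^ (n - c) • (⊤ : Submodule Γ(X, V i) Γ(R.obj, V i)) := by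
    let ρ : R.obj ⟶ M₂ ⊞ H := biprod.lift R.fst R.snd
    obtain ⟨c, hc⟩ := exists_comap_cover (isCoh_biprod hP hH) ρ I V hV
    refine ⟨c, fun i n s hs1 hs2 => ?_⟩
    have hρ : ρ = R.fst ≫ biprod.inl + R.snd ≫ biprod.inr := biprod.lift_eq
    obtain ⟨t, ht, hst⟩ := hc i n s (by
      rw [hρ]
      exact add_mem (app_mem_smul (biprod.inl : M₂ ⟶ M₂ ⊞ H) hs1) (app_mem_smul (biprod.inr : H ⟶ M₂ ⊞ H) hs2))
    have ht0 : t = 0 := R.ext (f' := 0) (by
      rw [map_zero, ← biprod.lift_fst R.fst R.snd, app_comp_apply, show (biprod.lift R.fst R.snd).app (V i) t = 0 from ht,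
        map_zero]) (by
      rw [map_zero, ← biprod.lift_snd R.fst R.snd, app_comp_apply, show (biprod.lift R.fst R.snd).app (V i) t = 0 from ht,
        map_zero])
    rwa [ht0, sub_zero] at hst
  -- related sections
  let Rel : ∀ (k : ℕ) (U : X.Opens), Γ(R.obj, U) → Γ(F.obj (op k), U) → Prop := fun k U s x =>
    (q.app (op k)).app U x = (θ.hom.app (op k)).app U ((cπ I M₂ k).app U (R.fst.app U s)) ∧
      (β.app (op k)).app U x = (cπ I H k).app U (R.snd.app U s)
  have hl_app : ∀ (k : ℕ) (U : X.Opens) (x : Γ(F.obj (op k), U)),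
      (l k).app U ((q.app (op k)).app U x) = (cm k).app U ((β.app (op k)).app U x) := fun k U x =>
    congr($(hl k).app U x)
  have hcm_app : ∀ (k : ℕ) (U : X.Opens) (s : Γ(H, U)), (cm k).app U ((cπ I H k).app U s) =
      (cπ I H₂ k).app U (r.app U s) := fun k U s => congr($(hcm k).app U s)
  have hφ_app : ∀ (k : ℕ) (U : X.Opens) (s : Γ(M₂, U)),
      (l k).app U ((θ.hom.app (op k)).app U ((cπ I M₂ k).app U s)) =
      (cπ I H₂ k).app U (φ.app U s) := fun k U s => by
    have := congr($(hφ k).app U s)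
    rw [hψ] at this
    exact this
  have hexists : ∀ (k : ℕ) (U : X.Opens), IsAffineOpen U → ∀ s, ∃ x, Rel k U s x := by
    intro k U hU s
    obtain ⟨x₀, hx₀⟩ := hβs k U hU ((cπ I H k).app U (R.snd.app U s))
    obtain ⟨w, hw⟩ := (app_iqπ L (hF.1 k).1 hU).1
      ((θ.hom.app (op k)).app U ((cπ I M₂ k).app U (R.fst.app U s)))
    have e0 : (cm k).app U ((β.app (op k)).app U (w - x₀)) = 0 := by
      rw [← hl_app, map_sub, map_sub, hl_app k U x₀, hx₀, hcm_app,
        show (q.app (op k)).app U w = _ from hw, hφ_app, sub_eq_zero]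
      exact congrArg ((cπ I H₂ k).app U) congr($(R.cond).app U s)
    obtain ⟨j, hj⟩ := (app_cπ hH k hU).1 ((β.app (op k)).app U (w - x₀))
    rw [← hj, hcm_app, cπ_app_mem hH₂ k hU, ← map_smul_top r (hr U hU)] at e0
    obtain ⟨j', hj', hjj'⟩ := e0
    have h1 : j - j' ∈ LinearMap.ker (appLinear r U) := by
      rw [LinearMap.mem_ker, map_sub, sub_eq_zero]
      exact hjj'.symm
    rw [(app_iqπ L hH.1 hU).2] at h1
    have h2 := app_mem_smul (cπ I H k) h1
    rw [map_sub, (cπ_app_mem hH k hU).2 hj', sub_zero, hj,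
      ← map_smul_top (β.app (op k)) (hβs k U hU)] at h2
    obtain ⟨v, hv, hv'⟩ := h2
    refine ⟨x₀ + (w - x₀ - v), ?_, ?_⟩
    · have hv0 : (q.app (op k)).app U v = 0 := by
        rw [SetLike.mem_coe, ← (app_iqπ L (hF.1 k).1 hU).2] at hv
        exact hv
      rw [map_add, map_sub, map_sub, hv0, sub_zero, add_sub_cancel]
      exact hw
    · rw [map_add, map_sub ((β.app (op k)).app U).hom (w - x₀) v, show (β.app (op k)).app U v = _ from hv', sub_self,
        add_zero]
      exact hx₀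
  have hrev : ∀ (k : ℕ) (U : X.Opens), IsAffineOpen U → ∀ x, ∃ s, Rel k U s x := by
    intro k U hU x
    obtain ⟨h0, hh0⟩ := (app_cπ hH k hU).1 ((β.app (op k)).app U x)
    obtain ⟨z, hz⟩ := (app_cπ hP k hU).1 ((θ.inv.app (op k)).app U ((q.app (op k)).app U x))
    have hz' : (θ.hom.app (op k)).app U ((cπ I M₂ k).app U z) = (q.app (op k)).app U x := by
      refine (congrArg _ hz).trans ?_
      exact congr($(θ.inv_hom_id_app (op k)).app U ((q.app (op k)).app U x))
    have e1 : (cπ I H₂ k).app U (φ.app U z) = (cπ I H₂ k).app U (r.app U h0) := by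
      rw [← hφ_app, hz', hl_app, ← hh0, hcm_app]
    rw [cπ_eq_iff hH₂ k hU, ← map_smul_top r (hr U hU)] at e1
    obtain ⟨j, hj, hj'⟩ := e1
    obtain ⟨s, hs1, hs2⟩ := R.mem z (h0 + j) (by
      rw [map_add, show r.app U j = _ from hj', add_sub_cancel])
    refine ⟨s, ?_, ?_⟩
    · rw [hs1, hz']
    · rw [hs2, map_add, (cπ_app_mem hH k hU).2 hj, add_zero]
      exact hh0.symm
  have hsep : ∀ (n k : ℕ) (hk' : n + d ≤ k) {U : X.Opens} (x : Γ(F.obj (op k), U)),
      (q.app (op k)).app U x = 0 → (β.app (op k)).app U x = 0 →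
      (tr F ((Nat.le_add_right n d).trans hk')).app U x = 0 := fun n k hk' U x h1 h2 =>
    vanish_of_cover₂ (q.app (op k)) (β.app (op k)) _ (hF.1 k).1 (hF₂.1 k).1 (hCH.1 k).1 V hV hcov
      (fun i s h1 h2 => hd i n k hk' s (by
        rw [← (app_iqπ L (hF.1 k).1 (hV i)).2]
        exact h1) h2) x h1 h2
  -- the projections
  have hτ' : ∀ n, ∃ τ : R.obj ⟶ F.obj (op n), ∀ (k : ℕ) (hk' : n + d ≤ k) (U : X.Opens), IsAffineOpen U →
      ∀ s x, Rel k U s x → τ.app U s = (tr F ((Nat.le_add_right n d).trans hk')).app U x := by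
    intro n
    obtain ⟨E₁, hE₁⟩ := exists_fork (R.fst ≫ cπ I M₂ (n + d) ≫ θ.hom.app (op (n + d)))
      (q.app (op (n + d))) hR (hF.1 _) (hF₂.1 _)
    obtain ⟨E₂, hE₂⟩ := exists_fork (E₁.fst ≫ R.snd ≫ cπ I H (n + d))
      (E₁.snd ≫ β.app (op (n + d))) hE₁ hE₁ (hCH.1 _)
    let D : E₂.obj ⟶ E₁.obj := E₂.fst - E₂.snd
    let kD : kernel D ⟶ E₂.obj := kernel.ι D
    let e : kernel D ⟶ R.obj := kD ≫ E₂.fst ≫ E₁.fst
    have hkD : ∀ (U : X.Opens) (z : Γ(kernel D, U)),
        E₂.fst.app U (kD.app U z) = E₂.snd.app U (kD.app U z) := fun U z =>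
      sub_eq_zero.1 congr($(kernel.condition D).app U z)
    have hrel : ∀ (U : X.Opens) (z : Γ(kernel D, U)),
        Rel (n + d) U (e.app U z) (E₁.snd.app U (E₂.fst.app U (kD.app U z))) := fun U z =>
      ⟨congr($(E₁.cond).app U (E₂.fst.app U (kD.app U z))).symm, by
        have h1 := congr($(E₂.cond).app U (kD.app U z))
        simp only [app_comp_apply] at h1
        rw [← hkD U z] at h1
        exact h1.symm⟩
    have hlift : ∀ (U : X.Opens) (s : Γ(R.obj, U)) (x : Γ(F.obj (op (n + d)), U)), Rel (n + d) U s x →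
        ∃ z, e.app U z = s ∧ E₁.snd.app U (E₂.fst.app U (kD.app U z)) = x := fun U s x hsx => by
      obtain ⟨f, hf1, hf2⟩ := E₁.mem s x hsx.1.symm
      obtain ⟨g, hg1, hg2⟩ := E₂.mem f f (by
        show (cπ I H (n + d)).app U (R.snd.app U (E₁.fst.app U f)) =
          (β.app (op (n + d))).app U (E₁.snd.app U f)
        rw [hf1, hf2]
        exact hsx.2.symm)
      obtain ⟨z, hz⟩ := kernel_app_exact D U g (by
        show E₂.fst.app U g - E₂.snd.app U g = 0
        rw [hg1, hg2, sub_self])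
      refine ⟨z, ?_, ?_⟩
      · show E₁.fst.app U (E₂.fst.app U (kD.app U z)) = s
        rw [hz, hg1, hf1]
      · show E₁.snd.app U (E₂.fst.app U ((kernel.ι D).app U z)) = x
        rw [hz, hg1, hf2]
    obtain ⟨τ, hτ⟩ := exists_desc_affine e (kD ≫ E₂.fst ≫ E₁.snd ≫ tr F (Nat.le_add_right n d))
      (fun U hU s => by
        obtain ⟨x, hx⟩ := hexists (n + d) U hU s
        obtain ⟨z, hz, -⟩ := hlift U s x hx
        exact ⟨z, hz⟩)
      (fun U hU z hz => by
        have h1 := hrel U z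
        rw [hz] at h1
        simp only [Rel, map_zero] at h1
        exact hsep n (n + d) le_rfl _ h1.1 h1.2)
    refine ⟨τ, fun k hk' U hU s x hsx => ?_⟩
    have hsx' : Rel (n + d) U s ((tr F hk').app U x) := by
      constructor
      · refine (congr($(tr_app q hk').app U x)).trans ?_
        show (tr F₂ hk').app U ((q.app (op k)).app U x) = _
        rw [hsx.1]
        refine (congr($(tr_app θ.hom hk').app U _)).symm.trans (congrArg ((θ.hom.app (op (n + d))).app U) ?_)
        exact congr($(cπ_tr M₂ hk').app U (R.fst.app U s))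
      · refine (congr($(tr_app β hk').app U x)).trans ?_
        show (tr CH hk').app U ((β.app (op k)).app U x) = _
        rw [hsx.2]
        exact congr($(cπ_tr H hk').app U (R.snd.app U s))
    obtain ⟨z, hz1, hz2⟩ := hlift U s _ hsx'
    have e3 := congr($hτ |>.app U z)
    simp only [app_comp_apply] at e3
    rw [hz1, hz2] at e3
    rw [e3]
    exact congr($(tr_comp F (Nat.le_add_right n d) hk').app U x)
  choose τ hτ using hτ'
  have hcompat : ∀ {n m : ℕ} (hnm : n ≤ m), τ m ≫ tr F hnm = τ n := fun {n m} hnm =>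
    hom_ext_affine fun U hU s => by
      obtain ⟨x, hx⟩ := hexists (m + d) U hU s
      show (tr F hnm).app U ((τ m).app U s) = (τ n).app U s
      rw [hτ m (m + d) le_rfl U hU s x hx, hτ n (m + d) (by omega) U hU s x hx]
      exact congr($(tr_comp F hnm (Nat.le_add_right m d)).app U x)
  have hτs : ∀ (n : ℕ) (U : X.Opens), IsAffineOpen U → Function.Surjective ((τ n).app U) := fun n U hU y => by
    obtain ⟨x, rfl⟩ := (app_tr hF (Nat.le_add_right n d) hU).1 y
    obtain ⟨s, hs⟩ := hrev (n + d) U hU x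
    exact ⟨s, hτ n (n + d) le_rfl U hU s x hs⟩
  have hkill : ∀ (n : ℕ) (U : X.Opens) (hU : IsAffineOpen U) (s : Γ(R.obj, U)),
      s ∈ JU I U ^ (n + 1) • (⊤ : Submodule Γ(X, U) Γ(R.obj, U)) → (τ n).app U s = 0 := fun n U hU s hs => by
    have h2 := app_mem_smul (τ n) hs
    rwa [smul_top_eq_bot hF n hU, Submodule.mem_bot] at h2
  have hτker : ∀ (n : ℕ) (U : X.Opens), IsAffineOpen U → ∀ s : Γ(R.obj, U), (τ n).app U s = 0 →
      (cπ I R.obj n).app U s = 0 := fun n U _ s hs =>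
    vanish_of_cover (τ n) _ hR.1 (hF.1 n).1 V hV hcov (fun i s hs => by
      have hU := hV i
      set k := n + max d c₁
      have hnk : n + d ≤ k := by omega
      obtain ⟨x, hx⟩ := hexists k (V i) hU s
      have h1 : x ∈ LinearMap.ker (appLinear (tr F ((Nat.le_add_right n d).trans hnk)) (V i)) :=
        (hτ n k hnk (V i) hU s x hx).symm.trans hs
      rw [(app_tr hF _ hU).2] at h1
      obtain ⟨s', hs', hrel'⟩ : ∃ s' ∈ JU I (V i) ^ (n + 1) • (⊤ : Submodule Γ(X, V i) Γ(R.obj, V i)),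
          Rel k (V i) s' x := by
        refine Submodule.smul_induction_on h1 (fun b hb y _ => ?_) ?_
        · obtain ⟨t, ht1, ht2⟩ := hrev k (V i) hU y
          refine ⟨b • t, Submodule.smul_mem_smul hb trivial, ?_, ?_⟩
          · simp only [Scheme.Modules.Hom.app_smul]
            exact congrArg (b • ·) ht1
          · simp only [Scheme.Modules.Hom.app_smul]
            exact congrArg (b • ·) ht2
        · rintro y y' ⟨t, ht, ht1, ht2⟩ ⟨t', ht', ht1', ht2'⟩
          exact ⟨t + t', add_mem ht ht', by simp only [map_add]; rw [ht1, ht1'],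
            by simp only [map_add]; rw [ht2, ht2']⟩
      have e1 : R.fst.app (V i) (s - s') ∈ JU I (V i) ^ (k + 1) • (⊤ : Submodule Γ(X, V i) Γ(M₂, V i)) := by
        rw [← cπ_app_mem hP k hU, map_sub, map_sub, sub_eq_zero]
        have h3 := hx.1.symm.trans hrel'.1
        have h4 := congrArg ((θ.inv.app (op k)).app (V i)) h3
        exact (congr($(θ.hom_inv_id_app (op k)).app (V i) _)).symm.trans
          (h4.trans congr($(θ.hom_inv_id_app (op k)).app (V i) _))
      have e2 : R.snd.app (V i) (s - s') ∈ JU I (V i) ^ (k + 1) • (⊤ : Submodule Γ(X, V i) Γ(H, V i)) := by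
        rw [← cπ_app_mem hH k hU, map_sub, map_sub, sub_eq_zero]
        exact hx.2.symm.trans hrel'.2
      refine (cπ_app_mem hR n hU).2 ?_
      rw [← sub_add_cancel s s']
      exact add_mem (Submodule.smul_mono (Ideal.pow_le_pow_right (by omega)) le_rfl (hc₁ i _ _ e1 e2)) hs') s hs
  obtain ⟨ε, -⟩ := exists_iso_completion hR τ (fun h => hcompat h) fun n U hU =>
    ⟨hτs n U hU, by
      ext s
      rw [JU_pow I, ← cπ_app_mem (I := I) hR n hU]
      exact ⟨hτker n U hU s, fun hs => hkill n U hU s ((cπ_app_mem hR n hU).1 hs)⟩⟩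
  haveI : Mono (biprod.lift R.fst R.snd) := mono_of_inj _ fun U f f' h => by
    refine R.ext ?_ ?_
    · rw [← biprod.lift_fst R.fst R.snd, app_comp_apply, app_comp_apply, h]
    · rw [← biprod.lift_snd R.fst R.snd, app_comp_apply, app_comp_apply, h]
  exact ⟨R.obj, hR, hC₀.sub (biprod.lift R.fst R.snd) hR (isCoh_biprod hP hH) (hC₀.sum hP hH hPP hPH), ⟨ε⟩⟩

/-- Algebraization from a map with kernel and cokernel killed by a power of an ideal sheaf, relative to a class of
modules. -/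
theorem exists_algebraization_class {F : ℕᵒᵖ ⥤ X.Modules} (hF : Formal.IsCohFormal I F) {H : X.Modules}
    (hH : Coh.IsCoh H) (α : F ⟶ Formal.completion I H) (K : X.IdealSheafData)
    (hK : Formal2.KerCokerKilledByPow K α) (hC₀ : CohClass P) (hPH : P H) (hPF : P (F.obj (op 0)))
    (h : ∀ e : ℕ, FFP I P (K ^ e) ∧ ESP I P (K ^ e)) :
    ∃ M : X.Modules, Coh.IsCoh M ∧ P M ∧ Nonempty (Formal.completion I M ≅ F) := by
  obtain ⟨t, ht⟩ := hK
  obtain ⟨H', k, hH', _, h1, h2⟩ :=
    exists_image_sub hF hH α (K ^ (t + 1)) (fun n => (ht n).2) hC₀ hPH (h _).1 (h _).2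
  obtain ⟨β, hβs, hβk⟩ := exists_corestrict hF hH hH' α k (K ^ (t + 1)) (fun n => (ht n).1) h1 h2
  exact exists_algebraization_of_surjective hF hH' β hβs (K ^ (t + 1)) hβk hC₀ (hC₀.sub k hH' hH hPH) hPF fun p => by
    rw [← pow_mul]
    exact h _

/-- Algebraization from a map with kernel and cokernel killed by a power of an ideal sheaf. -/
theorem exists_algebraization_tricky {F : ℕᵒᵖ ⥤ X.Modules} (hF : Formal.IsCohFormal I F) {H : X.Modules}
    (hH : Coh.IsCoh H) (α : F ⟶ Formal.completion I H) (K : X.IdealSheafData)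
    (hK : Formal2.KerCokerKilledByPow K α) (h : ∀ e : ℕ, FFOn I (K ^ e) ∧ ESOn I (K ^ e)) :
    ∃ M : X.Modules, Coh.IsCoh M ∧ Nonempty (Formal.completion I M ≅ F) := by
  obtain ⟨M, hM, -, hi⟩ := exists_algebraization_class (P := fun _ => True) hF hH α K hK
    ⟨fun _ _ _ _ _ => trivial, fun _ _ _ _ _ => trivial, fun _ _ _ _ => trivial⟩ trivial trivial fun e =>
      ⟨fun M N hM hN hMK hNK _ => (h e).1 M N hM hN hMK hNK, fun G hG hGK _ => by
        obtain ⟨M, hM, hMK, hi⟩ := (h e).2 G hG hGK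
        exact ⟨M, hM, hMK, trivial, hi⟩⟩
  exact ⟨M, hM, hi⟩

end Groth.Agent.FormalSys
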