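import Groth.Agent.FormalSysLib.Sys
import Groth.Agent.FormalSysLib.Tricky
import Groth.Agent.FormalSysLib.Right
import Groth.Agent.ClSubLib.ProperOver
import Groth.Agent.PullbackMod.SuppClosed
import Groth.Agent.DCohLib.ClosedPush
import Groth.Agent.AmpleEmb.Generated

/-!
# Extension of coherent formal modules with closed supports along open immersions
-/

set_option autoImplicit false
set_option linter.unusedSectionVars false
set_option linter.style.haveILetI false

universe u

open CategoryTheory CategoryTheory.Limits AlgebraicGeometry TopologicalSpace Opposite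
open Groth.Agent.CohBase Groth.Agent.ProjCoh Groth.Agent.QCohLib

noncomputable section

namespace Groth.Agent.FormalSys

section Support

variable {X : Scheme.{u}}

/-- Sections over an open missing the support vanish. -/
theorem eq_zero_of_disjoint_support {M : X.Modules} {U : X.Opens} (h : ∀ x ∈ U, x ∉ CohB1.support M) (s : Γ(M, U)) :
    s = 0 :=
  TopCat.Presheaf.section_ext (⟨M.presheaf, M.isSheaf⟩ : TopCat.Sheaf Ab X) U _ _ fun x hx => by
    haveI : Subsingleton (M.presheaf.stalk x) := not_not.1 (h x hx)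
    exact Subsingleton.elim (α := M.presheaf.stalk x) _ _

theorem support_subset_of_epi {M N : X.Modules} (e : M ⟶ N) [Epi e] : CohB1.support N ⊆ CohB1.support M :=
  fun x hx hsub => hx (by
    haveI : Subsingleton (M.presheaf.stalk x) := hsub
    exact ((PullbackMod.epi_iff_stalk e).1 inferInstance x).subsingleton)

theorem support_subset_of_mono {M N : X.Modules} (e : M ⟶ N) [Mono e] : CohB1.support M ⊆ CohB1.support N :=
  fun x hx hsub => hx (by
    haveI : Subsingleton (N.presheaf.stalk x) := hsub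
    exact ((PullbackMod.mono_iff_stalk e).1 inferInstance x).subsingleton)

variable {A : Type u} [CommRing A] [X.Over (Spec (CommRingCat.of A))] [AlgebraicGeometry.IsNoetherian X]
  {I : Ideal A} {G : ℕᵒᵖ ⥤ X.Modules}

/-- All terms of a coherent formal module are supported where the bottom one is. -/
theorem support_term_subset (hG : Formal.IsCohFormal I G) (n : ℕ) :
    CohB1.support (G.obj (op n)) ⊆ CohB1.support (G.obj (op 0)) := by
  classical
  intro x hx hsub
  haveI : Subsingleton ((G.obj (op 0)).presheaf.stalk x) := hsub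
  obtain ⟨_, ⟨U, hU, rfl⟩, hxU, -⟩ :=
    X.isBasis_affineOpens.exists_subset_of_mem_open (a := x) (Set.mem_univ x) isOpen_univ
  haveI := (hG.1 0).1
  haveI := finite_sections_of_isCoh (hG.1 0) hU
  obtain ⟨r, gen, hgen⟩ := Module.Finite.exists_fin (R := Γ(X, U)) (M := Γ(G.obj (op 0), U))
  -- a function invertible at `x` kills the bottom sections
  have hkill : ∀ j, ∃ f : Γ(X, U), x ∈ X.basicOpen f ∧ f • gen j = 0 := fun j => by
    obtain ⟨W, hW, i₁, i₂, hres⟩ := TopCat.Presheaf.germ_eq (G.obj (op 0)).presheaf x hxU hxU (gen j) 0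
      (Subsingleton.elim (α := (G.obj (op 0)).presheaf.stalk x) _ _)
    obtain ⟨f, hfW, hxf⟩ := hU.exists_basicOpen_le (V := W) ⟨x, hW⟩ hxU
    have h0 : (G.obj (op 0)).presheaf.map (homOfLE (X.basicOpen_le f)).op (gen j) = 0 := by
      rw [← restr_trans _ i₁.le hfW]
      rw [map_zero] at hres
      exact (congrArg _ hres).trans (map_zero _)
    obtain ⟨m, hm⟩ := (locAt (G.obj (op 0)) hU).kill f (gen j) h0
    rw [sc_apply] at hm
    simp only [homOfLE_refl, op_id, CategoryTheory.Functor.map_id, CommRingCat.id_apply] at hm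
    refine ⟨f ^ (m + 1), ?_, ?_⟩
    · rw [Scheme.basicOpen_pow _ f m.succ_pos]; exact hxf
    · rw [pow_succ', mul_smul, hm, smul_zero]
  choose f hxf hf using hkill
  let F := ∏ j, f j
  have hxF : IsUnit (X.presheaf.germ U x hxU F) := by
    rw [map_prod]
    exact IsUnit.prod_univ_iff.2 fun j => (X.mem_basicOpen (f j) x hxU).1 (hxf j)
  have hF0 : ∀ y : Γ(G.obj (op 0), U), F • y = 0 := fun y => by
    have hy : y ∈ Submodule.span Γ(X, U) (Set.range gen) := hgen ▸ trivial
    induction hy using Submodule.span_induction with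
    | mem y hy =>
      obtain ⟨j, rfl⟩ := hy
      show (∏ k, f k) • gen j = 0
      rw [← Finset.prod_erase_mul _ _ (Finset.mem_univ j), mul_smul, hf, smul_zero]
    | zero => exact smul_zero _
    | add a b _ _ ha hb => rw [smul_add, ha, hb, add_zero]
    | smul c a _ ha => rw [smul_comm, ha, smul_zero]
  have hstep : ∀ (k : ℕ) (y : Γ(G.obj (op n), U)),
      F ^ k • y ∈ JU I U ^ k • (⊤ : Submodule Γ(X, U) Γ(G.obj (op n), U)) := by
    intro k
    induction k with
    | zero => intro y; simp
    | succ k ih =>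
      intro y
      have h1 : F • y ∈ LinearMap.ker (appLinear (tr G (Nat.zero_le n)) U) := by
        refine LinearMap.mem_ker.2 ?_
        show (tr G (Nat.zero_le n)).app U (F • y) = 0
        rw [Scheme.Modules.Hom.app_smul]
        exact hF0 _
      rw [(app_tr hG _ hU).2, zero_add, pow_one] at h1
      rw [pow_succ (F) k, mul_smul, pow_succ' (JU I U) k, mul_smul]
      refine Submodule.smul_induction_on h1 (fun b hb w _ => ?_) (fun a b ha hb => ?_)
      · rw [smul_comm (F ^ k) b w]
        exact Submodule.smul_mem_smul hb (ih w)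
      · rw [smul_add]
        exact add_mem ha hb
  refine hx (subsingleton_of_forall_eq 0 fun z => ?_)
  haveI := (hG.1 n).1
  have hspan := AmpleEmb.span_germ_eq_top (G.obj (op n)) hU hxU (S := Set.univ) Submodule.span_univ
  have hz : z ∈ Submodule.span (X.presheaf.stalk x)
      ((fun σ => (G.obj (op n)).presheaf.germ U x hxU σ) '' Set.univ) := hspan ▸ trivial
  induction hz using Submodule.span_induction with
  | mem y hy =>
    obtain ⟨σ, -, rfl⟩ := hy
    have h1 := hstep (n + 1) σ
    rw [smul_top_eq_bot hG n hU, Submodule.mem_bot] at h1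
    have h2 := congrArg ((G.obj (op n)).presheaf.germ U x hxU) h1
    rw [map_zero, ParaFLib.germ_smul', map_pow] at h2
    exact (hxF.pow (n + 1)).smul_eq_zero.1 h2
  | zero => rfl
  | add a b _ _ ha hb => rw [ha, hb, add_zero]
  | smul c a _ ha => rw [ha, smul_zero]

end Support

variable {A : Type u} [CommRing A] {W P : Scheme.{u}} [W.Over (Spec (CommRingCat.of A))]
  [P.Over (Spec (CommRingCat.of A))] [AlgebraicGeometry.IsNoetherian W] [AlgebraicGeometry.IsNoetherian P]
  {I : Ideal A}

/-- The extension of a coherent formal module with closed support. -/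
theorem isCohFormal_pushforward_open (j : W ⟶ P) [IsOpenImmersion j]
    (hj : j ≫ (P ↘ Spec (CommRingCat.of A)) = W ↘ Spec (CommRingCat.of A))
    {G : ℕᵒᵖ ⥤ W.Modules} (hG : Formal.IsCohFormal I G) (hT : IsClosed (j '' CohB1.support (G.obj (op 0)))) :
    Formal.IsCohFormal I (G ⋙ Scheme.Modules.pushforward j) := by
  classical
  let T : Set P := j '' CohB1.support (G.obj (op 0))
  let κ := {V : P.affineOpens // (V.1 : Set P) ⊆ Set.range j ∨ ∀ x ∈ V.1, x ∉ T}
  let V : κ → P.Opens := fun V => V.1.1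
  have hV : ∀ k, IsAffineOpen (V k) := fun k => k.1.2
  have hcov : (⊤ : P.Opens) ≤ iSup V := fun y _ => by
    by_cases hy : y ∈ Set.range j
    · obtain ⟨_, ⟨U, hU, rfl⟩, hyU, hUj⟩ :=
        P.isBasis_affineOpens.exists_subset_of_mem_open (a := y) hy j.isOpenEmbedding.isOpen_range
      exact Opens.mem_iSup.2 ⟨⟨⟨U, hU⟩, Or.inl hUj⟩, hyU⟩
    · obtain ⟨_, ⟨U, hU, rfl⟩, hyU, hUT⟩ :=
        P.isBasis_affineOpens.exists_subset_of_mem_open (a := y)
          (show y ∈ Tᶜ from fun hT => hy (Set.image_subset_range _ _ hT)) hT.isOpen_compl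
      exact Opens.mem_iSup.2 ⟨⟨⟨U, hU⟩, Or.inr hUT⟩, hyU⟩
  have hzero : ∀ (n : ℕ) (k : κ), (∀ x ∈ V k, x ∉ T) →
      ∀ s : Γ((Scheme.Modules.pushforward j).obj (G.obj (op n)), V k), s = 0 := fun n k hk s =>
    eq_zero_of_disjoint_support (M := G.obj (op n)) (U := j ⁻¹ᵁ V k)
      (fun x hx hxs => hk (j x) hx ⟨x, support_term_subset hG n hxs, rfl⟩) s
  have haff : ∀ k : κ, (V k : Set P) ⊆ Set.range j → IsAffineOpen (j ⁻¹ᵁ V k) := fun k hk =>
    (hV k).preimage_of_isOpenImmersion j hk
  have hsurj : ∀ k : κ, (V k : Set P) ⊆ Set.range j → Function.Surjective (j.app (V k)) := fun k hk => by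
    haveI : IsIso (j.app (V k)) := j.isIso_app (V k) hk
    exact (ConcreteCategory.bijective_of_isIso _).2
  have hqc : ∀ n, Coh.IsQCoh ((Scheme.Modules.pushforward j).obj (G.obj (op n))) := fun n => by
    haveI := (hG.1 n).1
    exact QCohLib.isQCoh_pushforward _ j
  have hfin : ∀ (n : ℕ) (k : κ), Module.Finite Γ(P, V k) Γ((Scheme.Modules.pushforward j).obj (G.obj (op n)), V k) := by
    intro n k
    rcases k.2 with hk | hk
    · haveI := finite_sections_of_isCoh (hG.1 n) (haff k hk)
      obtain ⟨r, gen, hgen⟩ := Module.Finite.exists_fin (R := Γ(W, j ⁻¹ᵁ V k)) (M := Γ(G.obj (op n), j ⁻¹ᵁ V k))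
      let gen' : Fin r → Γ((Scheme.Modules.pushforward j).obj (G.obj (op n)), V k) := gen
      refine ⟨Submodule.fg_def.2 ⟨Set.range gen', Set.finite_range _, eq_top_iff.2 fun y _ => ?_⟩⟩
      obtain ⟨c, hc⟩ := Submodule.mem_span_range_iff_exists_fun _ |>.1
        (hgen ▸ Submodule.mem_top : (show Γ(G.obj (op n), j ⁻¹ᵁ V k) from y) ∈ Submodule.span _ (Set.range gen))
      choose c' hc' using fun i => hsurj k hk (c i)
      refine Submodule.mem_span_range_iff_exists_fun _ |>.2 ⟨c', ?_⟩
      refine Eq.trans ?_ hc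
      refine Finset.sum_congr rfl fun i _ => ?_
      show j.app (V k) (c' i) • gen i = _
      rw [hc']
    · haveI : Subsingleton Γ((Scheme.Modules.pushforward j).obj (G.obj (op n)), V k) :=
        subsingleton_of_forall_eq 0 (hzero n k hk)
      infer_instance
  have hcoh : ∀ n, Coh.IsCoh ((Scheme.Modules.pushforward j).obj (G.obj (op n))) := fun n =>
    haveI := hqc n
    ⟨hqc n, QCohLib.isFiniteType_of_finite _ V hV (top_le_iff.1 hcov) (hfin n)⟩
  refine isCohFormal_of_succ hcoh fun n U hU => ?_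
  let f := (Scheme.Modules.pushforward j).map (tr G (Nat.le_succ n))
  have hlift : ∀ (k : κ), (V k : Set P) ⊆ Set.range j → ∀ (m : ℕ)
      (s : Γ(G.obj (op (n + 1)), j ⁻¹ᵁ V k)), s ∈ JU I (j ⁻¹ᵁ V k) ^ m •
        (⊤ : Submodule Γ(W, j ⁻¹ᵁ V k) Γ(G.obj (op (n + 1)), j ⁻¹ᵁ V k)) →
      (show Γ((Scheme.Modules.pushforward j).obj (G.obj (op (n + 1))), V k) from s) ∈ JU I (V k) ^ m •
        (⊤ : Submodule Γ(P, V k) Γ((Scheme.Modules.pushforward j).obj (G.obj (op (n + 1))), V k)) := by
    intro k hk m s hs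
    have he : JU I (j ⁻¹ᵁ V k) ^ m = (JU I (V k) ^ m).map (j.app (V k)).hom := by
      rw [Ideal.map_pow]
      refine congrArg (· ^ m) ?_
      rw [Ideal.map_map]
      refine congrArg (fun φ => Ideal.map φ I) (RingHom.ext fun a => ?_)
      exact (FormalLib.app_φV_cst j hj (V k) a).symm
    rw [he] at hs
    refine Submodule.smul_induction_on hs (fun b hb w _ => ?_) (fun a b ha hb => ?_)
    · obtain ⟨b', hb', rfl⟩ := (Ideal.mem_map_iff_of_surjective _ (hsurj k hk)).1 hb
      exact Submodule.smul_mem_smul hb' (N := (⊤ : Submodule Γ(P, V k) Γ((Scheme.Modules.pushforward j).obj (G.obj (op (n + 1))), V k))) (n := w) trivial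
    · exact add_mem ha hb
  refine ⟨surjective_of_cover f (hcoh (n + 1)).1 (hcoh n).1 V hV hcov (fun k s => ?_) hU,
    le_antisymm (fun s hs => ?_) ?_⟩
  · rcases k.2 with hk | hk
    · exact (app_tr hG (Nat.le_succ n) (haff k hk)).1 s
    · exact ⟨0, (map_zero _).trans (hzero n k hk s).symm⟩
  · refine (π_app_mem (hcoh (n + 1)) (n + 1) hU).1 ?_
    refine vanish_of_cover f (Formal.modPowπ I (n + 1) _) (hcoh (n + 1)).1 (hcoh n).1 V hV hcov (fun k t ht => ?_) s hs
    rcases k.2 with hk | hk
    · refine (π_app_mem (hcoh (n + 1)) (n + 1) (hV k)).2 (hlift k hk (n + 1) t ?_)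
      rw [← (app_tr hG (Nat.le_succ n) (haff k hk)).2]
      exact ht
    · rw [hzero (n + 1) k hk t, map_zero]
  · intro s hs
    have h1 := app_mem_smul f hs
    have hk : Formal.KilledBy (I ^ (n + 1)) ((Scheme.Modules.pushforward j).obj (G.obj (op n))) := fun a ha => by
      rw [← FormalLib.push_smulMod j hj, hG.2.1 n a ha]
      exact Functor.map_zero _ _ _
    rwa [JU_pow_smul_eq_bot hk hU, Submodule.mem_bot] at h1

/-- Pullback commutes with completion. -/
theorem exists_pullback_completion_iso (f : W ⟶ P)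
    (w : f ≫ (P ↘ Spec (CommRingCat.of A)) = W ↘ Spec (CommRingCat.of A)) {M : P.Modules} (hM : Coh.IsCoh M) :
    Nonempty (Formal.completion I ((Scheme.Modules.pullback f).obj M) ≅
      Formal.completion I M ⋙ Scheme.Modules.pullback f) := by
  let adj := Scheme.Modules.pullbackPushforwardAdjunction f
  let N := (Scheme.Modules.pullback f).obj M
  have hN : Coh.IsCoh N := PullbackMod.isCoh_pullback f M hM
  have hC := isCohFormal_pullback f w (isCohFormal_completion hM I)
  let τ : ∀ n, N ⟶ (Formal.completion I M ⋙ Scheme.Modules.pullback f).obj (op n) := fun n =>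
    (Scheme.Modules.pullback f).map (cπ I M n)
  have hτ : ∀ {n k : ℕ} (h : n ≤ k), τ k ≫ tr (Formal.completion I M ⋙ Scheme.Modules.pullback f) h = τ n :=
    fun {n k} h => ((Scheme.Modules.pullback f).map_comp _ _).symm.trans (congrArg _ (cπ_tr M h))
  have hfac : ∀ (n : ℕ) (T : W.Modules) (t : N ⟶ T), Formal.smulFamily (I ^ (n + 1)) N ≫ t = 0 →
      ∃ l, τ n ≫ l = t := by
    intro n T t ht
    have h2 : Formal.smulFamily (I ^ (n + 1)) M ≫ adj.homEquiv _ _ t = 0 := by
      refine Sigma.hom_ext _ _ fun a => ?_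
      rw [comp_zero, ← Category.assoc, Formal.smulFamily, Sigma.ι_desc, ← adj.homEquiv_naturality_left]
      rw [show (Scheme.Modules.pullback f).map (Formal.smulMod A M (a : A)) ≫ t = 0 from by
        rw [pullback_smulMod f w]; exact smulMod_comp_eq_zero ht a]
      rw [Adjunction.homEquiv_unit, Functor.map_zero, comp_zero]
    refine ⟨(adj.homEquiv _ _).symm (cokernel.desc _ _ h2), ?_⟩
    refine (adj.homEquiv_naturality_left_symm _ _).symm.trans ?_
    rw [Equiv.symm_apply_eq]
    exact cokernel.π_desc _ _ _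
  haveI : PreservesColimitsOfSize.{0, 0} (Scheme.Modules.pullback f) := adj.leftAdjoint_preservesColimits
  have haff : ∀ (n : ℕ) (U : W.Opens), IsAffineOpen U → Function.Surjective ((τ n).app U) ∧
      LinearMap.ker (appLinear (τ n) U) = JU (I ^ (n + 1)) U • ⊤ := fun n U hU => by
    haveI : Epi (cπ I M n) := epi_cπ hM n
    haveI : Epi (τ n) := Functor.map_epi _ _
    refine ⟨app_surjective_of_epi _ hN.1 (hC.1 n).1 hU, ?_⟩
    obtain ⟨l, hl⟩ := hfac n _ (cπ I N n) (cokernel.condition _)
    rw [JU_pow]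
    refine le_antisymm (fun s hs => ?_) ?_
    · refine (cπ_app_mem hN n hU).1 ?_
      rw [← hl, app_comp_apply, show (τ n).app U s = 0 from hs, map_zero]
    · intro s hs
      have h1 := app_mem_smul (τ n) hs
      rwa [smul_top_eq_bot hC n hU, Submodule.mem_bot] at h1
  obtain ⟨β, -⟩ := exists_iso_completion hN τ (fun h => hτ h) haff
  exact ⟨β⟩

end Groth.Agent.FormalSys
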