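import Mathlib
import Groth.Agent.FormalSysLib.Algebra

/-!
# Kernels of maps of adic systems of finite modules
-/

set_option autoImplicit false
set_option linter.unusedSectionVars false
set_option linter.style.haveILetI false

universe u

namespace Groth.Agent.FormalSys

/-- A system of `B`-modules `M m = M k / J ^ (m + 1) M k`. -/
structure Adic {B : Type u} [CommRing B] (J : Ideal B) (M : ℕ → Type u) [∀ n, AddCommGroup (M n)]
    [∀ n, Module B (M n)] (T : ∀ {m k : ℕ}, m ≤ k → (M k →ₗ[B] M m)) : Prop where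
  surj : ∀ {m k : ℕ} (h : m ≤ k), Function.Surjective (T h)
  ker_eq : ∀ {m k : ℕ} (h : m ≤ k), LinearMap.ker (T h) = J ^ (m + 1) • (⊤ : Submodule B (M k))
  refl : ∀ (m : ℕ) (x : M m), T (le_refl m) x = x
  trans : ∀ {l m k : ℕ} (h : l ≤ m) (h' : m ≤ k) (x : M k), T h (T h' x) = T (h.trans h') x

namespace Adic

variable {B : Type u} [CommRing B] {J : Ideal B} {M : ℕ → Type u} [∀ n, AddCommGroup (M n)]
  [∀ n, Module B (M n)] {T : ∀ {m k : ℕ}, m ≤ k → (M k →ₗ[B] M m)}

theorem smul_top_eq_bot (hM : Adic J M T) (n : ℕ) : J ^ (n + 1) • (⊤ : Submodule B (M n)) = ⊥ := by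
  rw [← hM.ker_eq (le_refl n), LinearMap.ker_eq_bot']
  intro x hx
  rwa [hM.refl] at hx

theorem torsion (hM : Adic J M T) (n : ℕ) : Module.IsTorsionBySet B (M n) ((J ^ (n + 1) : Ideal B) : Set B) :=
  fun x b => by
    have := Submodule.smul_mem_smul (N := (⊤ : Submodule B (M n))) b.2 (Submodule.mem_top (x := x))
    rwa [hM.smul_top_eq_bot] at this

/-- The limit of the system. -/
def lim (T : ∀ {m k : ℕ}, m ≤ k → (M k →ₗ[B] M m)) : Submodule B (∀ n, M n) where
  carrier := {y | ∀ (m k : ℕ) (h : m ≤ k), T h (y k) = y m}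
  zero_mem' := fun m k h => map_zero _
  add_mem' := fun {y z} hy hz m k h => by rw [Pi.add_apply, map_add, hy m k h, hz m k h, Pi.add_apply]
  smul_mem' := fun b y hy m k h => by rw [Pi.smul_apply, map_smul, hy m k h, Pi.smul_apply]

/-- The projections of the limit. -/
def proj (T : ∀ {m k : ℕ}, m ≤ k → (M k →ₗ[B] M m)) (n : ℕ) : lim T →ₗ[B] M n :=
  (LinearMap.proj n).comp (lim T).subtype

lemma T_proj {m k : ℕ} (h : m ≤ k) (z : lim T) : T h (proj T k z) = proj T m z := z.2 m k h

theorem lim_spec [IsAdicComplete J B] (hM : Adic J M T) [Module.Finite B (M 0)] :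
    Module.Finite B (lim T) ∧ ∀ n, Function.Surjective (proj T n) ∧
      LinearMap.ker (proj T n) = J ^ (n + 1) • (⊤ : Submodule B (lim T)) := by
  obtain ⟨h1, -, h3⟩ := InvSys.main (A := B) (I := J) (M := M) (f := fun n => T (Nat.le_succ n))
    (L := lim T) (π := proj T) (fun n => hM.surj _) hM.smul_top_eq_bot (fun n => hM.ker_eq _)
    (fun n => LinearMap.ext fun y => T_proj _ y) (fun y hy => Subtype.ext (funext hy))
    (fun y hy => ⟨⟨y, fun m k h => by
      induction h with
      | refl => exact hM.refl _ _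
      | @step j h ih => rw [← hM.trans h (Nat.le_succ j), hy j, ih]⟩, fun n => rfl⟩) inferInstance
  exact ⟨h1, h3⟩

variable {N : ℕ → Type u} [∀ n, AddCommGroup (N n)] [∀ n, Module B (N n)]
  {T' : ∀ {m k : ℕ}, m ≤ k → (N k →ₗ[B] N m)}

/-- The map on limits. -/
def limMap (α : ∀ n, M n →ₗ[B] N n) (hα : ∀ {m k : ℕ} (h : m ≤ k) (x : M k), α m (T h x) = T' h (α k x)) :
    lim T →ₗ[B] lim T' where
  toFun z := ⟨fun n => α n (z.1 n), fun m k h => by rw [← hα h, z.2 m k h]⟩
  map_add' z w := Subtype.ext (funext fun n => map_add (α n) _ _)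
  map_smul' b z := Subtype.ext (funext fun n => map_smul (α n) _ _)

section Complete

variable [IsNoetherianRing B] [IsAdicComplete J B] [∀ n, Module.Finite B (M n)] [∀ n, Module.Finite B (N n)]
  (hM : Adic J M T) (hN : Adic J N T') (α : ∀ n, M n →ₗ[B] N n)
  (hα : ∀ {m k : ℕ} (h : m ≤ k) (x : M k), α m (T h x) = T' h (α k x))

include hM hN hα

theorem exists_kernel_bound_complete :
    ∃ c : ℕ, (∀ (m k : ℕ) (h : m + c ≤ k), ∀ x ∈ LinearMap.ker (α (m + c)), ∃ y ∈ LinearMap.ker (α k),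
        T ((Nat.le_add_right m c).trans h) y = T (Nat.le_add_right m c) x) ∧
      ∀ (m k : ℕ) (h : m ≤ k), ∀ x ∈ LinearMap.ker (α (k + c)),
        T (h.trans (Nat.le_add_right k c)) x = 0 →
        T (Nat.le_add_right k c) x ∈ J ^ (m + 1 - c) • (LinearMap.ker (α (k + c))).map (T (Nat.le_add_right k c)) := by
  obtain ⟨hfM, hπM⟩ := hM.lim_spec
  obtain ⟨hfN, hπN⟩ := hN.lim_spec
  set A := limMap α hα
  obtain ⟨d, hd⟩ := exists_comap_le J A
  obtain ⟨e, he⟩ := exists_comap_le (M := ↥(LinearMap.ker A)) (N := ↥(lim T)) J (LinearMap.ker A).subtype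
  have hker : ∀ (z : lim T), A z = 0 → ∀ k, proj T k z ∈ LinearMap.ker (α k) := fun z hz k =>
    congr_fun (congrArg Subtype.val hz) k
  have key : ∀ (m c : ℕ), d ≤ c → ∀ x ∈ LinearMap.ker (α (m + c)), ∃ z, A z = 0 ∧
      proj T m z = T (Nat.le_add_right m c) x := by
    intro m c hc x hx
    obtain ⟨z, rfl⟩ := (hπM (m + c)).1 x
    have h1 : A z ∈ LinearMap.ker (proj T' (m + c)) := hx
    rw [(hπN _).2] at h1
    obtain ⟨t, ht, y, hy, rfl⟩ := Submodule.mem_sup.1 (hd _ _ h1)
    refine ⟨t, ht, ?_⟩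
    have h2 : y ∈ LinearMap.ker (proj T m) := by
      rw [(hπM m).2]
      exact Submodule.smul_mono (Ideal.pow_le_pow_right (by omega)) le_rfl hy
    rw [T_proj, map_add, LinearMap.mem_ker.1 h2, add_zero]
  refine ⟨max d e, fun m k h x hx => ?_, fun m k h x hx hx0 => ?_⟩
  · obtain ⟨z, hz, hz'⟩ := key m (max d e) (le_max_left _ _) x hx
    exact ⟨proj T k z, hker z hz k, (T_proj _ z).trans hz'⟩
  · obtain ⟨z, hz, hz'⟩ := key k (max d e) (le_max_left _ _) x hx
    have h1 : z ∈ LinearMap.ker (proj T m) := by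
      rw [LinearMap.mem_ker, ← T_proj h, hz', hM.trans]
      exact hx0
    rw [(hπM m).2] at h1
    have h2 := he (m + 1) ⟨z, hz⟩ h1
    rw [Submodule.ker_subtype, bot_sup_eq] at h2
    let ψ : ↥(LinearMap.ker A) →ₗ[B] M k := (proj T k).comp (LinearMap.ker A).subtype
    have h3 := Submodule.mem_map_of_mem (f := ψ) h2
    rw [Submodule.map_smul'', Submodule.map_top] at h3
    rw [← hz']
    refine Submodule.smul_mono (Ideal.pow_le_pow_right (Nat.sub_le_sub_left (le_max_right d e) _)) ?_ h3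
    rintro _ ⟨w, rfl⟩
    exact ⟨proj T (k + max d e) w.1, hker _ w.2 _, T_proj _ _⟩

theorem exists_ideal_bound_complete (K : Ideal B) (hK : ∀ n, ∀ a ∈ K, ∀ x ∈ LinearMap.ker (α n), a • x = 0) :
    ∃ m : ℕ, ∀ p : ℕ, m ≤ p → ∃ d : ℕ, ∀ (n k : ℕ) (h : n + d ≤ k) (x : M k),
      x ∈ K ^ p • (⊤ : Submodule B (M k)) → α k x = 0 → T ((Nat.le_add_right n d).trans h) x = 0 := by
  obtain ⟨hfM, hπM⟩ := hM.lim_spec
  obtain ⟨hfN, hπN⟩ := hN.lim_spec
  set A := limMap α hα
  obtain ⟨d₁, hd₁⟩ := exists_comap_le J A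
  obtain ⟨e, he⟩ := exists_comap_le (M := ↥(LinearMap.ker A)) (N := ↥(lim T)) K (LinearMap.ker A).subtype
  refine ⟨e + 1, fun p hp => ?_⟩
  -- the kernel meets `K ^ p` trivially
  have hmeet : ∀ t : lim T, A t = 0 → t ∈ K ^ p • (⊤ : Submodule B (lim T)) → t = 0 := by
    intro t ht htp
    have h2 := he p ⟨t, ht⟩ htp
    rw [Submodule.ker_subtype, bot_sup_eq] at h2
    have h3 : K ^ (p - e) • (⊤ : Submodule B (LinearMap.ker A)) = ⊥ := by
      rw [eq_bot_iff, Submodule.smul_le]
      intro a ha w _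
      have haK : a ∈ K := Ideal.pow_le_self (by omega) ha
      rw [Submodule.mem_bot]
      exact Subtype.ext (Subtype.ext (funext fun k => hK k a haK _ (congr_fun (congrArg Subtype.val w.2) k)))
    rw [h3, Submodule.mem_bot] at h2
    exact congrArg Subtype.val h2
  let ρ : ↥(LinearMap.ker A) →ₗ[B] (↥(lim T) ⧸ K ^ p • (⊤ : Submodule B (lim T))) :=
    (Submodule.mkQ _).comp (LinearMap.ker A).subtype
  obtain ⟨d₂, hd₂⟩ := exists_comap_le (M := ↥(LinearMap.ker A))
    (N := ↥(lim T) ⧸ K ^ p • (⊤ : Submodule B (lim T))) J ρ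
  refine ⟨d₁ + d₂, fun n k h x hxK hx => ?_⟩
  obtain ⟨z, hz, rfl⟩ : ∃ z ∈ K ^ p • (⊤ : Submodule B (lim T)), proj T k z = x := by
    have h1 : x ∈ (K ^ p • (⊤ : Submodule B (lim T))).map (proj T k) := by
      rwa [Submodule.map_smul'', Submodule.map_top, LinearMap.range_eq_top.2 (hπM k).1]
    exact h1
  have h1 : A z ∈ LinearMap.ker (proj T' k) := hx
  rw [(hπN _).2] at h1
  obtain ⟨t, ht, y, hy, rfl⟩ := Submodule.mem_sup.1 (hd₁ _ _ h1)
  have h2 : ρ ⟨t, ht⟩ ∈ J ^ (k + 1 - d₁) • (⊤ : Submodule B (↥(lim T) ⧸ K ^ p • (⊤ : Submodule B (lim T)))) := by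
    have h3 := Submodule.mem_map_of_mem (f := Submodule.mkQ (K ^ p • (⊤ : Submodule B (lim T)))) hy
    rw [Submodule.map_smul''] at h3
    have h4 : ρ ⟨t, ht⟩ = -(Submodule.mkQ (K ^ p • (⊤ : Submodule B (lim T))) y) := by
      rw [eq_neg_iff_add_eq_zero]
      refine (map_add (Submodule.mkQ (K ^ p • (⊤ : Submodule B (lim T)))) t y).symm.trans ?_
      exact (Submodule.Quotient.mk_eq_zero _).2 hz
    rw [h4]
    exact neg_mem (Submodule.smul_mono le_rfl le_top h3)
  obtain ⟨t', ht', y', hy', hsum⟩ := Submodule.mem_sup.1 (hd₂ _ _ h2)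
  have ht0 : t' = 0 := Subtype.ext (hmeet t'.1 t'.2 ((Submodule.Quotient.mk_eq_zero _).1 ht'))
  rw [ht0, zero_add] at hsum
  have h5 : t ∈ J ^ (n + 1) • (⊤ : Submodule B (lim T)) := by
    have h6 := Submodule.mem_map_of_mem (f := (LinearMap.ker A).subtype) hy'
    rw [Submodule.map_smul'', hsum] at h6
    exact Submodule.smul_mono (Ideal.pow_le_pow_right (by omega)) le_top h6
  have h7 : t + y ∈ LinearMap.ker (proj T n) := by
    rw [(hπM n).2]
    exact add_mem h5 (Submodule.smul_mono (Ideal.pow_le_pow_right (by omega)) le_rfl hy)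
  rw [T_proj]
  exact h7

end Complete

end Adic

/-! ### Passing to the completion -/

section Completion

variable {B : Type u} [CommRing B] [IsNoetherianRing B] (J : Ideal B)

local notation "R" => AdicCompletion J B

lemma exists_rep (n : ℕ) (ρ : R) :
    ∃ b : B, ∀ k ≤ n, AdicCompletion.evalₐ J (k + 1) ρ = Ideal.Quotient.mk _ b := by
  obtain ⟨d, rfl⟩ := AdicCompletion.mk_surjective J B ρ
  refine ⟨d (n + 1), fun k hk => ?_⟩
  rw [AdicCompletion.evalₐ_mk, Ideal.Quotient.eq]
  have := SModEq.sub_mem.1 (d.2 (Nat.succ_le_succ hk))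
  rwa [smul_eq_mul, Ideal.mul_top] at this

/-- Torsion modules are modules over the completion. -/
@[reducible]
noncomputable def modR {M : Type u} [AddCommGroup M] [Module B M] (n : ℕ)
    (h : Module.IsTorsionBySet B M ((J ^ (n + 1) : Ideal B) : Set B)) : Module R M :=
  letI : Module (B ⧸ J ^ (n + 1)) M := h.module
  Module.compHom M (AdicCompletion.evalₐ J (n + 1)).toRingHom

lemma modR_smul {M : Type u} [AddCommGroup M] [Module B M] (n : ℕ)
    (h : Module.IsTorsionBySet B M ((J ^ (n + 1) : Ideal B) : Set B)) (ρ : R) (b : B)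
    (hb : AdicCompletion.evalₐ J (n + 1) ρ = Ideal.Quotient.mk _ b) (x : M) :
    letI := modR J n h
    ρ • x = b • x := by
  letI : Module (B ⧸ J ^ (n + 1)) M := h.module
  show (AdicCompletion.evalₐ J (n + 1)).toRingHom ρ • x = b • x
  rw [AlgHom.toRingHom_eq_coe, RingHom.coe_coe, hb]
  exact h.mk_smul b x

lemma modR_tower {M : Type u} [AddCommGroup M] [Module B M] (n : ℕ)
    (h : Module.IsTorsionBySet B M ((J ^ (n + 1) : Ideal B) : Set B)) :
    letI := modR J n h
    IsScalarTower B R M := by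
  letI := modR J n h
  refine IsScalarTower.of_algebraMap_smul fun b x => modR_smul J n h _ b ?_ x
  rw [AlgHom.commutes, Ideal.Quotient.algebraMap_eq]

lemma mem_map_smul_iff {M : Type u} [AddCommGroup M] [Module B M] [Module R M] [IsScalarTower B R M]
    (I : Ideal B) (P : Submodule R M) (x : M) :
    x ∈ I.map (algebraMap B R) • P ↔ x ∈ I • P.restrictScalars B := by
  rw [← Ideal.smul_restrictScalars, Submodule.restrictScalars_mem]

variable {M : ℕ → Type u} [∀ n, AddCommGroup (M n)] [∀ n, Module B (M n)] [∀ n, Module.Finite B (M n)]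
  {T : ∀ {m k : ℕ}, m ≤ k → (M k →ₗ[B] M m)}
  {N : ℕ → Type u} [∀ n, AddCommGroup (N n)] [∀ n, Module B (N n)] [∀ n, Module.Finite B (N n)]
  {T' : ∀ {m k : ℕ}, m ≤ k → (N k →ₗ[B] N m)}

variable {J} in
/-- The transition maps are linear over the completion. -/
noncomputable def Adic.TR (hM : Adic J M T) {m k : ℕ} (h : m ≤ k) :
    letI := fun n => modR J n (hM.torsion n)
    M k →ₗ[R] M m :=
  letI := fun n => modR J n (hM.torsion n)
  { toFun := T h
    map_add' := map_add _
    map_smul' := fun ρ x => by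
      obtain ⟨b, hb⟩ := exists_rep J k ρ
      rw [RingHom.id_apply, modR_smul J k _ ρ b (hb k le_rfl), modR_smul J m _ ρ b (hb m h), map_smul] }

theorem Adic.adicR (hM : Adic J M T) :
    letI := fun n => modR J n (hM.torsion n)
    Adic (J.map (algebraMap B R)) M hM.TR := by
  letI := fun n => modR J n (hM.torsion n)
  haveI := fun n => modR_tower J n (hM.torsion n)
  refine ⟨fun h => hM.surj h, fun {m k} h => ?_, hM.refl, hM.trans⟩
  ext x
  rw [← Ideal.map_pow, mem_map_smul_iff, Submodule.restrictScalars_top, ← hM.ker_eq h]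
  rfl

variable {J} in
/-- A map of systems is linear over the completion. -/
noncomputable def Adic.mapR (hM : Adic J M T) (hN : Adic J N T') (α : ∀ n, M n →ₗ[B] N n) (n : ℕ) :
    letI := modR J n (hM.torsion n)
    letI := modR J n (hN.torsion n)
    M n →ₗ[R] N n :=
  letI := modR J n (hM.torsion n)
  letI := modR J n (hN.torsion n)
  { toFun := α n
    map_add' := map_add _
    map_smul' := fun ρ x => by
      obtain ⟨b, hb⟩ := exists_rep J n ρ
      rw [RingHom.id_apply, modR_smul J n _ ρ b (hb n le_rfl), modR_smul J n _ ρ b (hb n le_rfl), map_smul] }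

variable (hM : Adic J M T) (hN : Adic J N T') (α : ∀ n, M n →ₗ[B] N n)
  (hα : ∀ {m k : ℕ} (h : m ≤ k) (x : M k), α m (T h x) = T' h (α k x))

include hM hN hα

/-- Kernels of maps of adic systems stabilise. -/
theorem exists_kernel_bound :
    ∃ c : ℕ, (∀ (m k : ℕ) (h : m + c ≤ k), ∀ x ∈ LinearMap.ker (α (m + c)), ∃ y ∈ LinearMap.ker (α k),
        T ((Nat.le_add_right m c).trans h) y = T (Nat.le_add_right m c) x) ∧
      ∀ (m k : ℕ) (h : m ≤ k), ∀ x ∈ LinearMap.ker (α (k + c)),
        T (h.trans (Nat.le_add_right k c)) x = 0 →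
        T (Nat.le_add_right k c) x ∈ J ^ (m + 1 - c) • (LinearMap.ker (α (k + c))).map (T (Nat.le_add_right k c)) := by
  letI := fun n => modR J n (hM.torsion n)
  letI := fun n => modR J n (hN.torsion n)
  haveI := fun n => modR_tower J n (hM.torsion n)
  haveI := fun n => modR_tower J n (hN.torsion n)
  haveI : IsNoetherianRing R := RegLocal.isNoetherianRing_adicCompletion J J.fg_of_isNoetherianRing
  haveI : IsAdicComplete (J.map (algebraMap B R)) R :=
    AdicCompletion.isAdicComplete_self J J.fg_of_isNoetherianRing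
  haveI : ∀ n, Module.Finite R (M n) := fun n => Module.Finite.of_restrictScalars_finite B R (M n)
  haveI : ∀ n, Module.Finite R (N n) := fun n => Module.Finite.of_restrictScalars_finite B R (N n)
  obtain ⟨c, h1, h2⟩ := Adic.exists_kernel_bound_complete (hM.adicR J) (hN.adicR J) (hM.mapR hN α) hα
  refine ⟨c, h1, fun m k h x hx hx0 => ?_⟩
  have h3 := h2 m k h x hx hx0
  rw [← Ideal.map_pow, mem_map_smul_iff] at h3
  refine Submodule.smul_mono le_rfl ?_ h3
  rintro _ ⟨w, hw, rfl⟩
  exact ⟨w, hw, rfl⟩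

/-- Elements deep in the filtration of an ideal killing the kernels are killed. -/
theorem exists_ideal_bound (K : Ideal B) (hK : ∀ n, ∀ a ∈ K, ∀ x ∈ LinearMap.ker (α n), a • x = 0) :
    ∃ m : ℕ, ∀ p : ℕ, m ≤ p → ∃ d : ℕ, ∀ (n k : ℕ) (h : n + d ≤ k) (x : M k),
      x ∈ K ^ p • (⊤ : Submodule B (M k)) → α k x = 0 → T ((Nat.le_add_right n d).trans h) x = 0 := by
  letI := fun n => modR J n (hM.torsion n)
  letI := fun n => modR J n (hN.torsion n)
  haveI := fun n => modR_tower J n (hM.torsion n)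
  haveI := fun n => modR_tower J n (hN.torsion n)
  haveI : IsNoetherianRing R := RegLocal.isNoetherianRing_adicCompletion J J.fg_of_isNoetherianRing
  haveI : IsAdicComplete (J.map (algebraMap B R)) R :=
    AdicCompletion.isAdicComplete_self J J.fg_of_isNoetherianRing
  haveI : ∀ n, Module.Finite R (M n) := fun n => Module.Finite.of_restrictScalars_finite B R (M n)
  haveI : ∀ n, Module.Finite R (N n) := fun n => Module.Finite.of_restrictScalars_finite B R (N n)
  obtain ⟨m, hm⟩ := Adic.exists_ideal_bound_complete (hM.adicR J) (hN.adicR J) (hM.mapR hN α) hα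
    (K.map (algebraMap B R)) (fun n a ha x hx => by
      induction ha using Submodule.span_induction with
      | mem a ha =>
        obtain ⟨b, hb, rfl⟩ := ha
        rw [algebraMap_smul]
        exact hK n b hb x hx
      | zero => exact zero_smul _ _
      | add a a' _ _ h h' => rw [add_smul, h, h', add_zero]
      | smul c a _ h => rw [smul_eq_mul, mul_smul, h, smul_zero])
  refine ⟨m, fun p hp => ?_⟩
  obtain ⟨d, hd⟩ := hm p hp
  refine ⟨d, fun n k h x hxK hx => hd n k h x ?_ hx⟩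
  rw [← Ideal.map_pow, mem_map_smul_iff, Submodule.restrictScalars_top]
  exact hxK

end Completion

end Groth.Agent.FormalSys
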