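import Groth.Agent.FormalSysLib.Right
import Groth.Agent.PullbackMod.Props

/-!
# Torsion systems, maps with torsion source or target, pullbacks
-/

set_option autoImplicit false

universe u

open CategoryTheory CategoryTheory.Limits AlgebraicGeometry TopologicalSpace Opposite
open Groth.Agent.CohBase Groth.Agent.ProjCoh Groth.Agent.QCohLib

noncomputable section

namespace Groth.Agent.FormalSys

variable {A : Type u} [CommRing A] {X : Scheme.{u}} [X.Over (Spec (CommRingCat.of A))]
  [AlgebraicGeometry.IsNoetherian X] {I : Ideal A}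

theorem JU_pow_smul_eq_bot {M : X.Modules} {c : ℕ} (hc : Formal.KilledBy (I ^ c) M) {U : X.Opens}
    (hU : IsAffineOpen U) : JU I U ^ c • (⊤ : Submodule Γ(X, U) Γ(M, U)) = ⊥ := by
  rw [← JU_pow, eq_bot_iff, Submodule.smul_le]
  intro r hr s _
  rw [Submodule.mem_bot]
  induction hr using Submodule.span_induction with
  | mem r hr => obtain ⟨a, ha, rfl⟩ := hr; exact (killedBy_iff _ _).1 hc U hU a ha s
  | zero => rw [zero_smul]
  | add r r' _ _ h h' => rw [add_smul, h, h', add_zero]
  | smul b r _ h => rw [smul_eq_mul, mul_smul, h, smul_zero]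

/-- A formal module killed by a fixed power of the ideal is a completion. -/
theorem exists_algebraization_of_killed {F : ℕᵒᵖ ⥤ X.Modules} (hF : Formal.IsCohFormal I F) (c : ℕ)
    (hc : ∀ n : ℕ, Formal.KilledBy (I ^ c) (F.obj (op n))) :
    ∃ M : X.Modules, Coh.IsCoh M ∧ Nonempty (Formal.completion I M ≅ F) := by
  have hiso : ∀ (n : ℕ) (h : c ≤ n), IsIso (tr F h) := fun n h => FormalLib.isIso_of_affine _ fun U hU => by
    obtain ⟨hs, hk⟩ := app_tr hF h hU
    refine ⟨(injective_iff_map_eq_zero _).2 fun s hs0 => ?_, hs⟩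
    have hs1 : s ∈ LinearMap.ker (appLinear (tr F h) U) := hs0
    rw [hk] at hs1
    have := Submodule.smul_mono (Ideal.pow_le_pow_right (Nat.le_succ c)) le_rfl hs1
    rwa [JU_pow_smul_eq_bot (hc n) hU] at this
  let τ : ∀ n, F.obj (op c) ⟶ F.obj (op n) := fun n =>
    haveI := hiso (max n c) (le_max_right n c)
    inv (tr F (le_max_right n c)) ≫ tr F (le_max_left n c)
  have hτ : ∀ {n k : ℕ} (hc' : c ≤ k) (h : n ≤ k), tr F hc' ≫ τ n = tr F h := fun {n k} hc' h => by
    haveI := hiso (max n c) (le_max_right n c)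
    rw [show tr F hc' = tr F (max_le h hc') ≫ tr F (le_max_right n c) from (tr_comp F _ _).symm, Category.assoc]
    simp only [τ, IsIso.hom_inv_id_assoc]
    exact tr_comp F _ _
  obtain ⟨β, -⟩ := exists_iso_completion (hF.1 c) τ (fun {n n'} h => by
    haveI := epi_tr hF (le_max_right n' c)
    rw [← cancel_epi (tr F (le_max_right n' c)), ← Category.assoc, hτ _ (le_max_left n' c), tr_comp,
      hτ _ (h.trans (le_max_left n' c))]) fun n U hU => by
    have e : ∀ y, (τ n).app U ((tr F (le_max_right n c)).app U y) = (tr F (le_max_left n c)).app U y := fun y =>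
      congr($(hτ (le_max_right n c) (le_max_left n c)).app U y)
    obtain ⟨hs, hk⟩ := app_tr hF (le_max_left n c) hU
    obtain ⟨hs', -⟩ := app_tr hF (le_max_right n c) hU
    refine ⟨fun s => ?_, le_antisymm (fun x hx => ?_) ?_⟩
    · obtain ⟨y, rfl⟩ := hs s
      exact ⟨_, e y⟩
    · obtain ⟨y, rfl⟩ := hs' x
      have hy : y ∈ LinearMap.ker (appLinear (tr F (le_max_left n c)) U) := (e y).symm.trans hx
      rw [hk] at hy
      have := Submodule.mem_map_of_mem (f := appLinear (tr F (le_max_right n c)) U) hy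
      rw [Submodule.map_smul''] at this
      rw [JU_pow I]
      exact Submodule.smul_mono le_rfl le_top this
    · rw [LinearMap.le_ker_iff_map, Submodule.map_smul'', JU_pow I, eq_bot_iff, ← smul_top_eq_bot hF n hU]
      exact Submodule.smul_mono le_rfl le_top
  exact ⟨_, hF.1 c, ⟨β⟩⟩

/-- Maps between completions, one of which is torsion, come from a unique map. -/
theorem existsUnique_of_torsion {F G : X.Modules} (hF : Coh.IsCoh F) (hG : Coh.IsCoh G) (c : ℕ)
    (hc : Formal.KilledBy (I ^ c) F ∨ Formal.KilledBy (I ^ c) G)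
    {GS : ℕᵒᵖ ⥤ X.Modules} (hGS : Formal.IsCohFormal I GS) (πG : ∀ n, G ⟶ GS.obj (op n))
    (hπG : ∀ {n k : ℕ} (h : n ≤ k), πG k ≫ tr GS h = πG n)
    (hπGs : ∀ (n : ℕ) {U : X.Opens}, IsAffineOpen U → Function.Surjective ((πG n).app U) ∧
      LinearMap.ker (appLinear (πG n) U) = JU I U ^ (n + 1) • ⊤)
    (f : ∀ n, F ⟶ GS.obj (op n)) (hf : ∀ {n k : ℕ} (h : n ≤ k), f k ≫ tr GS h = f n) :
    ∃! φ : F ⟶ G, ∀ n, f n = φ ≫ πG n := by
  classical
  by_cases hGc : Formal.KilledBy (I ^ c) G
  · have hiso : ∀ n, c ≤ n → IsIso (πG n) := fun n h => FormalLib.isIso_of_affine _ fun U hU => by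
      refine ⟨(injective_iff_map_eq_zero _).2 fun s hs0 => ?_, (hπGs n hU).1⟩
      have hs1 : s ∈ LinearMap.ker (appLinear (πG n) U) := hs0
      rw [(hπGs n hU).2] at hs1
      have := Submodule.smul_mono (Ideal.pow_le_pow_right (h.trans (Nat.le_succ n))) le_rfl hs1
      rwa [JU_pow_smul_eq_bot hGc hU] at this
    haveI := hiso c le_rfl
    refine ⟨f c ≫ inv (πG c), fun n => ?_, fun φ hφ => ?_⟩
    · rcases le_total n c with h | h
      · rw [← hπG h, ← Category.assoc, Category.assoc (f c), IsIso.inv_hom_id, Category.comp_id, hf]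
      · haveI := hiso n h
        have e : f c ≫ inv (πG c) = f n ≫ inv (πG n) := by
          rw [IsIso.comp_inv_eq, Category.assoc]
          refine (hf h).symm.trans (congrArg (f n ≫ ·) ?_)
          rw [IsIso.eq_inv_comp, hπG]
        rw [e, Category.assoc, IsIso.inv_hom_id, Category.comp_id]
    · rw [IsIso.eq_comp_inv]; exact (hφ c).symm
  have hFc : Formal.KilledBy (I ^ c) F := hc.resolve_right hGc
  obtain ⟨ι, _, V, hV, -, hcov⟩ := exists_finite_affine_cover (X := X) (V := ⊤) isCompact_univ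
  obtain ⟨L, hLJ, hL⟩ := exists_gens (X := X) (I ^ c)
  let a : Fin L.card → A := fun i => (L.equivFin.symm i : A)
  obtain ⟨R, hR⟩ := exists_power G hG L.card
  obtain ⟨θ, hθ⟩ := R.lift (fun l => Formal.smulMod A G (a l))
  have hK := (isCoh_kernel_cokernel θ hG hR).1
  have hθ0 : ∀ {U : X.Opens}, IsAffineOpen U → ∀ g : Γ(G, U), θ.app U g = 0 ↔
      ∀ r ∈ JU (I ^ c) U, r • g = 0 := fun {U} hU g => by
    refine ⟨fun h r hr => ?_, fun h => R.ext fun l => ?_⟩
    · have hr' := hL U hU hr
      clear hr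
      induction hr' using Submodule.span_induction with
      | mem r hr' =>
        obtain ⟨x, hx, rfl⟩ := hr'
        have h2 := congrArg ((R.pr (L.equivFin ⟨x, hx⟩)).app U) h
        rw [← app_comp_apply, hθ, map_zero] at h2
        have h3 : φV (FormalLib.cst A X) U (a (L.equivFin ⟨x, hx⟩)) • g = 0 := h2
        simpa [a] using h3
      | zero => rw [zero_smul]
      | add r r' _ _ hh hh' => rw [add_smul, hh, hh', add_zero]
      | smul b r _ hh => rw [smul_eq_mul, mul_smul, hh, smul_zero]
    · rw [← app_comp_apply, hθ, map_zero]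
      exact h _ (Ideal.mem_map_of_mem _ (hLJ (L.equivFin.symm l).2))
  have hFk : ∀ {U : X.Opens}, IsAffineOpen U → ∀ (x : Γ(F, U)), ∀ r ∈ JU (I ^ c) U, r • x = 0 := fun {U} hU x r hr => by
    have : r • x ∈ JU I U ^ c • (⊤ : Submodule Γ(X, U) Γ(F, U)) := by
      rw [← JU_pow]; exact Submodule.smul_mem_smul hr trivial
    rwa [JU_pow_smul_eq_bot hFc hU] at this
  have hAR : ∀ i, ∃ d : ℕ,
      (∀ (n : ℕ) (v : Γ(G, V i)), θ.app (V i) v ∈ JU I (V i) ^ n • (⊤ : Submodule Γ(X, V i) Γ(R.obj, V i)) →
        v ∈ LinearMap.ker (appLinear θ (V i)) ⊔ JU I (V i) ^ (n - d) • ⊤) ∧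
      ∀ (n : ℕ) (v : Γ(G, V i)), θ.app (V i) v = 0 → v ∈ JU I (V i) ^ n • (⊤ : Submodule Γ(X, V i) Γ(G, V i)) →
        c + d ≤ n → v = 0 := by
    intro i
    haveI := isNoetherianRing_section (hV i)
    haveI := finite_sections_of_isCoh hR (hV i)
    haveI := finite_sections_of_isCoh hG (hV i)
    obtain ⟨d1, h1⟩ := exists_comap_le (JU I (V i)) (appLinear θ (V i))
    obtain ⟨d2, h2⟩ := exists_comap_le (JU I (V i)) (appLinear (kernel.ι θ) (V i))
    refine ⟨max d1 d2, fun n w hw => ?_, fun n v hv hvn hn => ?_⟩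
    · obtain ⟨p, hp, q, hq, rfl⟩ := Submodule.mem_sup.1 (h1 n w hw)
      exact add_mem (Submodule.mem_sup_left hp) (Submodule.mem_sup_right (Submodule.smul_mono (Ideal.pow_le_pow_right
        (Nat.sub_le_sub_left (le_max_left d1 d2) n)) le_rfl hq))
    · obtain ⟨z, rfl⟩ := kernel_app_exact θ (V i) v hv
      have h := h2 n z hvn
      rw [LinearMap.ker_eq_bot.2 (show Function.Injective (appLinear (kernel.ι θ) (V i)) from
        app_injective_of_mono (kernel.ι θ) (V i)), bot_sup_eq] at h
      replace h := Submodule.smul_mono (Ideal.pow_le_pow_right (show c ≤ n - d2 by omega)) le_rfl h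
      rw [JU_pow_smul_eq_bot (show Formal.KilledBy (I ^ c) (kernel θ) from (killedBy_iff _ _).2 fun U hU r hr s =>
        app_injective_of_mono (kernel.ι θ) U (by
          rw [smul_app_natural, map_zero]
          exact (hθ0 hU _).1 congr($(kernel.condition θ).app U s) _ (Ideal.mem_map_of_mem _ hr))) (hV i)] at h
      rw [show z = 0 from h, map_zero]
  choose dd hd1 hd2 using hAR
  haveI := Fintype.ofFinite ι
  set d := Finset.univ.sup dd
  have hdle : ∀ i, dd i ≤ d := fun i => Finset.le_sup (Finset.mem_univ i)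
  have hKtor : ∀ i (x : Γ(F, V i)) (n : ℕ), ∃ v : Γ(G, V i), θ.app (V i) v = 0 ∧
      (πG n).app (V i) v = (f n).app (V i) x := fun i x n => by
    obtain ⟨g, hg⟩ := (hπGs (n + d) (hV i)).1 ((f (n + d)).app (V i) x)
    have hθg : θ.app (V i) g ∈ JU I (V i) ^ (n + d + 1) • (⊤ : Submodule Γ(X, V i) Γ(R.obj, V i)) := by
      refine R.mem_smul_top _ _ fun l => ?_
      rw [← app_comp_apply, hθ, ← (hπGs (n + d) (hV i)).2, LinearMap.mem_ker]
      show (πG (n + d)).app (V i) (φV (FormalLib.cst A X) (V i) (a l) • g) = 0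
      rw [smul_app_natural, hg, ← smul_app_natural,
        hFk (hV i) x _ (Ideal.mem_map_of_mem _ (hLJ (L.equivFin.symm l).2)), map_zero]
    obtain ⟨v, hv, e, he, rfl⟩ := Submodule.mem_sup.1 (hd1 i (n + d + 1) g hθg)
    refine ⟨v, hv, ?_⟩
    have he' : e ∈ LinearMap.ker (appLinear (πG n) (V i)) := by
      rw [(hπGs n (hV i)).2]
      exact Submodule.smul_mono (Ideal.pow_le_pow_right (by have := hdle i; omega)) le_rfl he
    rw [← hf (show n ≤ n + d by omega), app_comp_apply, ← hg, ← app_comp_apply, hπG, map_add]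
    rw [show (πG n).app (V i) e = 0 from he', add_zero]
  have hzero : ∀ i (v : Γ(G, V i)), θ.app (V i) v = 0 → (πG (c + d)).app (V i) v = 0 → v = 0 := fun i v hv h => by
    have h' : v ∈ LinearMap.ker (appLinear (πG (c + d)) (V i)) := h
    rw [(hπGs (c + d) (hV i)).2] at h'
    exact hd2 i _ v hv h' (by have := hdle i; omega)
  set m := c + d
  obtain ⟨T, hT1, hT2⟩ : ∃ (T : F ⟶ G), (∀ i x, θ.app (V i) (T.app (V i) x) = 0) ∧
      (∀ i x, (πG m).app (V i) (T.app (V i) x) = (f m).app (V i) x) := by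
    haveI : Coh.IsQCoh F := hF.1
    obtain ⟨K, hKc⟩ := exists_fork θ (0 : F ⟶ R.obj) hG hF hR
    let q : K.obj ⟶ GS.obj (op m) := K.fst ≫ πG m - K.snd ≫ f m
    let s : kernel q ⟶ F := kernel.ι q ≫ K.snd
    have hb : ∀ i, Function.Bijective (s.app (V i)) := fun i => by
      refine ⟨(injective_iff_map_eq_zero _).2 fun z hz => app_injective_of_mono (kernel.ι q) (V i) ?_, fun x => ?_⟩
      · rw [map_zero]
        set w := (kernel.ι q).app (V i) z
        have h2 : K.snd.app (V i) w = 0 := hz
        refine K.ext ?_ (by rw [h2, map_zero])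
        rw [map_zero]
        refine hzero i _ ?_ ?_
        · rw [← app_comp_apply, K.cond, app_comp_apply, h2, map_zero]
        · have h3 : (πG m).app (V i) (K.fst.app (V i) w) - (f m).app (V i) (K.snd.app (V i) w) = 0 :=
            congr($(kernel.condition q).app (V i) z)
          rw [h2, map_zero, sub_zero] at h3
          exact h3
      · obtain ⟨v, hv, hv'⟩ := hKtor i x m
        obtain ⟨w, hw1, hw2⟩ := K.mem v x (by rw [hv]; rfl)
        obtain ⟨z, hz⟩ := kernel_app_exact q (V i) w (by
          show (πG m).app (V i) (K.fst.app (V i) w) - (f m).app (V i) (K.snd.app (V i) w) = 0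
          rw [hw1, hw2, hv', sub_self])
        exact ⟨z, by rw [app_comp_apply, hz, hw2]⟩
    haveI : Epi s := epi_of_cover s V hV hcov fun i => (hb i).2
    haveI := (isCoh_kernel_cokernel s (isCoh_kernel_cokernel q hKc (hGS.1 m)).1 hF).1.1
    obtain ⟨T, hT⟩ := exists_desc_of_epi s (kernel.ι q ≫ K.fst) (hom_zero_of_cover _ V hV hcov fun i z => by
      have hw : (kernel.ι s).app (V i) z = 0 :=
        (hb i).1 ((congr($(kernel.condition s).app (V i) z)).trans (map_zero _).symm)
      rw [app_comp_apply, hw, map_zero])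
    refine ⟨T, fun i x => ?_, fun i x => ?_⟩
    all_goals
      obtain ⟨z, rfl⟩ := (hb i).2 x
      rw [← app_comp_apply s T, hT, app_comp_apply]
    · rw [← app_comp_apply, K.cond, comp_zero]; rfl
    · refine sub_eq_zero.1 ?_
      exact congr($(kernel.condition q).app (V i) z)
  refine ⟨T, fun n => ?_, fun φ hφ => ?_⟩
  · haveI := hF.1
    refine hom_ext_cover V hV hcov fun i x => ?_
    obtain ⟨v, hv, hv'⟩ := hKtor i x (max n m)
    have hvT : T.app (V i) x = v := sub_eq_zero.1 (hzero i _ (by rw [map_sub, hT1, hv, sub_zero]) (by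
      rw [map_sub, hT2, ← hπG (le_max_right n m), app_comp_apply, hv', ← app_comp_apply, hf, sub_self]))
    rw [app_comp_apply, hvT, ← hπG (le_max_left n m), app_comp_apply, hv', ← app_comp_apply, hf]
  · haveI := hF.1
    refine hom_ext_cover V hV hcov fun i x => sub_eq_zero.1 (hzero i _ ?_ ?_)
    · rw [map_sub, hT1, sub_zero]
      exact (hθ0 (hV i) _).2 fun r hr => by rw [← Scheme.Modules.Hom.app_smul, hFk (hV i) x r hr, map_zero]
    · rw [map_sub, hT2, ← app_comp_apply, ← hφ, sub_self]

/-- Pullback commutes with multiplication by constants. -/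
theorem pullback_smulMod {Y : Scheme.{u}} [Y.Over (Spec (CommRingCat.of A))] (f : X ⟶ Y)
    (w : f ≫ Y ↘ Spec (CommRingCat.of A) = X ↘ Spec (CommRingCat.of A)) (M : Y.Modules) (a : A) :
    (Scheme.Modules.pullback f).map (Formal.smulMod A M a) =
      Formal.smulMod A ((Scheme.Modules.pullback f).obj M) a := by
  refine ((Scheme.Modules.pullbackPushforwardAdjunction f).homEquiv _ _).injective ?_
  rw [Adjunction.homEquiv_unit, Adjunction.homEquiv_unit, FormalLib.push_smulMod f w]
  exact ((Scheme.Modules.pullbackPushforwardAdjunction f).unit.naturality (Formal.smulMod A M a)).symm.trans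
    (FormalLib.smulMod_natural _ a)

omit [AlgebraicGeometry.IsNoetherian X] in
/-- The components of a map killed by the family of multiplications. -/
theorem smulMod_comp_eq_zero {J : Ideal A} {M T : X.Modules} {t : M ⟶ T} (h : Formal.smulFamily J M ≫ t = 0) (a : ↥J) :
    Formal.smulMod A M a ≫ t = 0 := by
  rw [show Formal.smulMod A M a = Sigma.ι (fun _ : ↥J => M) a ≫ Formal.smulFamily J M by
    simp [Formal.smulFamily], Category.assoc, h, comp_zero]

/-- Pullbacks of coherent formal modules. -/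
theorem isCohFormal_pullback {Y : Scheme.{u}} [Y.Over (Spec (CommRingCat.of A))] [AlgebraicGeometry.IsNoetherian Y]
    (f : X ⟶ Y) (w : f ≫ Y ↘ Spec (CommRingCat.of A) = X ↘ Spec (CommRingCat.of A))
    {G : ℕᵒᵖ ⥤ Y.Modules} (hG : Formal.IsCohFormal I G) :
    Formal.IsCohFormal I (G ⋙ Scheme.Modules.pullback f) := by
  let adj := Scheme.Modules.pullbackPushforwardAdjunction f
  refine ⟨fun n => PullbackMod.isCoh_pullback f _ (hG.1 n), fun n a ha => ?_, fun n => ?_⟩
  · show Formal.smulMod A ((Scheme.Modules.pullback f).obj (G.obj (op n))) a = 0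
    rw [← pullback_smulMod f w, hG.2.1 n a ha]
    exact Functor.map_zero _ _ _
  · obtain ⟨h, hiso⟩ := hG.2.2 n
    set J := I ^ (n + 1)
    let g := G.map (homOfLE (Nat.le_succ n)).op
    have hga : ∀ a : ↥J, Formal.smulMod A (G.obj (op (n + 1))) a ≫ g = 0 := smulMod_comp_eq_zero h
    have h' : Formal.smulFamily J ((Scheme.Modules.pullback f).obj (G.obj (op (n + 1)))) ≫
        (Scheme.Modules.pullback f).map g = 0 := by
      refine Sigma.hom_ext _ _ fun a => ?_
      rw [comp_zero, ← Category.assoc, Formal.smulFamily, Sigma.ι_desc, ← pullback_smulMod f w, ← Functor.map_comp,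
        hga, Functor.map_zero]
    have hfac : ∀ (T : X.Modules) (t : (Scheme.Modules.pullback f).obj (G.obj (op (n + 1))) ⟶ T),
        (∀ a : ↥J, Formal.smulMod A _ a ≫ t = 0) → ∃ l, (Scheme.Modules.pullback f).map g ≫ l = t := by
      intro T t ht
      have h2 : Formal.smulFamily J (G.obj (op (n + 1))) ≫ adj.homEquiv _ _ t = 0 := by
        refine Sigma.hom_ext _ _ fun a => ?_
        rw [comp_zero, ← Category.assoc, Formal.smulFamily, Sigma.ι_desc, ← adj.homEquiv_naturality_left]
        rw [show (Scheme.Modules.pullback f).map (Formal.smulMod A (G.obj (op (n + 1))) (a : A)) ≫ t = 0 from by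
          rw [pullback_smulMod f w]; exact ht a]
        rw [Adjunction.homEquiv_unit, Functor.map_zero, comp_zero]
      let l0 : G.obj (op n) ⟶ (Scheme.Modules.pushforward f).obj T :=
        @inv _ _ _ _ (cokernel.desc _ g h) hiso ≫ cokernel.desc _ _ h2
      have hl0 : g ≫ l0 = adj.homEquiv _ _ t := by
        have e : g = cokernel.π (Formal.smulFamily J (G.obj (op (n + 1)))) ≫ cokernel.desc _ g h :=
          (cokernel.π_desc _ _ _).symm
        simp only [l0]
        conv_lhs => arg 1; rw [e]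
        rw [Category.assoc, IsIso.hom_inv_id_assoc, cokernel.π_desc]
      refine ⟨(adj.homEquiv _ _).symm l0, ?_⟩
      rw [← adj.homEquiv_naturality_left_symm, hl0, Equiv.symm_apply_apply]
    haveI : IsIso (cokernel.desc _ g h) := hiso
    haveI : Epi g := by
      rw [show g = cokernel.π (Formal.smulFamily J (G.obj (op (n + 1)))) ≫ cokernel.desc _ g h from
        (cokernel.π_desc _ _ _).symm]
      have : Epi (cokernel.desc _ g h) := @IsIso.epi_of_iso _ _ _ _ _ (hiso :)
      exact epi_comp' coequalizer.π_epi this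
    haveI : PreservesColimitsOfSize.{0, 0} (Scheme.Modules.pullback f) := adj.leftAdjoint_preservesColimits
    haveI : Epi ((Scheme.Modules.pullback f).map g) := Functor.map_epi _ g
    obtain ⟨l, hl⟩ := hfac _ (cokernel.π (Formal.smulFamily J ((Scheme.Modules.pullback f).obj (G.obj (op (n + 1))))))
      (smulMod_comp_eq_zero (cokernel.condition _))
    refine ⟨h', ⟨l, coequalizer.hom_ext ?_, ?_⟩⟩
    · show cokernel.π _ ≫ cokernel.desc _ _ h' ≫ l = cokernel.π _ ≫ 𝟙 _
      rw [cokernel.π_desc_assoc, hl, Category.comp_id]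
    · refine (cancel_epi ((Scheme.Modules.pullback f).map g)).1 ?_
      exact (Category.assoc _ _ _).symm.trans ((congrArg (· ≫ cokernel.desc _ _ h') hl).trans
        ((cokernel.π_desc _ _ _).trans (Category.comp_id _).symm))

end Groth.Agent.FormalSys
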