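import Groth.Agent.FormalSysLib.Power
import Groth.Agent.FormalSysLib.Small
import Groth.Agent.FormalSysLib.IdealQuot
import Groth.Agent.FormalSysLib.Limit

/-!
# Tools for adic systems of coherent modules
-/

set_option autoImplicit false
set_option linter.unusedSectionVars false
set_option linter.style.haveILetI false

universe u

open CategoryTheory CategoryTheory.Limits AlgebraicGeometry TopologicalSpace Opposite
open Groth.Agent.CohBase Groth.Agent.ProjCoh Groth.Agent.QCohLib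

noncomputable section

namespace Groth.Agent.FormalSys

section General

variable {X : Scheme.{u}}

/-- Descent along a map surjective on affine opens. -/
theorem exists_desc_affine {M N P : X.Modules} (e : M ⟶ N) (g : M ⟶ P)
    (he : ∀ U : X.Opens, IsAffineOpen U → Function.Surjective (e.app U))
    (h : ∀ U : X.Opens, IsAffineOpen U → ∀ s, e.app U s = 0 → g.app U s = 0) : ∃ l : N ⟶ P, e ≫ l = g := by
  haveI := epi_of_affine e he
  refine exists_desc_of_epi e g (hom_ext_affine fun U hU s => ?_)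
  exact h U hU _ congr($(kernel.condition e).app U s)

/-- Vanishing on a kernel may be checked on an affine cover. -/
theorem vanish_of_cover {M N P : X.Modules} (f : M ⟶ N) (g : M ⟶ P) (hM : Coh.IsQCoh M) (hN : Coh.IsQCoh N)
    {ι : Type u} (V : ι → X.Opens) (hV : ∀ i, IsAffineOpen (V i)) (hcov : ⊤ ≤ iSup V)
    (h : ∀ i (s : Γ(M, V i)), f.app (V i) s = 0 → g.app (V i) s = 0) {U : X.Opens} (s : Γ(M, U))
    (hs : f.app U s = 0) : g.app U s = 0 := by
  haveI : Coh.IsQCoh (kernel f) := (QCohLib.isQCoh_image f hM hN).1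
  have h0 : kernel.ι f ≫ g = 0 := hom_zero_of_cover _ V hV hcov fun i t =>
    h i _ congr($(kernel.condition f).app (V i) t)
  obtain ⟨t, rfl⟩ := kernel_app_exact f U s hs
  exact congr($(h0).app U t)

/-- Vanishing on an intersection of two kernels may be checked on an affine cover. -/
theorem vanish_of_cover₂ {M N N' P : X.Modules} (f : M ⟶ N) (f' : M ⟶ N') (g : M ⟶ P) (hM : Coh.IsQCoh M)
    (hN : Coh.IsQCoh N) (hN' : Coh.IsQCoh N') {ι : Type u} (V : ι → X.Opens) (hV : ∀ i, IsAffineOpen (V i))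
    (hcov : ⊤ ≤ iSup V) (h : ∀ i (s : Γ(M, V i)), f.app (V i) s = 0 → f'.app (V i) s = 0 → g.app (V i) s = 0)
    {U : X.Opens} (s : Γ(M, U)) (hs : f.app U s = 0) (hs' : f'.app U s = 0) : g.app U s = 0 := by
  obtain ⟨t, rfl⟩ := kernel_app_exact f U s hs
  haveI : Coh.IsQCoh (kernel f) := (QCohLib.isQCoh_image f hM hN).1
  exact vanish_of_cover (kernel.ι f ≫ f') (kernel.ι f ≫ g) inferInstance hN' V hV hcov
    (fun i z hz => h i _ congr($(kernel.condition f).app (V i) z) hz) t hs'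

theorem surjective_of_cover [AlgebraicGeometry.IsNoetherian X] {M N : X.Modules} (f : M ⟶ N) (hM : Coh.IsQCoh M) (hN : Coh.IsQCoh N)
    {ι : Type u} (V : ι → X.Opens) (hV : ∀ i, IsAffineOpen (V i)) (hcov : ⊤ ≤ iSup V)
    (h : ∀ i, Function.Surjective (f.app (V i))) {U : X.Opens} (hU : IsAffineOpen U) :
    Function.Surjective (f.app U) := by
  haveI := hN
  haveI := epi_of_cover f V hV hcov h
  exact app_surjective_of_epi f hM hN hU

theorem smul_mem_kernel_app {K : X.IdealSheafData} {M N : X.Modules} {f : M ⟶ N}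
    (hk : ClSub.KilledByIdeal K (kernel f)) (U : X.affineOpens) {a : Γ(X, U.1)} (ha : a ∈ K.ideal U)
    (s : Γ(M, U.1)) (hs : f.app U.1 s = 0) : a • s = 0 := by
  obtain ⟨t, rfl⟩ := kernel_app_exact f U.1 s hs
  refine (Scheme.Modules.Hom.app_smul _ a t).symm.trans ?_
  exact (congrArg _ (hk U a ha t)).trans (map_zero _)

theorem killed_of_surjective {K : X.IdealSheafData} {M N : X.Modules} (f : M ⟶ N)
    (hf : ∀ U : X.Opens, IsAffineOpen U → Function.Surjective (f.app U)) (hM : ClSub.KilledByIdeal K M) :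
    ClSub.KilledByIdeal K N := fun U a ha s => by
  obtain ⟨t, rfl⟩ := hf U.1 U.2 s
  refine (Scheme.Modules.Hom.app_smul _ a t).symm.trans ?_
  exact (congrArg _ (hM U a ha t)).trans (map_zero _)

theorem map_smul_top {M N : X.Modules} (f : M ⟶ N) {U : X.Opens} (hf : Function.Surjective (f.app U))
    (J : Ideal Γ(X, U)) :
    (J • (⊤ : Submodule Γ(X, U) Γ(M, U))).map (appLinear f U) = J • ⊤ := by
  rw [Submodule.map_smul'', Submodule.map_top, LinearMap.range_eq_top.2 (show Function.Surjective (appLinear f U) from hf)]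

theorem app_mem_smul {M N : X.Modules} (f : M ⟶ N) {U : X.Opens} {J : Ideal Γ(X, U)} {s : Γ(M, U)}
    (hs : s ∈ J • (⊤ : Submodule Γ(X, U) Γ(M, U))) : f.app U s ∈ J • (⊤ : Submodule Γ(X, U) Γ(N, U)) := by
  have h := Submodule.mem_map_of_mem (f := appLinear f U) hs
  rw [Submodule.map_smul''] at h
  exact Submodule.smul_mono le_rfl le_top h

end General

variable {A : Type u} [CommRing A] {X : Scheme.{u}} [X.Over (Spec (CommRingCat.of A))]
  [AlgebraicGeometry.IsNoetherian X] {I : Ideal A}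

/-- The sections of a coherent formal module. -/
theorem adic_sections {F : ℕᵒᵖ ⥤ X.Modules} (hF : Formal.IsCohFormal I F) {U : X.Opens} (hU : IsAffineOpen U) :
    Adic (JU I U) (fun n => Γ(F.obj (op n), U)) (fun {_ _} h => appLinear (tr F h) U) where
  surj h := (app_tr hF h hU).1
  ker_eq h := (app_tr hF h hU).2
  refl m x := by
    show (tr F (le_refl m)).app U x = x
    rw [tr_refl]
    rfl
  trans h h' x := congr($(tr_comp F h h').app U x)

/-- A system with the right transition maps is a coherent formal module. -/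
theorem isCohFormal_of_succ {Q : ℕᵒᵖ ⥤ X.Modules} (hQ : ∀ n, Coh.IsCoh (Q.obj (op n)))
    (h : ∀ (n : ℕ) (U : X.Opens), IsAffineOpen U → Function.Surjective ((tr Q (Nat.le_succ n)).app U) ∧
      LinearMap.ker (appLinear (tr Q (Nat.le_succ n)) U) = JU I U ^ (n + 1) • ⊤) :
    Formal.IsCohFormal I Q := by
  refine ⟨hQ, fun n => (killedBy_iff _ _).2 fun U hU a ha s => ?_, fun n =>
    exists_isIso_desc (hQ _).1 (tr Q (Nat.le_succ n)) fun U hU => ?_⟩
  · obtain ⟨hs, hk⟩ := h n U hU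
    obtain ⟨t, rfl⟩ := hs s
    have : φV (FormalLib.cst A X) U a • t ∈ LinearMap.ker (appLinear (tr Q (Nat.le_succ n)) U) := by
      rw [hk, ← JU_pow]
      exact Submodule.smul_mem_smul (Ideal.mem_map_of_mem _ ha) trivial
    exact (Scheme.Modules.Hom.app_smul _ _ _).symm.trans this
  · rw [JU_pow]; exact h n U hU

/-- A levelwise quotient of a coherent formal module, with kernels surjecting, is one. -/
theorem isCohFormal_quot {G Q : ℕᵒᵖ ⥤ X.Modules} (hG : Formal.IsCohFormal I G) (hQ : ∀ n, Coh.IsCoh (Q.obj (op n)))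
    (p : G ⟶ Q) (hp : ∀ (n : ℕ) (U : X.Opens), IsAffineOpen U → Function.Surjective ((p.app (op n)).app U))
    (hl : ∀ (n : ℕ) (U : X.Opens), IsAffineOpen U → ∀ s : Γ(G.obj (op n), U), (p.app (op n)).app U s = 0 →
      ∃ t, (p.app (op (n + 1))).app U t = 0 ∧ (tr G (Nat.le_succ n)).app U t = s) :
    Formal.IsCohFormal I Q := by
  refine isCohFormal_of_succ hQ fun n U hU => ?_
  obtain ⟨hs, hk⟩ := app_tr hG (Nat.le_succ n) hU
  have e : ∀ s, (tr Q (Nat.le_succ n)).app U ((p.app (op (n + 1))).app U s) =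
      (p.app (op n)).app U ((tr G (Nat.le_succ n)).app U s) := fun s =>
    congr($((p.naturality (homOfLE (Nat.le_succ n)).op).symm).app U s)
  refine ⟨fun y => ?_, le_antisymm (fun y hy => ?_) ?_⟩
  · obtain ⟨x, rfl⟩ := hp n U hU y
    obtain ⟨z, rfl⟩ := hs x
    exact ⟨_, e z⟩
  · obtain ⟨x, rfl⟩ := hp (n + 1) U hU y
    obtain ⟨t, ht0, ht⟩ := hl n U hU _ ((e x).symm.trans hy)
    have h1 : x - t ∈ LinearMap.ker (appLinear (tr G (Nat.le_succ n)) U) := by
      rw [LinearMap.mem_ker, map_sub, sub_eq_zero]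
      exact ht.symm
    rw [hk] at h1
    have h2 := app_mem_smul (p.app (op (n + 1))) h1
    rwa [map_sub, ht0, sub_zero] at h2
  · rw [← map_smul_top (p.app (op (n + 1))) (hp _ U hU)]
    rintro _ ⟨x, hx, rfl⟩
    rw [SetLike.mem_coe, ← hk, LinearMap.mem_ker] at hx
    refine (e x).trans ?_
    rw [show (tr G (Nat.le_succ n)).app U x = 0 from hx, map_zero]

/-- Maps to modules killed by `I ^ (n + 1)` descend along transition maps. -/
theorem exists_desc_tr {H : ℕᵒᵖ ⥤ X.Modules} (hH : Formal.IsCohFormal I H) {n k : ℕ} (h : n ≤ k) {T : X.Modules}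
    (hT : Formal.KilledBy (I ^ (n + 1)) T) (g : H.obj (op k) ⟶ T) : ∃ l, tr H h ≫ l = g :=
  exists_desc_affine _ g (fun _ hU => (app_tr hH h hU).1) fun U hU s hs => by
    have h1 : s ∈ LinearMap.ker (appLinear (tr H h) U) := hs
    rw [(app_tr hH h hU).2] at h1
    have h2 := app_mem_smul g h1
    rwa [JU_pow_smul_eq_bot hT hU, Submodule.mem_bot] at h2

/-- A map of systems from its components. -/
theorem exists_natTrans {F G : ℕᵒᵖ ⥤ X.Modules} (f : ∀ n, F.obj (op n) ⟶ G.obj (op n))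
    (h : ∀ {n k : ℕ} (hnk : n ≤ k), tr F hnk ≫ f n = f k ≫ tr G hnk) :
    ∃ α : F ⟶ G, ∀ n, α.app (op n) = f n :=
  ⟨{ app := fun n => f n.unop
     naturality := fun {i j} e => by
      obtain ⟨k, rfl⟩ : ∃ k, i = op k := ⟨i.unop, rfl⟩
      obtain ⟨n, rfl⟩ : ∃ n, j = op n := ⟨j.unop, rfl⟩
      have hle : n ≤ k := leOfHom e.unop
      obtain rfl : e = (homOfLE hle).op := Subsingleton.elim _ _
      exact h hle }, fun _ => rfl⟩

/-- The transition maps of a sequence. -/
lemma tr_ofOpSequence_succ {T : ℕ → X.Modules} (f : ∀ n, T (n + 1) ⟶ T n) (n : ℕ) :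
    tr (Functor.ofOpSequence f) (Nat.le_succ n) = f n :=
  Functor.ofOpSequence_map_homOfLE_succ _ n

/-- The map induced on `M / I ^ n M`. -/
theorem exists_cmap {M N : X.Modules} (hM : Coh.IsCoh M) (hN : Coh.IsCoh N) (φ : M ⟶ N) (n : ℕ) :
    ∃ ψ : Formal.modPow I n M ⟶ Formal.modPow I n N, Formal.modPowπ I n M ≫ ψ = φ ≫ Formal.modPowπ I n N :=
  exists_desc_affine _ _ (fun _ hU => (app_modPowπ hM.1 I n hU).1) fun U hU s hs => by
    have h1 : s ∈ LinearMap.ker (appLinear (Formal.modPowπ I n M) U) := hs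
    rw [(app_modPowπ hM.1 I n hU).2] at h1
    have h2 : φ.app U s ∈ LinearMap.ker (appLinear (Formal.modPowπ I n N) U) := by
      rw [(app_modPowπ hN.1 I n hU).2]
      exact app_mem_smul φ h1
    exact h2

/-- Artin-Rees for a map of coherent modules, uniformly on a finite cover. -/
theorem exists_comap_cover {M N : X.Modules} (hN : Coh.IsCoh N) (f : M ⟶ N) (I : Ideal A) {ι : Type u} [Finite ι]
    (V : ι → X.Opens) (hV : ∀ i, IsAffineOpen (V i)) :
    ∃ c : ℕ, ∀ (i : ι) (n : ℕ) (x : Γ(M, V i)),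
      f.app (V i) x ∈ JU I (V i) ^ n • (⊤ : Submodule Γ(X, V i) Γ(N, V i)) →
      ∃ t, f.app (V i) t = 0 ∧ x - t ∈ JU I (V i) ^ (n - c) • (⊤ : Submodule Γ(X, V i) Γ(M, V i)) := by
  classical
  have h1 : ∀ i, ∃ c : ℕ, ∀ (n : ℕ) (x : Γ(M, V i)),
      f.app (V i) x ∈ JU I (V i) ^ n • (⊤ : Submodule Γ(X, V i) Γ(N, V i)) →
      ∃ t, f.app (V i) t = 0 ∧ x - t ∈ JU I (V i) ^ (n - c) • (⊤ : Submodule Γ(X, V i) Γ(M, V i)) := fun i => by
    haveI := isNoetherianRing_section (hV i)
    haveI := finite_sections_of_isCoh hN (hV i)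
    obtain ⟨c, hc⟩ := exists_comap_le (JU I (V i)) (appLinear f (V i))
    refine ⟨c, fun n x hx => ?_⟩
    obtain ⟨t, ht, y, hy, rfl⟩ := Submodule.mem_sup.1 (hc n x hx)
    exact ⟨t, ht, by rwa [add_sub_cancel_left]⟩
  choose c hc using h1
  haveI := Fintype.ofFinite ι
  refine ⟨Finset.univ.sup c, fun i n x hx => ?_⟩
  obtain ⟨t, ht, hxt⟩ := hc i n x hx
  exact ⟨t, ht, Submodule.smul_mono (Ideal.pow_le_pow_right
    (Nat.sub_le_sub_left (Finset.le_sup (Finset.mem_univ i)) n)) le_rfl hxt⟩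

end Groth.Agent.FormalSys
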