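import Groth.Agent.FormalSysLib.SysSum
import Groth.Agent.FormalSysLib.Sys
import Groth.Agent.AmpleEmb.Serre
import Groth.Agent.AmpleEmb.Generated

/-!
# Uniform Serre vanishing for a generated tower of coherent modules
-/

set_option autoImplicit false
set_option backward.isDefEq.respectTransparency false
set_option linter.unusedSectionVars false
set_option linter.style.haveILetI false

universe u

open CategoryTheory CategoryTheory.Limits AlgebraicGeometry TopologicalSpace Opposite
open Groth.Agent.PullbackMod Groth.Agent.DCohLib Groth.Agent.CohBase Groth.Agent.CechSys Groth.Agent.ProjCoh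

noncomputable section

namespace Groth.Agent.FormalSys

variable {X : Scheme.{u}}

/-- A family of maps jointly surjective on stalks. -/
def StalkGen {r : ℕ} {M N : X.Modules} (g : Fin r → (M ⟶ N)) : Prop :=
  ∀ (x : X) (y : N.presheaf.stalk x), ∃ z : Fin r → M.presheaf.stalk x, y = ∑ j, stalkLin (g j) x (z j)

theorem StalkGen.tensor {r : ℕ} {M N : X.Modules} {g : Fin r → (M ⟶ N)} (hg : StalkGen g) (P : X.Modules) :
    StalkGen fun j => ((DCoh.tensorBi (X := X)).map (g j)).app P := by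
  intro x y
  obtain ⟨w, rfl⟩ := (stalkTensor x N P).surjective y
  induction w using TensorProduct.induction_on with
  | zero => exact ⟨0, by simp⟩
  | tmul a b =>
    obtain ⟨z, rfl⟩ := hg x a
    refine ⟨fun j => stalkTensor x M P (TensorProduct.tmul _ (z j) b), ?_⟩
    rw [TensorProduct.sum_tmul, map_sum]
    refine Finset.sum_congr rfl fun j _ => ?_
    rw [stalkTensor_natural_left, LinearMap.rTensor_tmul]
  | add u v hu hv =>
    obtain ⟨zu, hzu⟩ := hu
    obtain ⟨zv, hzv⟩ := hv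
    exact ⟨zu + zv, by simp only [map_add, hzu, hzv, Pi.add_apply, Finset.sum_add_distrib]⟩

/-- Joint surjectivity on stalks from affine opens. -/
theorem stalkGen_of_affine {r : ℕ} {M N : X.Modules} (g : Fin r → (M ⟶ N))
    (h : ∀ U : X.Opens, IsAffineOpen U → ∀ y, ∃ z : Fin r → Γ(M, U), y = ∑ j, (g j).app U (z j)) : StalkGen g := by
  intro x y
  obtain ⟨W, hW, m, rfl⟩ := TopCat.Presheaf.exists_germ_eq N.presheaf y
  obtain ⟨_, ⟨U, hU, rfl⟩, hxU, hUW'⟩ := X.isBasis_affineOpens.exists_subset_of_mem_open (a := x) hW W.2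
  have hUW : U ≤ W := hUW'
  obtain ⟨z, hz⟩ := h U hU (N.presheaf.map (homOfLE hUW).op m)
  refine ⟨fun j => M.presheaf.germ U x hxU (z j), ?_⟩
  rw [← N.presheaf.germ_res_apply (homOfLE hUW) x hxU m, hz, map_sum]
  exact Finset.sum_congr rfl fun j _ => (stalkLin_germ (g j) x hxU (z j)).symm

variable [AlgebraicGeometry.IsNoetherian X]

/-- Joint surjectivity on affine opens from stalks. -/
theorem exists_sum_app {r : ℕ} {M N : X.Modules} (hM : Coh.IsCoh M) (hN : Coh.IsCoh N) (g : Fin r → (M ⟶ N))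
    (hg : StalkGen g) {U : X.Opens} (hU : IsAffineOpen U) (y : Γ(N, U)) :
    ∃ z : Fin r → Γ(M, U), y = ∑ j, (g j).app U (z j) := by
  induction r generalizing N with
  | zero =>
    refine ⟨fun j => j.elim0, ?_⟩
    rw [Finset.univ_eq_empty, Finset.sum_empty]
    refine TopCat.Presheaf.section_ext (⟨N.presheaf, N.isSheaf⟩ : TopCat.Sheaf Ab X) U _ _ fun x hx => ?_
    obtain ⟨z, hz⟩ := hg x (N.presheaf.germ U x hx y)
    rw [Finset.univ_eq_empty, Finset.sum_empty] at hz
    exact hz.trans (map_zero _).symm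
  | succ r ih =>
    let π := cokernel.π (g 0)
    have hQ : Coh.IsCoh (cokernel (g 0)) := (QCohLib.isCoh_kernel_cokernel (g 0) hM hN).2
    have hπ : ∀ x, Function.Surjective (stalkLin π x) := (epi_iff_stalk π).1 inferInstance
    have h0 : ∀ (x : X) (z : M.presheaf.stalk x), stalkLin π x (stalkLin (g 0) x z) = 0 := fun x z => by
      rw [← LinearMap.comp_apply, ← stalkLin_comp, cokernel.condition, (eq_zero_iff_stalk 0).1 rfl x]
      rfl
    obtain ⟨z', hz'⟩ := ih (N := cokernel (g 0)) hQ (fun j => g j.succ ≫ π) (fun x q => by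
      obtain ⟨n, rfl⟩ := hπ x q
      obtain ⟨z, rfl⟩ := hg x n
      refine ⟨fun j => z j.succ, ?_⟩
      rw [map_sum, Fin.sum_univ_succ, h0, zero_add]
      exact Finset.sum_congr rfl fun j _ => by rw [stalkLin_comp]; rfl) (π.app U y)
    obtain ⟨-, hk⟩ := FormalLib.cokernel_app (g 0) hM.1 hN.1 hU
    obtain ⟨z₀, hz₀⟩ := hk (y - ∑ j, (g (Fin.succ j)).app U (z' j)) (by
      rw [map_sub, map_sum, sub_eq_zero]
      exact hz')
    refine ⟨Fin.cons z₀ z', ?_⟩
    rw [Fin.sum_univ_succ, Fin.cons_zero]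
    simp only [Fin.cons_succ]
    rw [hz₀, sub_add_cancel]

omit [AlgebraicGeometry.IsNoetherian X] in
/-- Cohomology of a twist vanishes when the Čech cohomology does. -/
theorem subsingleton_of_vanH {B : Type u} [CommRing B] (φ : B →+* Γ(X, ⊤)) {ι : Type} [DecidableEq ι] [Fintype ι]
    (T : TwistData X ι) {d : ℤ} {p : ℕ} (h : ((T.sys φ).deg d).VanH p) : Subsingleton (Coh.HH X (T.F d) p) := by
  obtain ⟨Φ, hΦs, hΦk, -⟩ := hasComparisonNat T.U' T.cover' (T.acyclic d) p
  refine subsingleton_HH _ _ (subsingleton_of_forall_eq 0 fun x => ?_)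
  obtain ⟨z, rfl⟩ := hΦs x
  obtain ⟨c, hc⟩ := TwistData.toCC_surjective φ T d p z.1
  have hcZ : c ∈ ((T.sys φ).deg d).Z p := RSys.mem_Z _ |>.2 (TwistData.toCC_injective φ T d (p + 1) (by
    rw [← TwistData.cdiff_toCC, hc, map_zero]
    exact z.2))
  rw [hΦk, ← hc]
  exact TwistData.toCC_mem_Bc φ T (h hcZ)

variable {R : Type u} [CommRing R] {φ : R →+* Γ(X, ⊤)} {L : X.Modules} (E : AmpleEmb.Emb φ L)
  {N : X.Modules} (e : CohB1.tensorMod E.P N ≅ Coh.structureModule X) (hN : PicF.IsInvertible N)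
  (K : ℕ → X.Modules) (hK : ∀ n, Coh.IsCoh (K n)) {r : ℕ} (m : Fin r → ∀ n, K n ⟶ K (n + 1))

include hN in
theorem isCoh_twists {M : X.Modules} (hM : Coh.IsCoh M) (d : ℤ) : Coh.IsCoh (((E.mulData e).tensor M).F d) :=
  CurveLib.isCoh_tmod hM (CurveLib.isCoh_of_isInvertible (AmpleEmb.isInvertible_pw E.inv hN d))

/-- The twisted family of a term. -/
def termData (n : ℕ) : TwistData X (Fin (E.n + 1)) :=
  ((E.mulData e).tensor (K n)).toTwistData (isCoh_twists E e hN (hK n) 0).1 E.isAffineOpen_inf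

/-- The shifts of the tower. -/
def shiftMap (j : Fin r) (n : ℕ) (d : ℤ) :
    (termData E e hN K hK n).F d ⟶ (termData E e hN K hK (n + 1)).F d :=
  ((DCoh.tensorBi (X := X)).map (m j n)).app ((E.mulData e).F d)

lemma shiftMap_μ (j : Fin r) (n : ℕ) (a : Fin (E.n + 1)) (d : ℤ) :
    (termData E e hN K hK n).μ a d ≫ shiftMap E e hN K hK m j n d =
      shiftMap E e hN K hK m j n (d - 1) ≫ (termData E e hN K hK (n + 1)).μ a d :=
  ((DCoh.tensorBi (X := X)).map (m j n)).naturality ((E.mulData e).μ a d)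

/-- The tower of graded systems. -/
def tower (hc : ∀ (j k : Fin r) (n : ℕ), m k n ≫ m j (n + 1) = m j n ≫ m k (n + 1)) : Tower (Fin (E.n + 1)) R r where
  N n := (termData E e hN K hK n).sys φ
  f j n S := LinearMap.pi fun d => (secMap φ (shiftMap E e hN K hK m j n d) _).comp (LinearMap.proj d)
  f_res j n S T h x := funext fun d => (secMap_res φ (shiftMap E e hN K hK m j n d) _ _).symm
  f_x j n a S x := funext fun d => by
    exact congr($(shiftMap_μ E e hN K hK m j n a d).app _ (x (d - 1)))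
  f_proj j n d S x := funext fun d' => by
    show secMap φ (shiftMap E e hN K hK m j n d') _ ((Pi.single d (x d) : (termData E e hN K hK n).MS φ S) d') =
      (Pi.single d (secMap φ (shiftMap E e hN K hK m j n d) _ (x d)) : (termData E e hN K hK (n + 1)).MS φ S) d'
    by_cases h : d' = d
    · subst h
      rw [Pi.single_eq_same, Pi.single_eq_same]
      rfl
    · rw [Pi.single_eq_of_ne h, Pi.single_eq_of_ne h, map_zero]
  f_comm j k n S x := funext fun d => by
    have h := congrArg (fun t => ((DCoh.tensorBi (X := X)).map t).app ((E.mulData e).F d)) (hc j k n)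
    simp only [Functor.map_comp, NatTrans.comp_app] at h
    exact congr($(h).app _ (x d))

include e hN hK in
theorem exists_vanishing_tower [IsNoetherianRing R] (f : X ⟶ Spec (CommRingCat.of R)) [IsProper f]
    (hf : (Scheme.ΓSpecIso (CommRingCat.of R)).inv ≫ f.appTop = CommRingCat.ofHom φ)
    (hc : ∀ (j k : Fin r) (n : ℕ), m k n ≫ m j (n + 1) = m j n ≫ m k (n + 1)) (hm : ∀ n, StalkGen fun j => m j n) (p : ℕ) :
    ∃ d₀ : ℕ, ∀ n d : ℕ, d₀ ≤ d →
      Subsingleton (Coh.HH X (CohB1.tensorMod (K n) (CohB1.tensorPow E.P d)) (p + 1)) := by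
  let T := tower E e hN K hK m hc
  have h0 : (T.N 0).FG := (termData E e hN K hK 0).sys_FG φ (E.genAt f hf) fun i =>
    QCohLib.finite_sections_of_isCoh (isCoh_twists E e hN (hK 0) 0) (E.affine i)
  have hgen : ∀ (i : Fin (E.n + 1)) (n : ℕ) (d : ℤ), ∀ y ∈ (T.N (n + 1)).Deg d {i},
      ∃ z : Fin r → (T.N n).M {i}, (∀ j, z j ∈ (T.N n).Deg d {i}) ∧ y = ∑ j, T.f j n {i} (z j) := by
    intro i n d y hy
    have hU : IsAffineOpen (({i} : Finset (Fin (E.n + 1))).inf (termData E e hN K hK n).U) :=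
      (termData E e hN K hK n).affine _ (Finset.singleton_nonempty i)
    obtain ⟨z, hz⟩ := exists_sum_app (isCoh_twists E e hN (hK n) d) (isCoh_twists E e hN (hK (n + 1)) d)
      (fun j => shiftMap E e hN K hK m j n d) ((hm n).tensor _) hU (y d)
    refine ⟨fun j => Pi.single d (toSec φ (z j)), fun j => ?_, ?_⟩
    · show (termData E e hN K hK n).projS φ d {i} _ = _
      refine (TwistData.projS_apply φ _ d {i} _).trans ?_
      exact congrArg (Pi.single d) (Pi.single_eq_same d _)
    · have hy' : (Pi.single d (y d) : (T.N (n + 1)).M {i}) = y := hy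
      refine funext fun d' => Eq.trans (b := ∑ j, secMap φ (shiftMap E e hN K hK m j n d') _
          ((Pi.single d (toSec φ (z j)) : (T.N n).M {i}) d')) ?_ ?_
      rotate_left
      · exact (Finset.sum_apply d' Finset.univ fun j =>
          T.f j n {i} (Pi.single d (toSec φ (z j)) : (T.N n).M {i})).symm
      by_cases h : d' = d
      · subst h
        refine hz.trans (Finset.sum_congr rfl fun j _ => ?_)
        rw [Pi.single_eq_same]
        rfl
      · rw [← hy', Pi.single_eq_of_ne h]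
        refine (Finset.sum_eq_zero fun j _ => ?_).symm
        rw [Pi.single_eq_of_ne h, map_zero]
  obtain ⟨d₀, hd⟩ := T.exists_vanH h0 hgen p
  exact ⟨d₀.toNat, fun n d h => subsingleton_of_vanH φ (termData E e hN K hK n) (d := (Int.ofNat d))
    (hd n (Int.ofNat d) (by simp only [Int.ofNat_eq_natCast]; omega))⟩

/-- Uniform vanishing. -/
theorem exists_uniform_vanishing {R : Type u} [CommRing R] [IsNoetherianRing R]
    (f : X ⟶ Spec (CommRingCat.of R)) [IsProper f] {L : X.Modules} (hL : CohB1.IsAmple L)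
    {K : ℕ → X.Modules} (hK : ∀ n, Coh.IsCoh (K n)) {r : ℕ} (m : Fin r → ∀ n, K n ⟶ K (n + 1))
    (hc : ∀ (j k : Fin r) (n : ℕ), m k n ≫ m j (n + 1) = m j n ≫ m k (n + 1)) (hm : ∀ n, StalkGen fun j => m j n) (p : ℕ) :
    ∃ d₀ : ℕ, ∀ n d : ℕ, d₀ ≤ d →
      Subsingleton (Coh.HH X (CohB1.tensorMod (K n) (CohB1.tensorPow L d)) (p + 1)) := by
  rcases isEmpty_or_nonempty X with hX | hX
  · refine ⟨0, fun n d _ => CurveLib.subsingleton_HH_of_dim _ (d := 0) ?_ p.succ_pos⟩
    refine Order.krullDim_nonpos_iff_forall_isMax.2 fun Z => ?_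
    obtain ⟨x, -⟩ := Z.isIrreducible.1
    exact (hX.false x).elim
  let φ : R →+* Γ(X, ⊤) := ((Scheme.ΓSpecIso (CommRingCat.of R)).inv ≫ f.appTop).hom
  obtain ⟨E⟩ := AmpleEmb.exists_emb hL f φ rfl
  obtain ⟨N, hN, ⟨e⟩⟩ := AmpleEmb.exists_isInverseOf E.inv
  have hr : ∀ s : ℕ, ∃ d₀ : ℕ, ∀ n d : ℕ, d₀ ≤ d → Subsingleton
      (Coh.HH X (CohB1.tensorMod (CohB1.tensorMod (K n) (CohB1.tensorPow L s)) (CohB1.tensorPow E.P d)) (p + 1)) := by
    intro s
    exact exists_vanishing_tower E e hN (fun n => CohB1.tensorMod (K n) (CohB1.tensorPow L s))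
      (fun n => CurveLib.isCoh_tmod (hK n) (CurveLib.isCoh_of_isInvertible (AmpleLib.isInvertible_tensorPow hL.1 s)))
      (fun j n => ((DCoh.tensorBi (X := X)).map (m j n)).app (CohB1.tensorPow L s)) f rfl
      (fun j k n => by
        have h := congrArg (fun t => ((DCoh.tensorBi (X := X)).map t).app (CohB1.tensorPow L s)) (hc j k n)
        simp only [Functor.map_comp, NatTrans.comp_app] at h
        exact h)
      (fun n => (hm n).tensor _) p
  choose d₀ hd₀ using hr
  let D := (Finset.range E.D).sup d₀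
  refine ⟨E.D * (D + 1), fun n d hd => ?_⟩
  have h1 := Nat.div_add_mod d E.D
  have hr : d % E.D < E.D := Nat.mod_lt d E.hD
  have hq : D ≤ d / E.D := ((Nat.le_div_iff_mul_le E.hD).2 (by rw [mul_comm]; omega)).trans' (Nat.le_succ D)
  refine CurveLib.subsingleton_HH_iso ?_ (p + 1)
    (hd₀ (d % E.D) n (d / E.D) ((Finset.le_sup (Finset.mem_range.2 hr)).trans hq))
  exact AmpleLib.assoc _ _ _ ≪≫ AmpleLib.tIso (Iso.refl (K n))
    (AmpleLib.tIso (Iso.refl _) (AmpleLib.powCongr E.iso _ ≪≫ AmpleLib.powMul L E.D _) ≪≫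
      (AmpleLib.powAdd L (d % E.D) (E.D * (d / E.D))).symm ≪≫
        eqToIso (congrArg (CohB1.tensorPow L) ((add_comm _ _).trans h1)))

end Groth.Agent.FormalSys
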