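import Groth.Agent.FormalSysLib.Systems

/-!
# Algebraization of formal modules mapping to a completion with bounded kernel and cokernel
-/

set_option autoImplicit false

universe u

open CategoryTheory CategoryTheory.Limits AlgebraicGeometry TopologicalSpace Opposite
open Groth.Agent.CohBase Groth.Agent.ProjCoh Groth.Agent.QCohLib

noncomputable section

namespace Groth.Agent.FormalSys

section Fork

variable {X : Scheme.{u}}

/-- Descent along an epimorphism. -/
theorem exists_desc_of_epi {M N P : X.Modules} (e : M ⟶ N) [Epi e] (g : M ⟶ P)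
    (h : kernel.ι e ≫ g = 0) : ∃ l : N ⟶ P, e ≫ l = g := by
  let hc := Abelian.epiIsCokernelOfKernel (KernelFork.ofι (kernel.ι e) (kernel.condition e)) (kernelIsKernel e)
  exact ⟨_, (CokernelCofork.IsColimit.desc' hc g h).2⟩

/-- Biproducts of coherent modules are coherent. -/
theorem isCoh_biprod [IsLocallyNoetherian X] {M N : X.Modules} (hM : Coh.IsCoh M) (hN : Coh.IsCoh N) :
    Coh.IsCoh (M ⊞ N) := by
  let S : ShortComplex X.Modules := ShortComplex.mk (biprod.inl : M ⟶ M ⊞ N) biprod.snd biprod.inl_snd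
  have hS : S.ShortExact :=
    { exact := (ShortComplex.Splitting.ofHasBinaryBiproduct M N).exact
      mono_f := (inferInstance : Mono (biprod.inl : M ⟶ M ⊞ N))
      epi_g := (inferInstance : Epi (biprod.snd : M ⊞ N ⟶ N)) }
  exact QCohLib.isCoh_X₂ hS hM hN

/-- A fibre product of modules, described on sections. -/
structure Fork {G F Q : X.Modules} (q : G ⟶ Q) (p : F ⟶ Q) where
  /-- The object. -/
  obj : X.Modules
  /-- First component. -/
  fst : obj ⟶ G
  /-- Second component. -/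
  snd : obj ⟶ F
  cond : fst ≫ q = snd ≫ p
  lift : ∀ {T : X.Modules} (g : T ⟶ G) (x : T ⟶ F), g ≫ q = x ≫ p → ∃ l : T ⟶ obj, l ≫ fst = g ∧ l ≫ snd = x
  ext : ∀ {U : X.Opens} {f f' : Γ(obj, U)}, fst.app U f = fst.app U f' → snd.app U f = snd.app U f' → f = f'
  mem : ∀ {U : X.Opens} (g : Γ(G, U)) (x : Γ(F, U)), q.app U g = p.app U x →
    ∃ f : Γ(obj, U), fst.app U f = g ∧ snd.app U f = x

/-- Fibre products exist and are coherent. -/
theorem exists_fork [IsLocallyNoetherian X] {G F Q : X.Modules} (q : G ⟶ Q) (p : F ⟶ Q)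
    (hG : Coh.IsCoh G) (hF : Coh.IsCoh F) (hQ : Coh.IsCoh Q) : ∃ P : Fork q p, Coh.IsCoh P.obj := by
  let θ : G ⊞ F ⟶ Q := (biprod.fst : G ⊞ F ⟶ G) ≫ q - biprod.snd ≫ p
  let K : kernel θ ⟶ G ⊞ F := kernel.ι θ
  haveI : Mono K := inferInstanceAs (Mono (kernel.ι _))
  have hz : ∀ (U : X.Opens) (z : Γ(G ⊞ F, U)), z = (biprod.inl : G ⟶ G ⊞ F).app U ((biprod.fst : G ⊞ F ⟶ G).app U z) +
      (biprod.inr : F ⟶ G ⊞ F).app U ((biprod.snd : G ⊞ F ⟶ F).app U z) := fun U z => by
    conv_lhs => rw [show z = (𝟙 (G ⊞ F) : G ⊞ F ⟶ G ⊞ F).app U z from rfl, ← biprod.total]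
    rfl
  refine ⟨⟨kernel θ, K ≫ biprod.fst, K ≫ biprod.snd, ?_, fun g x h => ?_, fun {U f f'} h1 h2 => ?_, fun {U} g x h => ?_⟩,
    (isCoh_kernel_cokernel θ (isCoh_biprod hG hF) hQ).1⟩
  · rw [Category.assoc, Category.assoc, ← sub_eq_zero, ← Preadditive.comp_sub]
    exact kernel.condition _
  · refine ⟨kernel.lift θ (biprod.lift g x) ?_, ?_, ?_⟩
    · simp only [θ]
      rw [Preadditive.comp_sub, ← Category.assoc, ← Category.assoc, biprod.lift_fst, biprod.lift_snd, h, sub_self]
    · rw [← Category.assoc, kernel.lift_ι, biprod.lift_fst]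
    · rw [← Category.assoc, kernel.lift_ι, biprod.lift_snd]
  · refine app_injective_of_mono K U ?_
    rw [hz U (K.app U f), hz U (K.app U f')]
    exact congrArg₂ (fun g x => (biprod.inl : G ⟶ G ⊞ F).app U g + (biprod.inr : F ⟶ G ⊞ F).app U x) h1 h2
  · let z : Γ(G ⊞ F, U) := (biprod.inl : G ⟶ G ⊞ F).app U g + (biprod.inr : F ⟶ G ⊞ F).app U x
    have h1 : (biprod.fst : G ⊞ F ⟶ G).app U z = g := by
      simp only [z, map_add]
      rw [← app_comp_apply, ← app_comp_apply, biprod.inl_fst, biprod.inr_fst]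
      exact add_zero g
    have h2 : (biprod.snd : G ⊞ F ⟶ F).app U z = x := by
      simp only [z, map_add]
      rw [← app_comp_apply, ← app_comp_apply, biprod.inl_snd, biprod.inr_snd]
      exact zero_add x
    obtain ⟨f, hf⟩ := kernel_app_exact θ U z (by
      show q.app U ((biprod.fst : G ⊞ F ⟶ G).app U z) - p.app U ((biprod.snd : G ⊞ F ⟶ F).app U z) = 0
      rw [h1, h2, h, sub_self])
    exact ⟨f, by rw [app_comp_apply, hf, h1], by rw [app_comp_apply, hf, h2]⟩

end Fork

variable {A : Type u} [CommRing A] {X : Scheme.{u}} [X.Over (Spec (CommRingCat.of A))] [AlgebraicGeometry.IsNoetherian X]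
  {I : Ideal A}

/-- Multiples of a module by a power of the ideal lie in the image, if the cokernel is killed. -/
theorem smul_le_range {M N : X.Modules} (f : M ⟶ N) (hM : Coh.IsQCoh M) (hN : Coh.IsQCoh N) {c : ℕ}
    (hc : Formal.KilledBy (I ^ c) (cokernel f)) {U : X.Opens} (hU : IsAffineOpen U) :
    JU I U ^ c • (⊤ : Submodule Γ(X, U) Γ(N, U)) ≤ LinearMap.range (appLinear f U) := by
  refine Submodule.smul_le.2 fun r hr s hs => ?_
  clear hs
  rw [← JU_pow] at hr
  induction hr using Submodule.span_induction generalizing s with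
  | mem r hr =>
    obtain ⟨a, ha, rfl⟩ := hr
    exact (killedBy_cokernel_iff f hM hN).1 hc U hU a ha s
  | zero => rw [zero_smul]; exact zero_mem _
  | add r r' _ _ h h' => rw [add_smul]; exact add_mem (h s) (h' s)
  | smul b r _ h => rw [smul_eq_mul, mul_smul]; exact Submodule.smul_mem _ _ (h s)

set_option maxHeartbeats 1600000 in
/-- Algebraization (the left case), with the universal property, for any completion data. -/
theorem exists_left' {G : X.Modules} (hG : Coh.IsCoh G) {F : ℕᵒᵖ ⥤ X.Modules} (hF : Formal.IsCohFormal I F)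
    {GS : ℕᵒᵖ ⥤ X.Modules} (hGS : Formal.IsCohFormal I GS) (πG : ∀ n, G ⟶ GS.obj (op n))
    (hπG : ∀ {n k : ℕ} (h : n ≤ k), πG k ≫ tr GS h = πG n)
    (hπGs : ∀ (n : ℕ) {U : X.Opens}, IsAffineOpen U → Function.Surjective ((πG n).app U) ∧
      LinearMap.ker (appLinear (πG n) U) = JU I U ^ (n + 1) • ⊤)
    (α : F ⟶ GS) (t : ℕ) (ht : ∀ n : ℕ, Formal.KilledBy (I ^ (t + 1)) (kernel (α.app (op n))) ∧
      Formal.KilledBy (I ^ (t + 1)) (cokernel (α.app (op n)))) :
    ∃ (F' : X.Modules) (a : F' ⟶ G) (τ : ∀ n : ℕ, F' ⟶ F.obj (op n)), Coh.IsCoh F' ∧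
      Formal2.KerCokerKilledByIPowHom I a ∧
      (∀ {n n' : ℕ} (h : n ≤ n'), τ n' ≫ tr F h = τ n) ∧
      (∀ n, τ n ≫ α.app (op n) = a ≫ πG n) ∧
      (∀ (n : ℕ) (U : X.Opens), IsAffineOpen U → Function.Surjective ((τ n).app U) ∧
        LinearMap.ker (appLinear (τ n) U) = JU (I ^ (n + 1)) U • ⊤) ∧
      ∀ (H : X.Modules) (D : H ⟶ G) (δ : ∀ n : ℕ, H ⟶ F.obj (op n)),
        (∀ {n k : ℕ} (h : n ≤ k), δ k ≫ tr F h = δ n) → (∀ n, δ n ≫ α.app (op n) = D ≫ πG n) →
          ∃ b : H ⟶ F', b ≫ a = D ∧ ∀ n, δ n = b ≫ τ n := by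
  classical
  set c := t + 1
  obtain ⟨ι, _, V, hV, -, hcov⟩ := exists_finite_affine_cover (X := X) (V := ⊤) isCompact_univ
  obtain ⟨m, d, hmd⟩ := exists_torsion_bound_cover hF V hV c
  set N := m + c
  have hmN : m ≤ N := Nat.le_add_right m c
  let θ : kernel (tr F hmN) ⟶ GS.obj (op N) := kernel.ι _ ≫ α.app (op N)
  let q : G ⟶ cokernel θ := πG N ≫ cokernel.π θ
  haveI := epi_tr hF hmN
  obtain ⟨p, hp⟩ := exists_desc_of_epi (tr F hmN) (α.app (op N) ≫ cokernel.π θ)
    (by rw [← Category.assoc]; exact cokernel.condition θ)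
  have hKN : Coh.IsCoh (kernel (tr F hmN)) := (isCoh_kernel_cokernel _ (hF.1 N) (hF.1 m)).1
  have hQ : Coh.IsCoh (cokernel θ) := (isCoh_kernel_cokernel θ hKN (hGS.1 N)).2
  obtain ⟨P', hF'⟩ := exists_fork q p hG (hF.1 m) hQ
  -- the auxiliary products
  choose P hP using fun (k : ℕ) (h : N ≤ k) => exists_fork (tr GS h ≫ cokernel.π θ) p (hGS.1 k) (hF.1 m) hQ
  have he : ∀ (k : ℕ) (h : N ≤ k), ∃ e : F.obj (op k) ⟶ (P k h).obj,
      e ≫ (P k h).fst = α.app (op k) ∧ e ≫ (P k h).snd = tr F (hmN.trans h) := fun k h => by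
    refine (P k h).lift _ _ ?_
    rw [← tr_comp F hmN h, Category.assoc, hp, ← Category.assoc (tr F h), tr_app, Category.assoc]
  choose e he1 he2 using he
  have hu : ∀ (k : ℕ) (h : N ≤ k), ∃ w : P'.obj ⟶ (P k h).obj,
      w ≫ (P k h).fst = P'.fst ≫ πG k ∧ w ≫ (P k h).snd = P'.snd := fun k h => by
    refine (P k h).lift _ _ ?_
    rw [Category.assoc, ← Category.assoc (πG k), hπG h]
    exact P'.cond
  choose w hw1 hw2 using hu
  -- lifts of sections
  have hesurj : ∀ (k : ℕ) (h : N ≤ k) {U : X.Opens}, IsAffineOpen U → Function.Surjective ((e k h).app U) := by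
    intro k h U hU z
    obtain ⟨g, hgdef⟩ : ∃ g, (P k h).fst.app U z = g := ⟨_, rfl⟩
    obtain ⟨x, hxdef⟩ : ∃ x, (P k h).snd.app U z = x := ⟨_, rfl⟩
    have hc : (cokernel.π θ).app U ((tr GS h).app U g) = p.app U x := by
      rw [← hgdef, ← hxdef]
      exact congr($((P k h).cond).app U z)
    have e1 : ∀ y, (tr GS h).app U ((α.app (op k)).app U y) = (α.app (op N)).app U ((tr F h).app U y) :=
      fun y => congr($(tr_app α h).app U y).symm
    obtain ⟨y₀, hy₀⟩ := (app_tr hF (hmN.trans h) hU).1 x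
    have h1 : (cokernel.π θ).app U ((tr GS h).app U g - (α.app (op N)).app U ((tr F h).app U y₀)) = 0 := by
      rw [map_sub, hc, ← hy₀, ← tr_comp F hmN h, sub_eq_zero]
      exact congr($(hp).app U ((tr F h).app U y₀))
    obtain ⟨z', hz'⟩ := (FormalLib.cokernel_app θ hKN.1 (hGS.1 N).1 hU).2 _ h1
    have hz1 : (kernel.ι (tr F hmN)).app U z' ∈ LinearMap.ker (appLinear (tr F hmN) U) :=
      congr($(kernel.condition (tr F hmN)).app U z')
    rw [(app_tr hF hmN hU).2, ← LinearMap.range_eq_top.2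
      (show Function.Surjective (appLinear (tr F h) U) from (app_tr hF h hU).1),
      ← Submodule.map_top, ← Submodule.map_smul''] at hz1
    obtain ⟨y₁, hy₁, hy₁'⟩ := hz1
    have h2 : g - (α.app (op k)).app U (y₀ + y₁) ∈ LinearMap.ker (appLinear (tr GS h) U) := by
      show (tr GS h).app U (g - (α.app (op k)).app U (y₀ + y₁)) = 0
      rw [map_sub, map_add, map_add, e1, e1, ← sub_sub, ← hz', sub_eq_zero]
      exact (congrArg ((α.app (op N)).app U) hy₁').symm
    rw [(app_tr hGS h hU).2, show N + 1 = (m + 1) + c by omega, pow_add, ← smul_eq_mul, Submodule.smul_assoc] at h2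
    have h3 := Submodule.smul_mono (le_refl (JU I U ^ (m + 1)))
      (smul_le_range (α.app (op k)) (hF.1 k).1 (hGS.1 k).1 (ht k).2 hU) h2
    rw [← Submodule.map_top, ← Submodule.map_smul''] at h3
    obtain ⟨y₂, hy₂, hy₂'⟩ := h3
    have hy2' : (α.app (op k)).app U y₂ = g - (α.app (op k)).app U (y₀ + y₁) := hy₂'
    have hym : ∀ y ∈ JU I U ^ (m + 1) • (⊤ : Submodule Γ(X, U) Γ(F.obj (op k), U)),
        (tr F (hmN.trans h)).app U y = 0 := fun y hy => by
      rw [← (app_tr hF (hmN.trans h) hU).2] at hy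
      exact hy
    refine ⟨y₀ + y₁ + y₂, (P _ _).ext ?_ ?_⟩
    · rw [← app_comp_apply, he1, map_add, hy2', hgdef]
      exact add_sub_cancel _ g
    · rw [← app_comp_apply, he2, map_add, map_add, hy₀, hym _ hy₁, hym _ hy₂, add_zero, add_zero, hxdef]
  have hkey : ∀ (n : ℕ), kernel.ι (e (n + N + d) (by omega)) ≫ tr F (show n ≤ n + N + d by omega) = 0 := by
    intro n
    have hk : N ≤ n + N + d := by omega
    haveI := (isCoh_kernel_cokernel (e (n + N + d) hk) (hF.1 _)
      (hP _ hk)).1.1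
    refine hom_zero_of_cover _ V hV hcov fun i s => ?_
    set x := (kernel.ι (e (n + N + d) hk)).app (V i) s with hxdef
    have hx : (e (n + N + d) hk).app (V i) x = 0 := congr($(kernel.condition (e (n + N + d) hk)).app (V i) s)
    have hx1 : (α.app (op (n + N + d))).app (V i) x = 0 := by
      rw [← he1 (n + N + d) hk, app_comp_apply, hx, map_zero]
    have hx2 : x ∈ LinearMap.ker (appLinear (tr F (hmN.trans hk)) (V i)) := by
      show (tr F (hmN.trans hk)).app (V i) x = 0
      rw [← he2 (n + N + d) hk, app_comp_apply, hx, map_zero]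
    rw [(app_tr hF (hmN.trans hk) (hV i)).2] at hx2
    have h4 := hmd i (n + N + d) x (Submodule.smul_mono (Ideal.pow_le_pow_right (Nat.le_succ m)) le_rfl hx2)
      fun a ha => (killedBy_kernel_iff (α.app (op (n + N + d)))).1 (ht _).1 (V i) (hV i) a ha x hx1
    show (tr F (show n ≤ n + N + d by omega)).app (V i) x = 0
    have h5 : x ∈ LinearMap.ker (appLinear (tr F (show n ≤ n + N + d by omega)) (V i)) := by
      rw [(app_tr hF _ (hV i)).2]
      exact Submodule.smul_mono (Ideal.pow_le_pow_right (by omega)) le_rfl h4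
    exact h5
  have hv : ∀ n, ∃ v : (P (n + N + d) (show N ≤ n + N + d by omega)).obj ⟶ F.obj (op n),
      e (n + N + d) (show N ≤ n + N + d by omega) ≫ v = tr F (show n ≤ n + N + d by omega) := fun n => by
    haveI : Epi (e (n + N + d) (by omega)) := epi_of_affine _ fun U hU => hesurj _ _ hU
    exact exists_desc_of_epi _ _ (hkey n)
  choose v hv using hv
  let τ : ∀ n, P'.obj ⟶ F.obj (op n) := fun n => w (n + N + d) (by omega) ≫ v n
  have hrep : ∀ (k : ℕ) (h : N ≤ k) {U : X.Opens}, IsAffineOpen U → ∀ f : Γ(P'.obj, U),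
      ∃ y, (α.app (op k)).app U y = (πG k).app U (P'.fst.app U f) ∧
        (tr F (hmN.trans h)).app U y = P'.snd.app U f := by
    intro k h U hU f
    obtain ⟨y, hy⟩ := hesurj k h hU ((w k h).app U f)
    refine ⟨y, ?_, ?_⟩
    · rw [← he1 k h, app_comp_apply, hy, ← app_comp_apply, hw1, app_comp_apply]
    · rw [← he2 k h, app_comp_apply, hy, ← app_comp_apply, hw2]
  have hval : ∀ (n k : ℕ) (h : n + N + d ≤ k) {U : X.Opens}, IsAffineOpen U → ∀ (f : Γ(P'.obj, U))
      (y : Γ(F.obj (op k), U)), (α.app (op k)).app U y = (πG k).app U (P'.fst.app U f) →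
      (tr F (show m ≤ k by omega)).app U y = P'.snd.app U f →
      (τ n).app U f = (tr F (show n ≤ k by omega)).app U y := by
    intro n k h U hU f y hy1 hy2
    have h' : (e (n + N + d) (by omega)).app U ((tr F h).app U y) = (w (n + N + d) (by omega)).app U f := by
      refine (P _ _).ext ?_ ?_
      · rw [← app_comp_apply (w _ _), hw1, ← app_comp_apply (e _ _), he1, ← app_comp_apply, tr_app, app_comp_apply, hy1,
          ← app_comp_apply, hπG h, app_comp_apply]
      · rw [← app_comp_apply (w _ _), hw2, ← app_comp_apply (e _ _), he2, ← app_comp_apply, tr_comp, hy2]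
    show (w (n + N + d) _ ≫ v n).app U f = _
    rw [app_comp_apply, ← h', ← app_comp_apply, hv, ← app_comp_apply, tr_comp]
  have hcompat : ∀ {n n' : ℕ} (h : n ≤ n'), τ n' ≫ tr F h = τ n := fun {n n'} h => hom_ext_affine fun U hU f => by
    obtain ⟨y, hy1, hy2⟩ := hrep (n' + N + d) (by omega) hU f
    rw [app_comp_apply, hval n' _ le_rfl hU f y hy1 hy2, hval n (n' + N + d) (by omega) hU f y hy1 hy2,
      ← app_comp_apply, tr_comp]
  have hτα : ∀ n, τ n ≫ α.app (op n) = P'.fst ≫ πG n := fun n => hom_ext_affine fun U hU f => by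
    obtain ⟨y, hy1, hy2⟩ := hrep (n + N + d) (by omega) hU f
    rw [app_comp_apply, hval n _ le_rfl hU f y hy1 hy2, ← app_comp_apply, tr_app, app_comp_apply, hy1,
      ← app_comp_apply, hπG, app_comp_apply]
  have hτsurj : ∀ n {U : X.Opens}, IsAffineOpen U → Function.Surjective ((τ n).app U) := by
    intro n U hU y
    obtain ⟨y', rfl⟩ := (app_tr hF (show n ≤ n + N + d by omega) hU).1 y
    obtain ⟨g, hg⟩ := (hπGs (n + N + d) hU).1 ((α.app (op (n + N + d))).app U y')
    have hk : N ≤ n + N + d := by omega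
    obtain ⟨f, hf1, hf2⟩ := P'.mem g ((tr F (hmN.trans hk)).app U y') (by
      show (πG N ≫ cokernel.π θ).app U g = _
      rw [← hπG hk, Category.assoc, app_comp_apply, show (πG (n + N + d)).app U g = _ from hg,
        ← tr_comp F hmN hk, ← app_comp_apply, ← app_comp_apply, ← Category.assoc, ← tr_app, Category.assoc, ← hp,
        app_comp_apply, app_comp_apply, app_comp_apply, app_comp_apply])
    exact ⟨f, hval n _ le_rfl hU f y' (by rw [hf1]; exact hg.symm) hf2.symm⟩
  have hτker : ∀ n {U : X.Opens}, IsAffineOpen U → LinearMap.ker (appLinear (τ n) U) = JU (I ^ (n + 1)) U • ⊤ := by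
    intro n U hU
    rw [JU_pow]
    refine le_antisymm (fun f hf => ?_) ?_
    · set n'' := n + N + 1
      have h1 : (τ n'').app U f ∈ LinearMap.ker (appLinear (tr F (show n ≤ n'' by omega)) U) := by
        show (tr F _).app U ((τ n'').app U f) = 0
        rw [← app_comp_apply, hcompat]
        exact hf
      rw [(app_tr hF _ hU).2, ← LinearMap.range_eq_top.2 (show Function.Surjective (appLinear (τ n'') U) from hτsurj n'' hU),
        ← Submodule.map_top, ← Submodule.map_smul''] at h1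
      obtain ⟨i, hi, hi'⟩ := h1
      rw [← sub_add_cancel f i]
      refine add_mem ?_ hi
      set f' := f - i
      have hf' : (τ n'').app U f' = 0 := by
        rw [map_sub, sub_eq_zero]
        exact hi'.symm
      obtain ⟨y, hy1, hy2⟩ := hrep (n'' + N + d) (by omega) hU f'
      have hy0 : (tr F (show n'' ≤ n'' + N + d by omega)).app U y = 0 :=
        (hval n'' _ le_rfl hU f' y hy1 hy2).symm.trans hf'
      have hb : P'.snd.app U f' = 0 := by
        rw [← hy2, ← tr_comp F (show m ≤ n'' by omega) (show n'' ≤ n'' + N + d by omega), app_comp_apply, hy0, map_zero]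
      have hg : P'.fst.app U f' ∈ LinearMap.ker (appLinear (πG n'') U) := by
        show (πG n'').app U _ = 0
        rw [← hπG (show n'' ≤ n'' + N + d by omega), app_comp_apply, ← hy1, ← app_comp_apply, ← tr_app,
          app_comp_apply, hy0, map_zero]
      rw [(hπGs n'' hU).2, show n'' + 1 = (n + 1) + (N + 1) by omega, pow_add, ← smul_eq_mul,
        Submodule.smul_assoc] at hg
      have hle : JU I U ^ (N + 1) • (⊤ : Submodule Γ(X, U) Γ(G, U)) ≤
          (LinearMap.ker (appLinear P'.snd U)).map (appLinear P'.fst U) := fun g hg0 => by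
        rw [← (hπGs N hU).2] at hg0
        obtain ⟨f₀, hf1, hf2⟩ := P'.mem g 0 (by
          show (cokernel.π θ).app U ((πG N).app U g) = _
          rw [show (πG N).app U g = 0 from hg0, map_zero, map_zero])
        exact ⟨f₀, hf2, hf1⟩
      have hg' := Submodule.smul_mono (le_refl (JU I U ^ (n + 1))) hle hg
      rw [← Submodule.map_smul''] at hg'
      obtain ⟨f₁, hf₁, hf₁'⟩ := hg'
      have : f' = f₁ := P'.ext hf₁'.symm (by
        rw [hb]
        exact (Submodule.smul_le_right hf₁ : f₁ ∈ LinearMap.ker (appLinear P'.snd U)).symm)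
      rw [this]
      exact Submodule.smul_mono le_rfl le_top hf₁
    · rw [LinearMap.le_ker_iff_map, Submodule.map_smul'', eq_bot_iff, ← smul_top_eq_bot hF n hU]
      exact Submodule.smul_mono le_rfl le_top
  refine ⟨P'.obj, P'.fst, τ, hF', ⟨t, ?_, ?_⟩, fun h => hcompat h, hτα,
    fun n U hU => ⟨hτsurj n hU, hτker n hU⟩, fun H D δ hδtr hδ => ?_⟩
  · refine (killedBy_kernel_iff _).2 fun U hU r hr f hf => P'.ext ?_ ?_
    · rw [smul_app_natural, hf, smul_zero, map_zero]
    · rw [map_zero, smul_app_natural]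
      obtain ⟨y, hy⟩ := (app_tr hF hmN hU).1 (P'.snd.app U f)
      have h1 : (cokernel.π θ).app U ((α.app (op N)).app U y) = 0 := by
        rw [← app_comp_apply, ← hp, app_comp_apply, hy, ← app_comp_apply, ← P'.cond, app_comp_apply, hf, map_zero]
      obtain ⟨z, hz⟩ := (FormalLib.cokernel_app θ hKN.1 (hGS.1 N).1 hU).2 _ h1
      have h2 : (α.app (op N)).app U (y - (kernel.ι (tr F hmN)).app U z) = 0 := by
        rw [map_sub, ← hz, sub_eq_zero]; rfl
      have h3 := congrArg ((tr F hmN).app U) ((killedBy_kernel_iff _).1 (ht N).1 U hU r hr _ h2)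
      rw [smul_app_natural, map_zero, map_sub, hy, show (tr F hmN).app U ((kernel.ι (tr F hmN)).app U z) = 0 from
        congr($(kernel.condition (tr F hmN)).app U z), sub_zero] at h3
      exact h3
  · refine (killedBy_cokernel_iff _ hF'.1 hG.1).2 fun U hU r hr g => ?_
    obtain ⟨y, hy⟩ := (killedBy_cokernel_iff _ (hF.1 N).1 (hGS.1 N).1).1 (ht N).2 U hU r hr ((πG N).app U g)
    obtain ⟨f, hf, -⟩ := P'.mem (φV (FormalLib.cst A X) U r • g) ((tr F hmN).app U y) (by
      rw [← app_comp_apply (tr F hmN) p, hp, app_comp_apply (α.app (op N)), hy, ← smul_app_natural]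
      rfl)
    exact ⟨f, hf⟩
  · obtain ⟨b, hb1, hb2⟩ := P'.lift D (δ m) (by
      rw [← hδtr hmN, Category.assoc, hp, ← Category.assoc D, ← hδ N, Category.assoc])
    refine ⟨b, hb1, fun n => hom_ext_affine fun U hU s => ?_⟩
    have hy1 : (α.app (op (n + N + d))).app U ((δ (n + N + d)).app U s) =
        (πG (n + N + d)).app U (P'.fst.app U (b.app U s)) := by
      rw [← app_comp_apply b, hb1, ← app_comp_apply, hδ, app_comp_apply]
    have hy2 : (tr F (show m ≤ n + N + d by omega)).app U ((δ (n + N + d)).app U s) = P'.snd.app U (b.app U s) := by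
      rw [← app_comp_apply b, hb2, ← app_comp_apply, hδtr]
    rw [app_comp_apply b, hval n _ le_rfl hU _ _ hy1 hy2, ← app_comp_apply, hδtr]

/-- Algebraization (the left case), with the universal property of the algebraization. -/
theorem exists_left {G : X.Modules} (hG : Coh.IsCoh G) {F : ℕᵒᵖ ⥤ X.Modules} (hF : Formal.IsCohFormal I F)
    (α : F ⟶ Formal.completion I G) (hα : Formal2.KerCokerKilledByIPow I α) :
    ∃ (F' : X.Modules) (a : F' ⟶ G) (β : F ≅ Formal.completion I F'), Coh.IsCoh F' ∧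
      Formal2.KerCokerKilledByIPowHom I a ∧
      (∀ n : ℕ, Formal.modPowπ I (n + 1) F' ≫ β.inv.app (op n) ≫ α.app (op n) = a ≫ Formal.modPowπ I (n + 1) G) ∧
      ∀ (H : X.Modules) (D : H ⟶ G) (δ : Formal.completion I H ⟶ F),
        (∀ n : ℕ, Formal.modPowπ I (n + 1) H ≫ δ.app (op n) ≫ α.app (op n) = D ≫ Formal.modPowπ I (n + 1) G) →
        ∃ b : H ⟶ F', b ≫ a = D ∧
          ∀ n : ℕ, Formal.modPowπ I (n + 1) H ≫ δ.app (op n) = b ≫ Formal.modPowπ I (n + 1) F' ≫ β.inv.app (op n) := by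
  obtain ⟨t, ht⟩ := hα
  obtain ⟨F', a, τ, hF', ha, hcompat, hτα, hτ, huniv⟩ := exists_left' hG hF (isCohFormal_completion hG I)
    (fun n => Formal.modPowπ I (n + 1) G) (fun h => modPowπ_tr I G h)
    (fun n {U} hU => app_modPowπ hG.1 I (n + 1) hU) α t ht
  choose hz hiso using fun n => exists_isIso_desc (J := I ^ (n + 1)) hF'.1 (τ n) (hτ n)
  let comp : ∀ n : ℕᵒᵖ, (Formal.completion I F').obj n ≅ F.obj n := fun n =>
    @asIso _ _ _ _ (cokernel.desc _ (τ n.unop) (hz n.unop)) (hiso n.unop)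
  have hcomp : ∀ n : ℕ, Formal.modPowπ I (n + 1) F' ≫ (comp (op n)).hom = τ n := fun n =>
    cokernel.π_desc _ _ _
  let iso : Formal.completion I F' ≅ F := NatIso.ofComponents comp (fun {i j} f => by
    obtain ⟨n', rfl⟩ : ∃ n', i = op n' := ⟨i.unop, rfl⟩
    obtain ⟨n, rfl⟩ : ∃ n, j = op n := ⟨j.unop, rfl⟩
    have hle : n ≤ n' := leOfHom f.unop
    obtain rfl : f = (homOfLE hle).op := Subsingleton.elim _ _
    haveI : Epi (Formal.modPowπ I (n' + 1) F') := by
      unfold Formal.modPowπ; exact coequalizer.π_epi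
    refine (cancel_epi (Formal.modPowπ I (n' + 1) F')).1 ?_
    refine (Category.assoc _ _ _).symm.trans ((congrArg (· ≫ (comp (op n)).hom)
      (modPowπ_tr I F' hle)).trans ((hcomp n).trans ?_))
    refine Eq.trans ?_ (Category.assoc _ _ _)
    refine Eq.trans ?_ (congrArg (· ≫ tr F hle) (hcomp n').symm)
    exact (hcompat _).symm)
  refine ⟨F', a, iso.symm, hF', ha, fun n => (Category.assoc _ _ _).symm.trans
    ((congrArg (· ≫ α.app (op n)) (hcomp n)).trans (hτα n)), fun H D δ hδ => ?_⟩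
  obtain ⟨b, hb, hb'⟩ := huniv H D (fun n => Formal.modPowπ I (n + 1) H ≫ δ.app (op n))
    (fun {n k} h => (Category.assoc _ _ _).trans ((congrArg (Formal.modPowπ I (k + 1) H ≫ ·) (tr_app δ h).symm).trans
      ((Category.assoc _ _ _).symm.trans (congrArg (· ≫ δ.app (op n)) (modPowπ_tr I H h)))))
    (fun n => (Category.assoc _ _ _).trans (hδ n))
  exact ⟨b, hb, fun n => (hb' n).trans (congrArg (b ≫ ·) (hcomp n).symm)⟩

end Groth.Agent.FormalSys
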