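import Groth.Agent.FormalSysLib.ClosedSub
import Groth.Agent.S8267
import Groth.Agent.RelSpecLib.SymData
import Groth.Agent.ProjBundleLib.DegOne

/-!
# Algebraization of formal finite schemes

A formal finite scheme `Y_n → X_n` gives the coherent formal module `c_{n*} O_{Y_n}`, which is the
completion of a coherent module `M`. The maps `M → c_{n*} O_{Y_n}` are surjective, so the `Y_n` form a
formal closed subscheme of the vector bundle `Spec (Sym M)`, which is algebraizable.
-/

set_option autoImplicit false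
set_option linter.unusedSectionVars false
set_option linter.style.haveILetI false
set_option backward.isDefEq.respectTransparency false

universe u

open CategoryTheory CategoryTheory.Limits AlgebraicGeometry TopologicalSpace Opposite
open Groth.Agent.CohBase Groth.Agent.ProjCoh Groth.Agent.QCohLib

noncomputable section

namespace Groth.Agent.FormalSys

section Push

variable {X : Scheme.{u}}

/-- The module of a direct image algebra vanishes away from the image. -/
theorem support_directImage_subset {Y : Scheme.{u}} (c : Y ⟶ X) [QuasiCompact c] [QuasiSeparated c]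
    (hc : IsClosed (Set.range c)) :
    CohB1.support (RelSpec.QCAlg.directImage c).toModule ⊆ Set.range c := by
  intro x hx
  by_contra hnx
  refine hx (subsingleton_of_forall_eq 0 fun z => ?_)
  obtain ⟨W, hW, s, rfl⟩ :=
    TopCat.Presheaf.exists_germ_eq (RelSpec.QCAlg.directImage c).toModule.presheaf z
  let N : X.Opens := ⟨(Set.range c)ᶜ, hc.isOpen_compl⟩
  have hle : W ⊓ N ≤ W := inf_le_left
  have he : c ⁻¹ᵁ (W ⊓ N) = ⊥ := eq_bot_iff.2 fun y hy => absurd (Set.mem_range_self y) hy.2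
  haveI : Subsingleton Γ(Y, c ⁻¹ᵁ (W ⊓ N)) := by rw [he]; infer_instance
  haveI : Subsingleton Γ((RelSpec.QCAlg.directImage c).toModule, W ⊓ N) :=
    inferInstanceAs (Subsingleton Γ(Y, c ⁻¹ᵁ (W ⊓ N)))
  rw [← TopCat.Presheaf.germ_res_apply (RelSpec.QCAlg.directImage c).toModule.presheaf (homOfLE hle) x ⟨hW, hnx⟩ s,
    Subsingleton.elim (α := Γ((RelSpec.QCAlg.directImage c).toModule, W ⊓ N))
      ((RelSpec.QCAlg.directImage c).toModule.presheaf.map (homOfLE hle).op s) 0]
  exact map_zero _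

/-- Sections of a direct image algebra in an ideal multiple of the whole. -/
theorem mem_smul_directImage {Y : Scheme.{u}} (c : Y ⟶ X) [QuasiCompact c] [QuasiSeparated c] {U : X.Opens}
    (J : Ideal Γ(X, U)) (s : Γ((RelSpec.QCAlg.directImage c).toModule, U)) :
    s ∈ J • (⊤ : Submodule Γ(X, U) Γ((RelSpec.QCAlg.directImage c).toModule, U)) ↔
      (show Γ(Y, c ⁻¹ᵁ U) from s) ∈ J.map (c.app U).hom := by
  letI : Algebra Γ(X, U) Γ(Y, c ⁻¹ᵁ U) := (c.app U).hom.toAlgebra
  exact SetLike.ext_iff.1 (Ideal.smul_top_eq_map (S := Γ(Y, c ⁻¹ᵁ U)) J) s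

/-- The direct image algebra of a finite morphism is a coherent module. -/
theorem isCoh_directImage {Y : Scheme.{u}} (c : Y ⟶ X) [IsFinite c] :
    Coh.IsCoh (RelSpec.QCAlg.directImage c).toModule := by
  haveI := ProjBundleLib.isQCoh_toModule (RelSpec.QCAlg.directImage c)
  refine QCohLib.isCoh_of_finite _ fun W hW => ?_
  exact IsFinite.finite_app (f := c) W hW

end Push

/-- The morphism of direct image algebras of a morphism over the base. -/
def transHom {X Y Y' : Scheme.{u}} (c : Y ⟶ X) (c' : Y' ⟶ X) [QuasiCompact c] [QuasiSeparated c] [QuasiCompact c']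
    [QuasiSeparated c'] (h : Y' ⟶ Y) (w : h ≫ c = c') :
    RelSpec.QCAlg.directImage c ⟶ RelSpec.QCAlg.directImage c' :=
  ⟨AffAlg.algHom c c' h w, AffAlg.algHom_comm c c' h w⟩

set_option maxHeartbeats 800000 in
/-- A formal finite scheme is covered by a coherent module. -/
theorem exists_coherent_cover {A : Type u} [CommRing A] [IsNoetherianRing A] {I : Ideal A} [IsAdicComplete I A]
    {X : Scheme.{u}} (f : X ⟶ Spec (CommRingCat.of A)) [IsSeparated f] [LocallyOfFiniteType f] [QuasiCompact f]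
    {Y : ℕ → Scheme.{u}} (y : (n : ℕ) → (Y n ⟶ CohB1.thick f I n)) (t : (n : ℕ) → (Y n ⟶ Y (n + 1)))
    (c : (n : ℕ) → (Y n ⟶ X)) [∀ n, IsFinite (c n)]
    (hsq : ∀ n, IsPullback (t n) (y n) (c (n + 1)) (CohB1.thickι f I n)) (htc : ∀ n, t n ≫ c (n + 1) = c n)
    (hp : IsProper (c 0 ≫ f)) :
    ∃ (M : X.Modules) (τ : ∀ n, M ⟶ (RelSpec.QCAlg.directImage (c n)).toModule), Coh.IsCoh M ∧
      (∀ n, τ (n + 1) ≫ RelSpec.QCAlg.Hom.toModuleMap (transHom (c (n + 1)) (c n) (t n) (htc n)) = τ n) ∧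
      ∀ (n : ℕ) (U : X.Opens), IsAffineOpen U → Function.Surjective ((τ n).app U) := by
  letI : X.Over (Spec (CommRingCat.of A)) := ⟨f⟩
  haveI : LocallyOfFiniteType (X ↘ Spec (CommRingCat.of A)) := ‹LocallyOfFiniteType f›
  haveI : IsSeparated (X ↘ Spec (CommRingCat.of A)) := ‹IsSeparated f›
  haveI : IsLocallyNoetherian X := LocallyOfFiniteType.isLocallyNoetherian f
  haveI : CompactSpace X := QuasiCompact.compactSpace_of_compactSpace f
  haveI : AlgebraicGeometry.IsNoetherian X := { }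
  have hq : ∀ m : ℕ, IsClosedImmersion (CohB1.specQuot I m) := fun m =>
    IsClosedImmersion.spec_of_surjective _ Ideal.Quotient.mk_surjective
  haveI := hq
  have hι : ∀ m : ℕ, IsClosedImmersion (CohB1.thickι f I m) := fun m =>
    inferInstanceAs (IsClosedImmersion (pullback.fst f (CohB1.specQuot I m)))
  haveI := hι
  let F : ℕ → RelSpec.QCAlg X := fun n => RelSpec.QCAlg.directImage (c n)
  let φ : ∀ n, F (n + 1) ⟶ F n := fun n => transHom (c (n + 1)) (c n) (t n) (htc n)
  let G : ℕᵒᵖ ⥤ X.Modules :=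
    Functor.ofOpSequence (X := fun n => (F n).toModule) fun n => RelSpec.QCAlg.Hom.toModuleMap (φ n)
  have hFc : ∀ n, Coh.IsCoh (F n).toModule := fun n => isCoh_directImage (c n)
  have happ : ∀ (n : ℕ) (U : X.Opens),
      (t n).appLE (c (n + 1) ⁻¹ᵁ U) (c n ⁻¹ᵁ U) (by rw [← Scheme.Hom.comp_preimage, htc]) = (φ n).hom.app (op U) :=
    fun n U => (RelSpecLib.algHom_app_gen (c (n + 1)) (c n) (t n) (htc n) U).symm
  have hG : Formal.IsCohFormal I G := by
    refine isCohFormal_of_succ hFc fun n U hU => ?_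
    have hTU : IsAffineOpen (c (n + 1) ⁻¹ᵁ U) := hU.preimage _
    have hcl : IsClosedImmersion (CohB1.thickι f I n ∣_ U) := IsZariskiLocalAtTarget.restrict (hι n) _
    obtain ⟨h1, h2⟩ := RelDivLib.closed_and_ker_pullback (hsq n).flip hU hcl hTU le_rfl
    obtain ⟨-, hs⟩ := RegIdealLib.affine_and_surjective (t n) hTU h1
    rw [show RingHom.ker ((CohB1.thickι f I n).app U).hom = JU I U ^ (n + 1) from ker_thickι I n ⟨U, hU⟩] at h2
    have hpre : c n ⁻¹ᵁ U = t n ⁻¹ᵁ (c (n + 1) ⁻¹ᵁ U) := by rw [← Scheme.Hom.comp_preimage, htc]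
    have hbij : Function.Bijective ((Y n).presheaf.map (homOfLE hpre.le).op) := by
      have : (homOfLE hpre.le).op = (eqToHom hpre).op := rfl
      rw [this]
      exact ConcreteCategory.bijective_of_isIso _
    have hφs : ∀ s, (tr G (Nat.le_succ n)).app U s = (φ n).hom.app (op U) s := fun s => by
      rw [tr_ofOpSequence_succ]
      rfl
    have hφe : ∀ s, (φ n).hom.app (op U) s =
        (Y n).presheaf.map (homOfLE hpre.le).op ((t n).app (c (n + 1) ⁻¹ᵁ U) s) := fun s => by
      rw [← happ]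
      rfl
    refine ⟨fun z => ?_, ?_⟩
    · obtain ⟨z', rfl⟩ := hbij.2 z
      obtain ⟨s, rfl⟩ := hs z'
      exact ⟨s, (hφs s).trans (hφe s)⟩
    · ext s
      rw [LinearMap.mem_ker]
      have e1 : (tr G (Nat.le_succ n)).app U s = 0 ↔ (show Γ(Y (n + 1), c (n + 1) ⁻¹ᵁ U) from s) ∈
          RingHom.ker ((t n).app (c (n + 1) ⁻¹ᵁ U)).hom := by
        refine ⟨fun h => ?_, fun h => ?_⟩
        · refine RingHom.mem_ker.2 (hbij.1 ?_)
          rw [map_zero]
          exact ((hφe _).symm.trans (hφs s).symm).trans h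
        · refine (hφs s).trans ((hφe _).trans ?_)
          rw [RingHom.mem_ker.1 h]
          exact map_zero _
      refine e1.trans ?_
      rw [h2]
      rw [show ((c (n + 1)).appLE U (c (n + 1) ⁻¹ᵁ U) le_rfl).hom = ((c (n + 1)).app U).hom by
        rw [Scheme.Hom.app_eq_appLE]]
      exact (mem_smul_directImage (c (n + 1)) (JU I U ^ (n + 1)) s).symm
  have hG0 : PropSupp A (G.obj (op 0)) := by
    have hp0 := hp
    have h1 : ClSub.IsProperOver (c 0 ≫ f) (Set.univ : Set (Y 0)) :=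
      (ClSubLib.isProperOver_iff (c 0 ≫ f) (𝟙 (Y 0)) (Z := Set.univ) Set.range_id).2
        (by rw [Category.id_comp]; exact hp0)
    have h2 := ClSubLib.isProperOver_image (c 0 ≫ f) f (c 0) rfl h1 (Or.inr inferInstance)
    rw [Set.image_univ] at h2
    exact ClSubLib.isProperOver_subset _ h2 (PullbackMod.isClosed_support_of_isFT (hFc 0).2)
      (support_directImage_subset (c 0) (c 0).isClosedMap.isClosed_range)
  obtain ⟨M, hM, -, ⟨θ⟩⟩ := exists_algebraization_propSupp hG hG0
  -- the map to the vector bundle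
  let τ : ∀ n, M ⟶ (F n).toModule := fun n => cπ I M n ≫ θ.hom.app (op n)
  have hτ : ∀ n, τ (n + 1) ≫ RelSpec.QCAlg.Hom.toModuleMap (φ n) = τ n := fun n => by
    have e : tr G (Nat.le_succ n) = RelSpec.QCAlg.Hom.toModuleMap (φ n) :=
      tr_ofOpSequence_succ (T := fun n => (F n).toModule) (fun n => RelSpec.QCAlg.Hom.toModuleMap (φ n)) n
    refine (congrArg (τ (n + 1) ≫ ·) e.symm).trans ?_
    refine (Category.assoc _ _ _).trans ((congrArg (cπ I M (n + 1) ≫ ·) (tr_app θ.hom (Nat.le_succ n)).symm).trans ?_)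
    exact (Category.assoc _ _ _).symm.trans (congrArg (· ≫ θ.hom.app (op n)) (cπ_tr M (Nat.le_succ n)))
  have hτs : ∀ (n : ℕ) (U : X.Opens), IsAffineOpen U → Function.Surjective ((τ n).app U) := fun n U hU => by
    intro z
    obtain ⟨v, rfl⟩ : ∃ v, (θ.hom.app (op n)).app U v = z :=
      ⟨_, congr($(θ.inv_hom_id_app (op n)).app U z)⟩
    obtain ⟨m, rfl⟩ := (app_cπ hM n hU).1 v
    exact ⟨m, app_comp_apply (cπ I M n) _ U m⟩
  exact ⟨M, τ, hM, hτ, hτs⟩

set_option maxHeartbeats 800000 in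
/-- A cover by a coherent module embeds a family of finite schemes in a vector bundle. -/
theorem exists_bundle {X : Scheme.{u}} {Y : ℕ → Scheme.{u}} (t : (n : ℕ) → (Y n ⟶ Y (n + 1)))
    (c : (n : ℕ) → (Y n ⟶ X)) [∀ n, IsFinite (c n)] (htc : ∀ n, t n ≫ c (n + 1) = c n)
    {M : X.Modules} (hM : Coh.IsCoh M) (τ : ∀ n, M ⟶ (RelSpec.QCAlg.directImage (c n)).toModule)
    (hτ : ∀ n, τ (n + 1) ≫ RelSpec.QCAlg.Hom.toModuleMap (transHom (c (n + 1)) (c n) (t n) (htc n)) = τ n)
    (hτs : ∀ (n : ℕ) (U : X.Opens), IsAffineOpen U → Function.Surjective ((τ n).app U)) :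
    ∃ (V : Scheme.{u}) (π : V ⟶ X) (j : ∀ n, Y n ⟶ V), IsAffineHom π ∧ LocallyOfFiniteType π ∧
      (∀ n, IsClosedImmersion (j n)) ∧ (∀ n, j n ≫ π = c n) ∧ ∀ n, t n ≫ j (n + 1) = j n := by
  let F : ℕ → RelSpec.QCAlg X := fun n => RelSpec.QCAlg.directImage (c n)
  let φ : ∀ n, F (n + 1) ⟶ F n := fun n => transHom (c (n + 1)) (c n) (t n) (htc n)
  haveI := hM.1
  let S := RelSpecLib.symAlg M
  have hS := RelSpecLib.isSymAlg_symAlg M
  choose ψ hψ hψu using fun n => hS (F n) (τ n)
  have hψφ : ∀ n, ψ (n + 1) ≫ φ n = ψ n := fun n => hψu n _ (by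
    show RelSpecLib.symJ M ≫ RelSpec.QCAlg.Hom.toModuleMap (ψ (n + 1) ≫ φ n) = τ n
    rw [RelSpecLib.toModuleMap_comp, ← Category.assoc, hψ, hτ])
  let j : ∀ n, Y n ⟶ S.spec := fun n => RelSpecLib.lift S (c n) (ψ n).hom
  have hjπ : ∀ n, j n ≫ S.π = c n := fun n => RelSpecLib.lift_π S (c n) (ψ n).hom (ψ n).comm
  have hjt : ∀ n, t n ≫ j (n + 1) = j n := fun n => by
    refine RelSpecLib.ext_over S (c n) (by rw [Category.assoc, hjπ, htc]) (hjπ n) ?_
    rw [RelSpecLib.algMap_comp S (c (n + 1)) (c n) (j (n + 1)) (hjπ (n + 1)) (t n) (htc n),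
      show RelSpecLib.algMap S (c (n + 1)) (j (n + 1)) (hjπ (n + 1)) = (ψ (n + 1)).hom from
        RelSpecLib.algMap_lift S _ _ (ψ (n + 1)).comm,
      show RelSpecLib.algMap S (c n) (j n) (hjπ n) = (ψ n).hom from RelSpecLib.algMap_lift S _ _ (ψ n).comm,
      ← hψφ n]
    rfl
  have hjci : ∀ n, IsClosedImmersion (j n) := fun n => by
    refine IsZariskiLocalAtTarget.of_iSup_eq_top (fun V : X.affineOpens => S.π ⁻¹ᵁ V.1) ?_ fun V => ?_
    · rw [← Scheme.Hom.preimage_iSup, AlgebraicGeometry.iSup_affineOpens_eq_top X, Scheme.Hom.preimage_top]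
    have hA := RelSpecLib.isAffineOpen_preimage S V.1 V.2
    have hpre : j n ⁻¹ᵁ (S.π ⁻¹ᵁ V.1) = c n ⁻¹ᵁ V.1 := by rw [← Scheme.Hom.comp_preimage, hjπ]
    haveI : IsAffine (S.π ⁻¹ᵁ V.1).toScheme := hA
    haveI : IsAffine (j n ⁻¹ᵁ (S.π ⁻¹ᵁ V.1)).toScheme := by rw [hpre]; exact V.2.preimage (c n)
    refine IsClosedImmersion.of_surjective_of_isAffine _ ?_
    have hψsur : Function.Surjective ((ψ n).hom.app (op V.1)).hom := fun b => by
      obtain ⟨m, hm⟩ := hτs n V.1 V.2 b
      exact ⟨RelSpecLib.jsec S (RelSpecLib.symJ M) m, (congrArg (fun q : M ⟶ (F n).toModule => q.app V.1 m) (hψ n)).trans hm⟩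
    have hsur : Function.Surjective ((j n).appLE (S.π ⁻¹ᵁ V.1) (c n ⁻¹ᵁ V.1) hpre.ge).hom := by
      have h := RelSpecLib.gammaAff_algMap S (c n) (j n) (hjπ n) V.1 V.2
      rw [show RelSpecLib.algMap S (c n) (j n) (hjπ n) = (ψ n).hom from
        RelSpecLib.algMap_lift S _ _ (ψ n).comm] at h
      haveI := SpecQCAlg.isIso_gammaAff S V.1 V.2
      rw [← h]
      exact hψsur.comp (ConcreteCategory.bijective_of_isIso (S.gammaAff V.1 V.2)).2
    have hgenW : ∀ (W : S.spec.Opens) (e : c n ⁻¹ᵁ V.1 = j n ⁻¹ᵁ W), W = S.π ⁻¹ᵁ V.1 →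
        Function.Surjective ((j n).app W) := fun W e hW => by
      subst hW
      intro z
      obtain ⟨w, hw⟩ := hsur (((Y n).presheaf.map (eqToHom e).op).hom z)
      refine ⟨w, (ConcreteCategory.bijective_of_isIso ((Y n).presheaf.map (eqToHom e).op)).1 (hw ▸ ?_)⟩
      rw [Scheme.Hom.appLE, CommRingCat.comp_apply]
      rfl
    rw [morphismRestrict_appTop]
    refine (ConcreteCategory.bijective_of_isIso ((Y n).presheaf.map _)).2.comp ?_
    refine hgenW _ ?_ (Scheme.Opens.ι_image_top _)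
    rw [Scheme.Opens.ι_image_top, hpre]
  exact ⟨S.spec, S.π, j, ⟨fun U hU => RelSpecLib.isAffineOpen_preimage S U hU⟩,
    S8267.result M hM S (RelSpecLib.symJ M) hS, hjci, hjπ, hjt⟩

set_option maxHeartbeats 1600000 in
/-- Formal finite schemes with proper special fibre are algebraizable. -/
theorem exists_algebraize_finite {A : Type u} [CommRing A] [IsNoetherianRing A] {I : Ideal A} [IsAdicComplete I A]
    {X : Scheme.{u}} (f : X ⟶ Spec (CommRingCat.of A)) [IsSeparated f] [LocallyOfFiniteType f] [QuasiCompact f]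
    (Y : ℕ → Scheme.{u}) (y : (n : ℕ) → (Y n ⟶ CohB1.thick f I n)) (t : (n : ℕ) → (Y n ⟶ Y (n + 1)))
    (hy : ∀ n, IsFinite (y n))
    (ht : ∀ n, IsPullback (t n) (y n) (y (n + 1)) (CohB1.thickTrans f I n))
    (hp : IsProper (y 0 ≫ CohB1.thickToBase f I 0)) :
    ∃ (W : Scheme.{u}) (i : W ⟶ X) (w : (n : ℕ) → (Y n ⟶ W)), IsFinite i ∧
      IsProper (i ≫ f) ∧ (∀ n, w n = t n ≫ w (n + 1)) ∧ ∀ n, IsPullback (w n) (y n) i (CohB1.thickι f I n) := by
  classical
  letI : X.Over (Spec (CommRingCat.of A)) := ⟨f⟩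
  haveI : LocallyOfFiniteType (X ↘ Spec (CommRingCat.of A)) := ‹LocallyOfFiniteType f›
  haveI : IsSeparated (X ↘ Spec (CommRingCat.of A)) := ‹IsSeparated f›
  haveI : IsLocallyNoetherian X := LocallyOfFiniteType.isLocallyNoetherian f
  haveI : CompactSpace X := QuasiCompact.compactSpace_of_compactSpace f
  haveI : AlgebraicGeometry.IsNoetherian X := { }
  have hq : ∀ m : ℕ, IsClosedImmersion (CohB1.specQuot I m) := fun m =>
    IsClosedImmersion.spec_of_surjective _ Ideal.Quotient.mk_surjective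
  haveI := hq
  have hι : ∀ m : ℕ, IsClosedImmersion (CohB1.thickι f I m) := fun m =>
    inferInstanceAs (IsClosedImmersion (pullback.fst f (CohB1.specQuot I m)))
  haveI := hι
  haveI := hy
  let c : ∀ n, Y n ⟶ X := fun n => y n ≫ CohB1.thickι f I n
  haveI hcf : ∀ n, IsFinite (c n) := fun n => inferInstanceAs (IsFinite (y n ≫ CohB1.thickι f I n))
  have htι : ∀ n, CohB1.thickTrans f I n ≫ CohB1.thickι f I (n + 1) = CohB1.thickι f I n := fun n =>
    (pullback.lift_fst ..).trans (Category.comp_id _)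
  -- `Y_n` is cut out of `Y_{n+1}` by the thickening
  have hsq : ∀ n, IsPullback (t n) (y n) (c (n + 1)) (CohB1.thickι f I n) := fun n => by
    refine IsPullback.of_isLimit (c := PullbackCone.mk (t n) (y n)
      (by rw [← htι n, ← Category.assoc (y n), ← (ht n).w, Category.assoc])) ?_
    refine PullbackCone.IsLimit.mk _ (fun s => (ht n).lift s.fst s.snd ?_) (fun s => (ht n).lift_fst _ _ _)
      (fun s => (ht n).lift_snd _ _ _) fun s m h1 h2 => (ht n).hom_ext (h1.trans ((ht n).lift_fst _ _ _).symm)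
        (h2.trans ((ht n).lift_snd _ _ _).symm)
    refine (cancel_mono (CohB1.thickι f I (n + 1))).1 ?_
    rw [Category.assoc, Category.assoc, htι n]
    exact s.condition
  have htc : ∀ n, t n ≫ c (n + 1) = c n := fun n => (hsq n).w
  have hp0 : IsProper (c 0 ≫ f) := by
    haveI := hp
    have e : c 0 ≫ f = (y 0 ≫ CohB1.thickToBase f I 0) ≫ CohB1.specQuot I 0 :=
      (Category.assoc _ _ _).trans ((congrArg (y 0 ≫ ·) pullback.condition).trans (Category.assoc _ _ _).symm)
    rw [e]; infer_instance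
  obtain ⟨M, τ, hM, hτ, hτs⟩ := exists_coherent_cover (I := I) f y t c hsq htc hp0
  obtain ⟨V, π, j, haff, hlft, hjci, hjπ, hjt⟩ := exists_bundle t c htc hM τ hτ hτs
  haveI := haff
  haveI := hlft
  haveI := hjci
  let g := π ≫ f
  haveI hιg : ∀ m : ℕ, IsClosedImmersion (CohB1.thickι g I m) := fun m =>
    inferInstanceAs (IsClosedImmersion (pullback.fst g (CohB1.specQuot I m)))
  -- thickenings of the bundle
  let p : ∀ n, CohB1.thick g I n ⟶ CohB1.thick f I n := fun n =>
    pullback.lift (CohB1.thickι g I n ≫ π) (CohB1.thickToBase g I n) (by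
      rw [Category.assoc]; exact pullback.condition)
  have hpι : ∀ n, p n ≫ CohB1.thickι f I n = CohB1.thickι g I n ≫ π := fun n => pullback.lift_fst _ _ _
  have hpb : ∀ n, p n ≫ CohB1.thickToBase f I n = CohB1.thickToBase g I n := fun n => pullback.lift_snd _ _ _
  have hP : ∀ n, IsPullback (CohB1.thickι g I n) (p n) π (CohB1.thickι f I n) := fun n => by
    refine IsPullback.of_bot ?_ (hpι n).symm (IsPullback.of_hasPullback f (CohB1.specQuot I n))
    rw [show p n ≫ pullback.snd f (CohB1.specQuot I n) = CohB1.thickToBase g I n from hpb n]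
    exact IsPullback.of_hasPullback g (CohB1.specQuot I n)
  have htg : ∀ n, CohB1.thickTrans g I n ≫ CohB1.thickι g I (n + 1) = CohB1.thickι g I n := fun n =>
    (pullback.lift_fst ..).trans (Category.comp_id _)
  have hPt : ∀ n, IsPullback (CohB1.thickTrans g I n) (p n) (p (n + 1)) (CohB1.thickTrans f I n) := fun n => by
    refine IsPullback.of_right ?_ ((cancel_mono (CohB1.thickι f I (n + 1))).1 ?_) (hP (n + 1))
    · rw [htg, htι]; exact hP n
    · rw [Category.assoc, Category.assoc, hpι, htι, hpι, ← Category.assoc, htg]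
  let z : ∀ n, Y n ⟶ CohB1.thick g I n := fun n => (hP n).lift (j n) (y n) (hjπ n)
  have hzι : ∀ n, z n ≫ CohB1.thickι g I n = j n := fun n => (hP n).lift_fst _ _ _
  have hzp : ∀ n, z n ≫ p n = y n := fun n => (hP n).lift_snd _ _ _
  have hz : ∀ n, IsClosedImmersion (z n) := fun n => by
    haveI : IsClosedImmersion (z n ≫ CohB1.thickι g I n) := by rw [hzι]; infer_instance
    exact IsClosedImmersion.of_comp (z n) (CohB1.thickι g I n)
  have hzt : ∀ n, IsPullback (t n) (z n) (z (n + 1)) (CohB1.thickTrans g I n) := fun n => by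
    refine IsPullback.of_bot ?_ ((cancel_mono (CohB1.thickι g I (n + 1))).1 ?_) (hPt n)
    · rw [hzp, hzp]; exact ht n
    · rw [Category.assoc, Category.assoc, hzι, htg, hzι, hjt]
  have hz0 : IsProper (z 0 ≫ CohB1.thickToBase g I 0) := by
    rw [← hpb, ← Category.assoc, hzp]; exact hp
  obtain ⟨W, i, w, hi, hip, hw, hwp⟩ := exists_algebraize_closed (I := I) g Y z t hz hzt hz0
  haveI := hi
  haveI : IsProper ((i ≫ π) ≫ f) := by rw [Category.assoc]; exact hip
  haveI : IsProper (i ≫ π) := IsProper.of_comp (i ≫ π) f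
  refine ⟨W, i ≫ π, w, IsFinite.iff_isProper_and_isAffineHom.2 ⟨inferInstance, inferInstance⟩,
    inferInstance, hw, fun n => ?_⟩
  rw [← hzp n]
  exact (hwp n).paste_vert (hP n)

end Groth.Agent.FormalSys
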