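import Groth.Agent.FormalSysLib.KerTower
import Groth.Agent.AmpleEmb.Generated
import Groth.Agent.CurveLib.TensorExact
import Groth.Agent.DCohMore.TensorCoh
import Groth.Agent.QCohLib.Exact

/-!
# A coherent module surjecting onto a coherent formal module, in the ample case
-/

set_option autoImplicit false
set_option backward.isDefEq.respectTransparency false
set_option linter.unusedSectionVars false
set_option linter.style.haveILetI false

universe u

open CategoryTheory CategoryTheory.Limits AlgebraicGeometry TopologicalSpace Opposite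
open Groth.Agent.PullbackMod Groth.Agent.CohBase Groth.Agent.ProjCoh Groth.Agent.QCohLib

noncomputable section

namespace Groth.Agent.FormalSys

variable {X : Scheme.{u}}

/-- Global sections lift along a surjection whose kernel has no first cohomology. -/
theorem exists_lift_of_shortExact {S : ShortComplex X.Modules} (hS : S.ShortExact)
    [Subsingleton (Coh.HH X S.X₁ 1)] (σ : Coh.structureModule X ⟶ S.X₃) :
    ∃ τ : Coh.structureModule X ⟶ S.X₂, τ ≫ S.g = σ := by
  let e : ∀ M : X.Modules, Coh.HH X M 0 ≃+ Γ(M, ⊤) := fun M =>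
    (CohBase.HHEquiv M 0).trans (CohBase.H0Equiv (⊤ : X.Opens) (Coh.toAb M))
  have hS' := QCohLib.toAb_shortExact hS
  obtain ⟨c, hc⟩ := Abelian.Ext.covariant_sequence_exact₃ _ hS' ((e S.X₃).symm (AmpleLib.sec σ)) rfl
    (Subsingleton.elim (α := Coh.HH X S.X₁ 1) _ _)
  refine ⟨DCohLib.secHom S.X₂ (e S.X₂ c), DCohLib.hom_unit_ext ?_⟩
  show S.g.app ⊤ (AmpleLib.sec (DCohLib.secHom S.X₂ (e S.X₂ c))) = AmpleLib.sec σ
  rw [AmpleLib.sec_secHom]
  have h1 : e S.X₃ (Sheaf.H.map ((QCohLib.toAbF X).map S.g) 0 c) = S.g.app ⊤ (e S.X₂ c) := by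
    show H0Equiv ⊤ _ (HEquiv _ 0 (Sheaf.H.map _ 0 c)) = _
    rw [HEquiv_map, H0Equiv_hmap]
    rfl
  rw [← h1]
  exact (congrArg (e S.X₃) hc).trans (AddEquiv.apply_symm_apply _ _)

/-- The value of a map out of the structure module on stalks. -/
theorem stalkLin_secHom {M : X.Modules} (v : Γ(M, ⊤)) (x : X) :
    stalkLin (DCohLib.secHom M v) x (ParaFLib.oneG x) = M.presheaf.germ ⊤ x trivial v := by
  refine (stalkLin_germ (DCohLib.secHom M v) (U := ⊤) x trivial _).trans (congrArg _ ?_)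
  exact (DCohLib.secHom_app_one M v ⊤).trans (congr($(M.presheaf.map_id (op ⊤)) v))

/-- Finitely many sections of a coherent globally generated module generate. -/
theorem exists_stalkGen_sections [AlgebraicGeometry.IsNoetherian X] {M : X.Modules} (hM : Coh.IsCoh M)
    (hgg : Curv2.IsGloballyGenerated M) :
    ∃ (r : ℕ) (s : Fin r → (Coh.structureModule X ⟶ M)), StalkGen s := by
  classical
  obtain ⟨ι, p, hp⟩ := hgg
  let σ := SheafOfModules.freeHomEquiv (R := X.ringCatSheaf) M p
  let v : ι → Γ(M, ⊤) := fun i => (σ i).val (op ⊤)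
  have hspan : ∀ x : X, Submodule.span (X.presheaf.stalk x)
      (Set.range fun i => M.presheaf.germ ⊤ x trivial (v i)) = ⊤ := by
    intro x
    by_contra hne
    let P := Submodule.span (X.presheaf.stalk x) (Set.range fun i => M.presheaf.germ ⊤ x trivial (v i))
    have h0 : p ≫ toSky P.mkQ = 0 := by
      apply (SheafOfModules.freeHomEquiv _).injective
      funext i
      rw [SheafOfModules.freeHomEquiv_comp_apply]
      refine Subtype.ext (funext fun U => ?_)
      show (fun hx => P.mkQ (M.presheaf.germ U.unop x hx.down ((σ i).val U))) = _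
      funext hx
      rw [← (σ i).property (homOfLE (le_top : U.unop ≤ ⊤)).op]
      refine ((congrArg P.mkQ (M.presheaf.germ_res_apply (homOfLE (le_top : U.unop ≤ ⊤)) x hx.down (v i))).trans ?_)
      exact (Submodule.Quotient.mk_eq_zero _).2 (Submodule.subset_span ⟨i, rfl⟩)
    haveI := hp
    have h1 : toSky P.mkQ = 0 := (cancel_epi p).1 (h0.trans comp_zero.symm)
    refine hne (eq_top_iff.2 fun z _ => ?_)
    obtain ⟨U, hx, m, rfl⟩ := TopCat.Presheaf.exists_germ_eq M.presheaf z
    rw [← Submodule.Quotient.mk_eq_zero]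
    show P.mkQ (M.presheaf.germ U x hx m) = 0
    rw [← toSky_app P.mkQ U m ⟨hx⟩, h1]
    rfl
  -- finitely many
  obtain ⟨κ, hκ, V, hV, -, hcov⟩ := exists_finite_affine_cover (X := X) (V := ⊤) isCompact_univ
  haveI := Fintype.ofFinite κ
  have hfin : ∀ k, ∃ T : Finset ι, ∀ i, M.presheaf.map (homOfLE le_top).op (v i) ∈
      Submodule.span Γ(X, V k) ((fun i => M.presheaf.map (homOfLE (le_top : V k ≤ ⊤)).op (v i)) '' T) := by
    intro k
    haveI := isNoetherianRing_section (hV k)
    haveI := finite_sections_of_isCoh hM (hV k)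
    have hfg : (Submodule.span Γ(X, V k)
        ((fun i => M.presheaf.map (homOfLE (le_top : V k ≤ ⊤)).op (v i)) '' Set.univ)).FG :=
      IsNoetherian.noetherian _
    obtain ⟨s, hs1, hs2⟩ := Submodule.fg_span_iff_fg_span_finset_subset _ |>.1 hfg
    choose pre hpre using fun y : s => hs1 y.2
    refine ⟨Finset.univ.image pre, fun i => ?_⟩
    have hmem : M.presheaf.map (homOfLE (le_top : V k ≤ ⊤)).op (v i) ∈ Submodule.span Γ(X, V k)
        ((fun i => M.presheaf.map (homOfLE (le_top : V k ≤ ⊤)).op (v i)) '' Set.univ) :=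
      Submodule.subset_span (Set.mem_image_of_mem _ (Set.mem_univ i))
    rw [hs2] at hmem
    refine Submodule.span_mono ?_ hmem
    intro y hy
    exact ⟨pre ⟨y, hy⟩, by simp, (hpre ⟨y, hy⟩).2⟩
  choose T hT using hfin
  let T₀ := Finset.univ.biUnion T
  refine ⟨T₀.card, fun j => DCohLib.secHom M (v (T₀.equivFin.symm j).1), fun x z => ?_⟩
  obtain ⟨k, hk⟩ := Opens.mem_iSup.1 (hcov (show x ∈ (⊤ : X.Opens) from trivial))
  have hle : (Set.range fun i => M.presheaf.germ ⊤ x trivial (v i)) ⊆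
      Submodule.span (X.presheaf.stalk x)
        (Set.range fun j => M.presheaf.germ ⊤ x trivial (v (T₀.equivFin.symm j).1)) := by
    rintro _ ⟨i, rfl⟩
    refine (congrArg (fun z => z ∈ ((Submodule.span (X.presheaf.stalk x)
        (Set.range fun j => M.presheaf.germ ⊤ x trivial (v (T₀.equivFin.symm j).1))) : Set (M.presheaf.stalk x)))
      (M.presheaf.germ_res_apply (homOfLE (le_top : V k ≤ ⊤)) x hk (v i))).mp ?_
    refine Submodule.span_induction (fun y hy => ?_) ?_ (fun a b _ _ ha hb => ?_) (fun c a _ ha => ?_) (hT k i)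
    · obtain ⟨i', hi', rfl⟩ := hy
      refine Submodule.subset_span ⟨T₀.equivFin ⟨i', Finset.mem_biUnion.2 ⟨k, Finset.mem_univ _, hi'⟩⟩, ?_⟩
      simp only [Equiv.symm_apply_apply]
      exact (M.presheaf.germ_res_apply _ _ _ _).symm
    · rw [map_zero]
      exact zero_mem _
    · rw [map_add]
      exact add_mem ha hb
    · rw [ParaFLib.germ_smul']
      exact Submodule.smul_mem _ _ ha
  obtain ⟨c, hc⟩ := (Submodule.mem_span_range_iff_exists_fun _).1
    ((hspan x).symm.le.trans (Submodule.span_le.2 hle) (show z ∈ (⊤ : Submodule _ _) from trivial))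
  refine ⟨fun j => c j • ParaFLib.oneG x, ?_⟩
  rw [← hc]
  exact Finset.sum_congr rfl fun j _ => by rw [map_smul, stalkLin_secHom]

variable {A : Type u} [CommRing A] [IsNoetherianRing A] [X.Over (Spec (CommRingCat.of A))]
  [IsProper (X ↘ Spec (CommRingCat.of A))] [AlgebraicGeometry.IsNoetherian X] {I : Ideal A}

/-- A map onto a coherent formal module which is surjective at the bottom is surjective everywhere. -/
theorem surjective_of_bottom {G : ℕᵒᵖ ⥤ X.Modules} (hG : Formal.IsCohFormal I G) {E : X.Modules}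
    (τ : ∀ n, E ⟶ G.obj (op n)) (hτ : ∀ {n k : ℕ} (h : n ≤ k), τ k ≫ tr G h = τ n) {U : X.Opens}
    (hU : IsAffineOpen U) (h0 : Function.Surjective ((τ 0).app U)) (n : ℕ) :
    Function.Surjective ((τ n).app U) := by
  let R := LinearMap.range (appLinear (τ n) U)
  have h1 : (⊤ : Submodule Γ(X, U) Γ(G.obj (op n), U)) ≤ R ⊔ JU I U • ⊤ := fun y _ => by
    obtain ⟨e, he⟩ := h0 ((tr G (Nat.zero_le n)).app U y)
    refine Submodule.mem_sup.2 ⟨(τ n).app U e, ⟨e, rfl⟩, y - (τ n).app U e, ?_, add_sub_cancel _ _⟩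
    have h2 : y - (τ n).app U e ∈ LinearMap.ker (appLinear (tr G (Nat.zero_le n)) U) := by
      refine LinearMap.mem_ker.2 ?_
      show (tr G (Nat.zero_le n)).app U (y - (τ n).app U e) = 0
      rw [map_sub, sub_eq_zero, ← he, ← hτ (Nat.zero_le n)]
      rfl
    rwa [(app_tr hG _ hU).2, zero_add, pow_one] at h2
  have h3 : ∀ k : ℕ, (⊤ : Submodule Γ(X, U) Γ(G.obj (op n), U)) ≤ R ⊔ JU I U ^ k • ⊤ := fun k => by
    induction k with
    | zero =>
      rw [pow_zero, Ideal.one_eq_top, Submodule.top_smul]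
      exact le_sup_right
    | succ k ih =>
      refine ih.trans (sup_le le_sup_left ?_)
      refine (Submodule.smul_mono le_rfl h1).trans ?_
      rw [Submodule.smul_sup, ← mul_smul, ← pow_succ]
      exact sup_le (Submodule.smul_le_right.trans le_sup_left) le_sup_right
  have h4 := h3 (n + 1)
  rw [smul_top_eq_bot hG n hU, sup_bot_eq] at h4
  exact fun y => h4 (show y ∈ (⊤ : Submodule _ _) from trivial)

/-- Sections of a twist lift through the whole system. -/
theorem exists_compatible_sections {G : ℕᵒᵖ ⥤ X.Modules} (hG : Formal.IsCohFormal I G) {P : X.Modules}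
    (hP : PicF.IsInvertible P)
    (hvan : ∀ n, Subsingleton (Coh.HH X (CohB1.tensorMod (trKer G n) P) 1))
    (σ : Coh.structureModule X ⟶ (CurveLib.tensR P).obj (G.obj (op 0))) :
    ∃ s : ∀ n, Coh.structureModule X ⟶ (CurveLib.tensR P).obj (G.obj (op n)), s 0 = σ ∧
      ∀ {n k : ℕ} (h : n ≤ k), s k ≫ (CurveLib.tensR P).map (tr G h) = s n := by
  let T := CurveLib.tensR P
  have hstep : ∀ (n : ℕ) (σ : Coh.structureModule X ⟶ T.obj (G.obj (op n))),
      ∃ σ' : Coh.structureModule X ⟶ T.obj (G.obj (op (n + 1))), σ' ≫ T.map (tr G (Nat.le_succ n)) = σ := by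
    intro n σ
    let S : ShortComplex X.Modules :=
      ShortComplex.mk (kernel.ι (tr G (Nat.le_succ n))) (tr G (Nat.le_succ n)) (kernel.condition _)
    have hS : S.ShortExact := ShortComplex.ShortExact.mk' (ShortComplex.exact_of_f_is_kernel _ (kernelIsKernel _))
      (inferInstanceAs (Mono (kernel.ι _))) (epi_tr hG _)
    haveI : Subsingleton (Coh.HH X (S.map T).X₁ 1) := hvan n
    exact exists_lift_of_shortExact
      (CurveLib.shortExact_tensR hS (CurveLib.freeAt_one_of_isInvertible hP)) σ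
  choose lift hlift using hstep
  let s : ∀ n, Coh.structureModule X ⟶ T.obj (G.obj (op n)) := fun n =>
    Nat.rec (motive := fun n => Coh.structureModule X ⟶ T.obj (G.obj (op n))) σ (fun n σ => lift n σ) n
  refine ⟨s, rfl, fun {n k} h => ?_⟩
  induction h with
  | refl => rw [tr_refl, (CurveLib.tensR P).map_id, Category.comp_id]
  | @step k h ih =>
    rw [← tr_comp G h (Nat.le_succ k), (CurveLib.tensR P).map_comp, ← Category.assoc]
    show (lift k (s k) ≫ T.map _) ≫ _ = _
    rw [hlift, ih]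

set_option maxHeartbeats 1200000 in
/-- A coherent module surjecting compatibly onto all terms. -/
theorem exists_surjection_system {L : X.Modules} (hL : CohB1.IsAmple L) {G : ℕᵒᵖ ⥤ X.Modules}
    (hG : Formal.IsCohFormal I G) :
    ∃ (E : X.Modules) (τ : ∀ n, E ⟶ G.obj (op n)), Coh.IsCoh E ∧
      (∀ {n k : ℕ} (h : n ≤ k), τ k ≫ tr G h = τ n) ∧
      ∀ (n : ℕ) (U : X.Opens), IsAffineOpen U → Function.Surjective ((τ n).app U) := by
  obtain ⟨d₀, hvan⟩ := exists_vanishing_trKer hL hG 0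
  obtain ⟨d₁, hgg⟩ := AmpleEmb.eventually_isGloballyGenerated hL (hG.1 0)
  obtain ⟨P, hP, hPv, hPg⟩ : ∃ P : X.Modules, PicF.IsInvertible P ∧
      (∀ n, Subsingleton (Coh.HH X (CohB1.tensorMod (trKer G n) P) 1)) ∧
      Curv2.IsGloballyGenerated (CohB1.tensorMod (G.obj (op 0)) P) :=
    ⟨CohB1.tensorPow L (max d₀ d₁), AmpleLib.isInvertible_tensorPow hL.1 _,
      fun n => hvan n _ (le_max_left _ _), hgg _ (le_max_right _ _)⟩
  obtain ⟨Q, hQ, ⟨e⟩⟩ := AmpleEmb.exists_isInverseOf hP
  obtain ⟨r, s₀, hs₀⟩ := exists_stalkGen_sections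
    (CurveLib.isCoh_tmod (hG.1 0) (CurveLib.isCoh_of_isInvertible hP)) hPg
  choose s hs0 hs using fun j => exists_compatible_sections hG hP hPv (s₀ j)
  obtain ⟨Ψ⟩ : Nonempty (CurveLib.tensR P ⋙ CurveLib.tensR Q ≅ 𝟭 X.Modules) :=
    ⟨ModTensor.tensorAssoc X.sheaf P Q ≪≫ (DCoh.tensorBi (X := X)).flip.mapIso e ≪≫
      ModTensor.tensorUnitRight X.sheaf⟩
  let E₀ := (CurveLib.tensR Q).obj (Coh.structureModule X)
  let α : Fin r → ∀ n, E₀ ⟶ G.obj (op n) := fun j n =>
    (CurveLib.tensR Q).map (s j n) ≫ Ψ.hom.app (G.obj (op n))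
  have hα : ∀ j {n k : ℕ} (h : n ≤ k), α j k ≫ tr G h = α j n := fun j n k h => by
    show ((CurveLib.tensR Q).map (s j k) ≫ Ψ.hom.app _) ≫ tr G h = (CurveLib.tensR Q).map (s j n) ≫ Ψ.hom.app _
    rw [← hs j h, (CurveLib.tensR Q).map_comp, Category.assoc, Category.assoc]
    exact congrArg ((CurveLib.tensR Q).map (s j k) ≫ ·) (Ψ.hom.naturality (tr G h)).symm
  have hE₀ : Coh.IsCoh E₀ :=
    CurveLib.isCoh_tmod (DevLib.isCoh_structureModule X) (CurveLib.isCoh_of_isInvertible hQ)
  have hα0 : StalkGen fun j => α j 0 := fun x y => by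
    have hb := (isIso_iff_stalk (Ψ.hom.app (G.obj (op 0)))).1 inferInstance x
    obtain ⟨w, rfl⟩ := hb.2 y
    obtain ⟨z, rfl⟩ := hs₀.tensor Q x w
    refine ⟨z, ?_⟩
    rw [map_sum]
    refine Finset.sum_congr rfl fun j _ => ?_
    refine Eq.trans ?_ (LinearMap.congr_fun (stalkLin_comp _ _ x) (z j)).symm
    rw [hs0 j]
    rfl
  let τ : ∀ n, (∐ fun _ : Fin r => E₀) ⟶ G.obj (op n) := fun n => Sigma.desc fun j => α j n
  have hτ : ∀ {n k : ℕ} (h : n ≤ k), τ k ≫ tr G h = τ n := fun h =>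
    Sigma.hom_ext _ _ fun j => by simp only [τ, Sigma.ι_desc_assoc, Sigma.ι_desc, hα j h]
  refine ⟨_, τ, DCohMore.isCoh_sigma_fin _ hE₀ r, hτ, fun n U hU => surjective_of_bottom hG τ hτ hU (fun y => ?_) n⟩
  obtain ⟨z, rfl⟩ := exists_sum_app hE₀ (hG.1 0) _ hα0 hU y
  refine ⟨∑ j, (Sigma.ι (fun _ : Fin r => E₀) j).app U (z j), ?_⟩
  rw [map_sum]
  exact Finset.sum_congr rfl fun j _ => congr($(Sigma.ι_desc (fun j => α j 0) j).app U (z j))

end Groth.Agent.FormalSys
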