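import Groth.Agent.FormalSysLib.Sections
import Groth.Agent.HomLib.Completion

/-!
# Completion is fully faithful as soon as the sections of the homomorphism sheaf are formal
-/

set_option autoImplicit false
set_option backward.isDefEq.respectTransparency false
set_option linter.style.haveILetI false
set_option synthInstance.maxHeartbeats 100000
set_option maxHeartbeats 1000000

universe u

open CategoryTheory CategoryTheory.Limits AlgebraicGeometry TopologicalSpace Opposite
open Groth.Agent.CohBase Groth.Agent.ProjCoh Groth.Agent.PullbackMod Groth.Agent.FormalLib Groth.Agent.HomLib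

noncomputable section

namespace Groth.Agent.HomBij

variable {A : Type u} [CommRing A] {X : Scheme.{u}} [X.Over (Spec (CommRingCat.of A))] (I : Ideal A)
variable (M N : X.Modules)


section Bound

variable [AlgebraicGeometry.IsNoetherian X] {M N} (hM : Coh.IsCoh M) (hN : Coh.IsCoh N) {W : X.Opens} (hW : IsAffineOpen W)

/-- The ideal generated on an open. -/
abbrev IW (W : X.Opens) : Ideal Γ(X, W) := I.map (φV (cst A X) W)

include hW in
lemma π_eq_zero_iff' [AlgebraicGeometry.IsNoetherian X] (F : X.Modules) (hF : Coh.IsQCoh F) (n : ℕ) (s : Γ(F, W)) :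
    (Formal.modPowπ I n F).app W s = 0 ↔ s ∈ IW I W ^ n • (⊤ : Submodule Γ(X, W) Γ(F, W)) := by
  rw [← (FormalSys.app_modPowπ hF I n hW).2]
  exact Iff.rfl

include hM hN hW in
theorem exists_local_bound : ∃ c : ℕ,
    (∀ (k n : ℕ) (h : n ≤ k), n + c ≤ k → ∀ z : Γ(Formal.modPow I k (RefHull.homSh M N), W),
      (evn I M N k).app W z = 0 → (tr I (RefHull.homSh M N) h).app W z = 0) ∧
    ∀ (k n : ℕ) (h : n ≤ k), n + c ≤ k → ∀ ψ : Γ(P I M N k, W),
      ∃ z : Γ(Formal.modPow I n (RefHull.homSh M N), W), (evn I M N n).app W z = (T I M N h).app W ψ := by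
  haveI := hM.1
  haveI := QCohLib.finite_sections_of_isCoh hM hW
  haveI := QCohLib.finite_sections_of_isCoh hN hW
  haveI := QCohLib.isNoetherianRing_section hW
  obtain ⟨c, hc, hc'⟩ := exists_artinRees_hom (IW I W) (M := Γ(M, W)) (N := Γ(N, W))
  have hH := isQCoh_homSh hM hN.1
  refine ⟨c, fun k n h hk z hz => ?_, fun k n h hk ψ => ?_⟩
  · obtain ⟨f, rfl⟩ : ∃ f, (Formal.modPowπ I k (RefHull.homSh M N)).app W f = z :=
      (FormalSys.app_modPowπ hH I k hW).1 z
    have hmem := hc k (ev f le_rfl) fun m => by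
      rw [← π_eq_zero_iff' I hW N hN.1, ← ev_homMap]
      rw [show (RefFun.homMap M (Formal.modPowπ I k N)).app W f = 0 from
        (congr($(π_evn I M N k).app W f)).symm.trans hz]
      exact ext_germ _ _ fun x hx => by rw [germ_ev, map_zero]; rfl
    refine (congr($(π_tr I (RefHull.homSh M N) h).app W f)).trans ((π_eq_zero_iff' I hW _ hH n f).2 ?_)
    have := Submodule.mem_map_of_mem (f := (homEquiv hW M N).symm.toLinearMap) hmem
    rw [Submodule.map_smul''] at this
    rw [show f = (homEquiv hW M N).symm (ev f le_rfl) from ((homEquiv hW M N).symm_apply_apply f).symm]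
    exact Submodule.smul_mono (Ideal.pow_le_pow_right (by omega)) le_top this
  · obtain ⟨hs, -⟩ := FormalSys.app_modPowπ hN.1 I k hW
    let πk : Γ(N, W) →ₗ[Γ(X, W)] Γ(Formal.modPow I k N, W) :=
      { toFun := (Formal.modPowπ I k N).app W, map_add' := map_add ((Formal.modPowπ I k N).app W).hom,
        map_smul' := fun c s => Scheme.Modules.Hom.app_smul _ c s }
    have hker : LinearMap.ker πk = IW I W ^ k • ⊤ := by
      ext s
      exact π_eq_zero_iff' I hW N hN.1 k s
    let q : (Γ(N, W) ⧸ IW I W ^ k • (⊤ : Submodule Γ(X, W) Γ(N, W))) ≃ₗ[Γ(X, W)] Γ(Formal.modPow I k N, W) :=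
      (Submodule.quotEquivOfEq _ _ hker.symm).trans (πk.quotKerEquivOfSurjective hs)
    obtain ⟨g, hg⟩ := hc' k (q.symm.toLinearMap.comp (ev ψ le_rfl))
    refine ⟨(Formal.modPowπ I n _).app W ((homEquiv hW M N).symm g), ?_⟩
    refine (congr($(π_evn I M N n).app W ((homEquiv hW M N).symm g))).trans (ev_injective hW (LinearMap.ext fun m => ?_))
    rw [ev_homMap, ev_homMap, show ev ((homEquiv hW M N).symm g) le_rfl = g from (homEquiv hW M N).apply_symm_apply g]
    obtain ⟨y, hy⟩ : ∃ y : Γ(N, W), (Formal.modPowπ I k N).app W y = ev ψ le_rfl m := hs (ev ψ le_rfl m)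
    rw [← hy]
    refine Eq.trans ?_ (congr($(π_tr I N h).app W y)).symm
    have hd := hg m y (q.injective (by rw [LinearMap.comp_apply]; exact hy.trans (q.apply_symm_apply _).symm))
    have hd' := (π_eq_zero_iff' I hW N hN.1 n (g m - y)).2 (Submodule.smul_mono_left (Ideal.pow_le_pow_right (by omega)) hd)
    rw [map_sub, sub_eq_zero] at hd'
    exact hd'

end Bound

variable {M N} [AlgebraicGeometry.IsNoetherian X] (hM : Coh.IsCoh M) (hN : Coh.IsCoh N)

include hM hN

theorem exists_global_bound : ∃ c : ℕ, ∀ (k n : ℕ) (h : n ≤ k), n + c ≤ k →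
    kernel.ι (evn I M N k) ≫ tr I (RefHull.homSh M N) h = 0 ∧ T I M N h ≫ cokernel.π (evn I M N n) = 0 := by
  classical
  have hH := isQCoh_homSh hM hN.1
  have hP : ∀ n, Coh.IsQCoh (P I M N n) := fun n => isQCoh_homSh hM ((FormalSys.isCoh_modPow hN I n).1)
  have hQ : ∀ n, Coh.IsQCoh (Formal.modPow I n (RefHull.homSh M N)) := fun n => (FormalSys.isCoh_modPow (isCoh_homSh hM hN) I n).1
  obtain ⟨S, hS⟩ := isCompact_univ.elim_finite_subcover (fun W : X.affineOpens => (W.1 : Set X))
    (fun W => W.1.2) fun x _ => by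
      obtain ⟨_, ⟨W, hW, rfl⟩, hxW, -⟩ :=
        X.isBasis_affineOpens.exists_subset_of_mem_open (Set.mem_univ x) isOpen_univ
      exact Set.mem_iUnion.2 ⟨⟨W, hW⟩, hxW⟩
  choose c hc hc' using fun W : X.affineOpens => exists_local_bound I hM hN W.2
  refine ⟨S.sup c, fun k n h hk => ⟨?_, ?_⟩⟩
  · haveI : Coh.IsQCoh (kernel (evn I M N k)) := (QCohLib.isQCoh_image _ (hQ k) (hP k)).1
    refine eq_zero_of_cover _ fun x => ?_
    obtain ⟨W, hWS, hxW⟩ := Set.mem_iUnion₂.1 (hS (Set.mem_univ x))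
    exact ⟨W.1, W.2, hxW, fun s => hc W k n h (by have := Finset.le_sup (f := c) hWS; omega) _
      (congr($(kernel.condition (evn I M N k)).app W.1 s))⟩
  · haveI := hP k
    refine eq_zero_of_cover _ fun x => ?_
    obtain ⟨W, hWS, hxW⟩ := Set.mem_iUnion₂.1 (hS (Set.mem_univ x))
    refine ⟨W.1, W.2, hxW, fun s => ?_⟩
    obtain ⟨z, hz⟩ := hc' W k n h (by have := Finset.le_sup (f := c) hWS; omega) s
    show (cokernel.π (evn I M N n)).app W.1 ((T I M N h).app W.1 s) = 0
    rw [← hz]
    exact congr($(cokernel.condition (evn I M N n)).app W.1 z)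

/-- Sections of `ℋom(M, N)` against compatible sections of `ℋom(M, N/I^n N)`. -/
theorem exists_section
    (hinj : ∀ f : Γ(RefHull.homSh M N, (⊤ : X.Opens)),
      (∀ n, (Formal.modPowπ I (n + 1) (RefHull.homSh M N)).app ⊤ f = 0) → f = 0)
    (hsurj : ∀ s : ∀ n, Γ(Formal.modPow I (n + 1) (RefHull.homSh M N), (⊤ : X.Opens)),
      (∀ n, (Formal.modPowTrans I (n + 1) (RefHull.homSh M N)).app ⊤ (s (n + 1)) = s n) →
      ∃ f, ∀ n, (Formal.modPowπ I (n + 1) (RefHull.homSh M N)).app ⊤ f = s n)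
    (ψ : ∀ n, Γ(P I M N (n + 1), (⊤ : X.Opens)))
    (hψ : ∀ n k (h : n ≤ k), (T I M N (Nat.add_le_add_right h 1)).app ⊤ (ψ k) = ψ n) :
    ∃! f : Γ(RefHull.homSh M N, (⊤ : X.Opens)), ∀ n, (RefFun.homMap M (Formal.modPowπ I (n + 1) N)).app ⊤ f = ψ n := by
  obtain ⟨c, hc⟩ := exists_global_bound I hM hN
  let H := RefHull.homSh M N
  have l1 : ∀ n, n ≤ n + c := fun n => Nat.le_add_right n c
  let ρ : ∀ n, Abelian.image (evn I M N (n + c)) ⟶ Formal.modPow I n H := fun n =>
    (Abelian.coimageIsoImage _).inv ≫ cokernel.desc (kernel.ι _) (tr I H (l1 n)) (hc (n + c) n (l1 n) le_rfl).1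
  have hρ : ∀ n, Abelian.factorThruImage (evn I M N (n + c)) ≫ ρ n = tr I H (l1 n) := fun n => by
    have e : Abelian.factorThruImage (evn I M N (n + c)) =
        cokernel.π (kernel.ι (evn I M N (n + c))) ≫ (Abelian.coimageIsoImage (evn I M N (n + c))).hom := by
      rw [← cancel_mono (Abelian.image.ι (evn I M N (n + c))), Category.assoc, Abelian.image.fac]
      exact (Abelian.coimage_image_factorisation (evn I M N (n + c))).symm
    rw [e, Category.assoc, Iso.hom_inv_id_assoc]
    exact cokernel.π_desc _ _ _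
  let lft : ∀ n, P I M N (n + c + c) ⟶ Abelian.image (evn I M N (n + c)) := fun n =>
    kernel.lift _ (T I M N (l1 (n + c))) (hc (n + c + c) (n + c) (l1 (n + c)) le_rfl).2
  have hlft : ∀ n, lft n ≫ Abelian.image.ι (evn I M N (n + c)) = T I M N (l1 (n + c)) := fun n =>
    kernel.lift_ι _ _ _
  let σ : ∀ n, P I M N (n + c + c) ⟶ Formal.modPow I n H := fun n => lft n ≫ ρ n
  have hσev : ∀ n, σ n ≫ evn I M N n = T I M N ((l1 n).trans (l1 (n + c))) := fun n => by
    have h : ρ n ≫ evn I M N n = Abelian.image.ι (evn I M N (n + c)) ≫ T I M N (l1 n) := by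
      rw [← cancel_epi (Abelian.factorThruImage (evn I M N (n + c))), ← Category.assoc, hρ, ← Category.assoc,
        Abelian.image.fac, tr_evn]
    rw [Category.assoc, h, ← Category.assoc, hlft, T_comp]
  have hσnat : ∀ n, σ (n + 1) ≫ tr I H (Nat.le_succ n) =
      T I M N (show n + c + c ≤ n + 1 + c + c by omega) ≫ σ n := fun n => by
    have hz : (Abelian.image.ι (evn I M N (n + 1 + c)) ≫ T I M N (show n + c ≤ n + 1 + c by omega)) ≫
        cokernel.π (evn I M N (n + c)) = 0 := by
      rw [← cancel_epi (Abelian.factorThruImage (evn I M N (n + 1 + c))), comp_zero, ← Category.assoc,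
        ← Category.assoc, Abelian.image.fac, ← tr_evn, Category.assoc, cokernel.condition, comp_zero]
    let m : Abelian.image (evn I M N (n + 1 + c)) ⟶ Abelian.image (evn I M N (n + c)) := kernel.lift _ _ hz
    have hm : m ≫ Abelian.image.ι (evn I M N (n + c)) =
        Abelian.image.ι (evn I M N (n + 1 + c)) ≫ T I M N (show n + c ≤ n + 1 + c by omega) :=
      kernel.lift_ι _ _ _
    have hm1 : ρ (n + 1) ≫ tr I H (Nat.le_succ n) = m ≫ ρ n := by
      rw [← cancel_epi (Abelian.factorThruImage (evn I M N (n + 1 + c))), ← Category.assoc, hρ, tr_comp,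
        ← Category.assoc]
      have : Abelian.factorThruImage (evn I M N (n + 1 + c)) ≫ m =
          tr I H (show n + c ≤ n + 1 + c by omega) ≫ Abelian.factorThruImage (evn I M N (n + c)) := by
        rw [← cancel_mono (Abelian.image.ι (evn I M N (n + c))), Category.assoc, hm, ← Category.assoc,
          Abelian.image.fac, Category.assoc, Abelian.image.fac, tr_evn]
      rw [this, Category.assoc, hρ, tr_comp]
    have hm2 : lft (n + 1) ≫ m = T I M N (show n + c + c ≤ n + 1 + c + c by omega) ≫ lft n := by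
      rw [← cancel_mono (Abelian.image.ι (evn I M N (n + c))), Category.assoc, hm, ← Category.assoc, hlft,
        Category.assoc, hlft, T_comp, T_comp]
    show (lft (n + 1) ≫ ρ (n + 1)) ≫ _ = _ ≫ lft n ≫ ρ n
    rw [Category.assoc, hm1, ← Category.assoc, hm2, Category.assoc]
  let ψ' : ∀ n, Γ(P I M N (n + 1 + c + c), (⊤ : X.Opens)) := fun n =>
    (T I M N (show n + 1 + c + c ≤ n + c + c + 1 by omega)).app ⊤ (ψ (n + c + c))
  have hT : ∀ {a b d : ℕ} (h : a ≤ b) (h' : b ≤ d) (x : Γ(P I M N d, (⊤ : X.Opens))),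
      (T I M N h).app ⊤ ((T I M N h').app ⊤ x) = (T I M N (h.trans h')).app ⊤ x := fun h h' x =>
    congr($(T_comp I M N h h').app ⊤ x)
  have hψ' : ∀ n, (T I M N (show n + 1 + c + c ≤ n + 1 + 1 + c + c by omega)).app ⊤ (ψ' (n + 1)) = ψ' n := fun n => by
    have h1 := hψ (n + c + c) (n + 1 + c + c) (by omega)
    have h2 := hT (show n + 1 + c + c ≤ n + 1 + 1 + c + c by omega)
      (show n + 1 + 1 + c + c ≤ n + 1 + c + c + 1 by omega) (ψ (n + 1 + c + c))
    have h3 := hT (show n + 1 + c + c ≤ n + c + c + 1 by omega)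
      (show n + c + c + 1 ≤ n + 1 + c + c + 1 by omega) (ψ (n + 1 + c + c))
    exact h2.trans (h3.symm.trans (congrArg _ h1))
  have hcomp : ∀ {F G K : X.Modules} (a : F ⟶ G) (b : G ⟶ K) (x : Γ(F, (⊤ : X.Opens))),
      (a ≫ b).app ⊤ x = b.app ⊤ (a.app ⊤ x) := fun a b x => rfl
  obtain ⟨f, hf⟩ := hsurj (fun n => (σ (n + 1)).app ⊤ (ψ' n)) fun n => by
    have htr : Formal.modPowTrans I (n + 1) H = tr I H (Nat.le_succ (n + 1)) := rfl
    rw [htr, ← hcomp, hσnat (n + 1), hcomp, hψ' n]
  refine ⟨f, fun n => ?_, fun g hg => ?_⟩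
  · refine (congr($(π_evn I M N (n + 1)).app ⊤ f)).symm.trans ?_
    show (evn I M N (n + 1)).app ⊤ ((Formal.modPowπ I (n + 1) H).app ⊤ f) = ψ n
    rw [hf]
    refine (congr($(hσev (n + 1)).app ⊤ (ψ' n))).trans ?_
    rw [← hψ n (n + c + c) (by omega)]
    exact hT _ _ _
  · have h0 : ∀ n, (RefFun.homMap M (Formal.modPowπ I (n + 1) N)).app ⊤ (g - f) = 0 := fun n => by
      have hf' : (RefFun.homMap M (Formal.modPowπ I (n + 1) N)).app ⊤ f = ψ n := by
        refine (congr($(π_evn I M N (n + 1)).app ⊤ f)).symm.trans ?_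
        show (evn I M N (n + 1)).app ⊤ ((Formal.modPowπ I (n + 1) H).app ⊤ f) = ψ n
        rw [hf]
        refine (congr($(hσev (n + 1)).app ⊤ (ψ' n))).trans ?_
        rw [← hψ n (n + c + c) (by omega)]
        exact hT _ _ _
      rw [map_sub, hg n, hf', sub_self]
    refine sub_eq_zero.1 (hinj _ fun n => ?_)
    have hz : (evn I M N (n + c + 1)).app ⊤ ((Formal.modPowπ I (n + c + 1) H).app ⊤ (g - f)) = 0 :=
      (congr($(π_evn I M N (n + c + 1)).app ⊤ (g - f))).trans (h0 (n + c))
    obtain ⟨t, ht⟩ := QCohLib.kernel_app_exact (evn I M N (n + c + 1)) ⊤ _ hz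
    have hle : n + 1 ≤ n + c + 1 := by omega
    rw [show Formal.modPowπ I (n + 1) H = Formal.modPowπ I (n + c + 1) H ≫ tr I H hle from (π_tr I H hle).symm]
    show (tr I H hle).app ⊤ ((Formal.modPowπ I (n + c + 1) H).app ⊤ (g - f)) = 0
    rw [← ht]
    exact congr($((hc (n + c + 1) (n + 1) hle (by omega)).1).app ⊤ t)

omit hM hN in
/-- Completion is fully faithful when the sections of `ℋom(M, N)` are formal. -/
theorem existsUnique_of_completion_of_bijective (hM : Coh.IsCoh M) (hN : Coh.IsCoh N)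
    (hbij : Function.Bijective (Formal.toHHlim I (RefHull.homSh M N) 0))
    (τ : Formal.completion I M ⟶ Formal.completion I N) :
    ∃! φ : M ⟶ N, ∀ n : ℕ, Formal.modPowπ I (n + 1) M ≫ τ.app (op n) = φ ≫ Formal.modPowπ I (n + 1) N := by
  let H := RefHull.homSh M N
  let e : ∀ F : X.Modules, Coh.HH X F 0 ≃+ Γ(F, (⊤ : X.Opens)) := fun F =>
    (HHEquiv F 0).trans (H0Equiv (⊤ : X.Opens) (Coh.toAb F))
  have he : ∀ {F G : X.Modules} (f : F ⟶ G) (x : Coh.HH X F 0),
      e G (Sheaf.H.map ((SheafOfModules.toSheaf _).map f) 0 x) = f.app ⊤ (e F x) := fun {F G} f x => by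
    show H0Equiv (⊤ : X.Opens) (Coh.toAb G) (HEquiv (Coh.toAb G) 0 _) = _
    refine (congrArg _ (HEquiv_map ((SheafOfModules.toSheaf _).map f) 0 x)).trans ?_
    exact H0Equiv_hmap _ _ _
  let φn : ∀ n, M ⟶ Formal.modPow I (n + 1) N := fun n => Formal.modPowπ I (n + 1) M ≫ τ.app (op n)
  have hφn : ∀ n k (h : n ≤ k), φn k ≫ tr I N (Nat.add_le_add_right h 1) = φn n := fun n k h => by
    rw [← cTrans_eq_tr I N h, Category.assoc]
    have hnat : (Formal.completion I M).map (homOfLE h).op ≫ τ.app (op n) =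
        τ.app (op k) ≫ (Formal.completion I N).map (homOfLE h).op := τ.naturality _
    refine (congrArg (Formal.modPowπ I (k + 1) M ≫ ·) hnat.symm).trans ?_
    rw [← Category.assoc]
    exact congrArg (· ≫ τ.app (op n)) (map_completion I n k h M)
  have hof' : ∀ {G G' : X.Modules} (φ : M ⟶ G) (g : G ⟶ G'),
      (RefFun.homMap M g).app ⊤ (RefHull.ofHom φ ⊤) = RefHull.ofHom (φ ≫ g) ⊤ := fun φ g =>
    ext_stalk _ _ fun x hx => by
      rw [RefFun.homMap_app_apply, RefHull.ofHom_apply, RefHull.ofHom_apply, RefFun.stalkMapₗ_comp]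
  obtain ⟨f, hf, huniq⟩ := exists_section I hM hN
    (fun f hf => by
      obtain ⟨x, rfl⟩ := (e H).surjective f
      rw [show x = 0 from hbij.1 (Subtype.ext (funext fun n => (e _).injective (by
        refine (he _ x).trans ((hf n).trans ?_)
        rw [map_zero (Formal.toHHlim I H 0)]
        exact (map_zero (e _)).symm))), map_zero])
    (fun s hs => by
      obtain ⟨x, hx⟩ := hbij.2 ⟨fun n => (e _).symm (s n), fun n => (e _).injective (by
        refine (he _ _).trans ?_
        rw [AddEquiv.apply_symm_apply, AddEquiv.apply_symm_apply]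
        exact hs n)⟩
      exact ⟨e H x, fun n => (he _ x).symm.trans
        ((congrArg (e _) (congrFun (congrArg Subtype.val hx) n)).trans ((e _).apply_symm_apply _))⟩)
    (fun n => RefHull.ofHom (φn n) ⊤) (fun n k h => by rw [hof', hφn n k h])
  refine ⟨toHom f, fun n => ?_, fun φ hφ => ?_⟩
  · have h := hf n
    rw [← ofHom_toHom f, hof'] at h
    have h' := congrArg toHom h
    rw [toHom_ofHom, toHom_ofHom] at h'
    exact h'.symm
  · rw [← toHom_ofHom φ, huniq (RefHull.ofHom φ ⊤) fun n => by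
      show (RefFun.homMap M _).app ⊤ _ = RefHull.ofHom (φn n) ⊤
      rw [hof', ← hφ n]]

end Groth.Agent.HomBij
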