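import Groth.Agent.FormalSysLib.HomBij
import Groth.Agent.PullbackMod.FibreRank
import Groth.Agent.FactorOne.Basic
import Groth.Agent.CurveLib.Inv

/-!
# Homomorphism sheaves of finite locally free modules
-/

set_option autoImplicit false
set_option backward.isDefEq.respectTransparency false
set_option linter.style.haveILetI false

universe u

open CategoryTheory CategoryTheory.Limits AlgebraicGeometry TopologicalSpace Opposite
open Groth.Agent.CohBase Groth.Agent.ProjCoh Groth.Agent.QCohLib

noncomputable section

namespace Groth.Agent.HomBij

/-- Homomorphisms between finite projective modules form a finite projective module. -/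
theorem projective_linearMap {B : Type u} [CommRing B] {P Q : Type u} [AddCommGroup P] [Module B P] [AddCommGroup Q]
    [Module B Q] [Module.Finite B P] [Module.Projective B P] [Module.Projective B Q] :
    Module.Projective B (P →ₗ[B] Q) := by
  obtain ⟨n, π, hπ⟩ := Module.Finite.exists_fin' B P
  obtain ⟨s, hs⟩ := Module.projective_lifting_property π LinearMap.id hπ
  let e : ((Fin n → B) →ₗ[B] Q) ≃ₗ[B] DirectSum (Fin n) (fun _ => Q) :=
    ((Pi.basisFun B (Fin n)).constr B).symm.trans (DirectSum.linearEquivFunOnFintype B (Fin n) fun _ => Q).symm
  haveI : Module.Projective B ((Fin n → B) →ₗ[B] Q) := Module.Projective.of_equiv e.symm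
  exact Module.Projective.of_split (LinearMap.lcomp B Q π) (LinearMap.lcomp B Q s)
    (LinearMap.ext fun f => LinearMap.ext fun p => congrArg f (congr($hs p)))

/-- Homomorphism sheaves of finite locally free modules are finite locally free. -/
theorem isFinLocFree_homSh {X : Scheme.{u}} [AlgebraicGeometry.IsNoetherian X] {E E' : X.Modules}
    (hE : FlatMod.IsFinLocFree E) (hE' : FlatMod.IsFinLocFree E') : FlatMod.IsFinLocFree (RefHull.homSh E E') := by
  have hc := CurveLib.isCoh_of_isFinLocFree hE
  have hc' := CurveLib.isCoh_of_isFinLocFree hE'
  haveI := hc.1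
  haveI := (HomLib.isCoh_homSh hc hc').1
  refine PullbackMod.isFinLocFree_of_forall_affine _ fun {V} hV => ⟨finite_sections_of_isCoh (HomLib.isCoh_homSh hc hc') hV, ?_⟩
  haveI := finite_sections_of_isCoh hc hV
  haveI := FactorOne.projective_sections E hE hV
  haveI := FactorOne.projective_sections E' hE' hV
  haveI := projective_linearMap (B := Γ(X, V)) (P := Γ(E, V)) (Q := Γ(E', V))
  exact Module.Projective.of_equiv (HomLib.homEquiv hV E E').symm

end Groth.Agent.HomBij
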