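import Groth.Agent.FormalSysLib.UniformVan
import Groth.Agent.FormalSysLib.Tricky

/-!
# The tower of kernels of a coherent formal module
-/

set_option autoImplicit false
set_option linter.unusedSectionVars false
set_option linter.style.haveILetI false

universe u

open CategoryTheory CategoryTheory.Limits AlgebraicGeometry TopologicalSpace Opposite
open Groth.Agent.CohBase Groth.Agent.ProjCoh Groth.Agent.QCohLib

noncomputable section

namespace Groth.Agent.FormalSys

variable {A : Type u} [CommRing A] {X : Scheme.{u}} [X.Over (Spec (CommRingCat.of A))]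
  [AlgebraicGeometry.IsNoetherian X] {I : Ideal A} {G : ℕᵒᵖ ⥤ X.Modules}

lemma cst_mem_JU {a : A} (ha : a ∈ I) (U : X.Opens) : φV (FormalLib.cst A X) U a ∈ JU I U :=
  Ideal.mem_map_of_mem _ ha

/-- The kernels of the transition maps. -/
abbrev trKer (G : ℕᵒᵖ ⥤ X.Modules) (n : ℕ) : X.Modules := kernel (tr G (Nat.le_succ n))

theorem isCoh_trKer (hG : Formal.IsCohFormal I G) (n : ℕ) : Coh.IsCoh (trKer G n) :=
  (QCohLib.isCoh_kernel_cokernel _ (hG.1 (n + 1)) (hG.1 n)).1

theorem trKer_mem (hG : Formal.IsCohFormal I G) (n : ℕ) {U : X.Opens} (hU : IsAffineOpen U) (z : Γ(trKer G n, U)) :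
    (kernel.ι (tr G (Nat.le_succ n))).app U z ∈
      JU I U ^ (n + 1) • (⊤ : Submodule Γ(X, U) Γ(G.obj (op (n + 1)), U)) := by
  rw [← (app_tr hG (Nat.le_succ n) hU).2]
  exact congr($(kernel.condition (tr G (Nat.le_succ n))).app U z)

theorem exists_trKer_step (hG : Formal.IsCohFormal I G) {a : A} (ha : a ∈ I) (n : ℕ) :
    ∃ (l : G.obj (op (n + 1)) ⟶ G.obj (op (n + 1 + 1))) (μ : trKer G n ⟶ trKer G (n + 1)),
      tr G (Nat.le_succ (n + 1)) ≫ l = Formal.smulMod A _ a ∧
        μ ≫ kernel.ι (tr G (Nat.le_succ (n + 1))) = kernel.ι (tr G (Nat.le_succ n)) ≫ l := by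
  obtain ⟨l, hl⟩ := exists_desc_affine (tr G (Nat.le_succ (n + 1))) (Formal.smulMod A _ a)
    (fun U hU => (app_tr hG _ hU).1) fun U hU s hs => by
      rw [FormalLib.smulMod_app]
      have h1 : s ∈ LinearMap.ker (appLinear (tr G (Nat.le_succ (n + 1))) U) := hs
      rw [(app_tr hG _ hU).2] at h1
      have h2 := Submodule.smul_mem_smul (cst_mem_JU ha U) h1
      rw [← mul_smul, ← pow_succ', smul_top_eq_bot hG (n + 1 + 1) hU, Submodule.mem_bot] at h2
      exact h2
  refine ⟨l, kernel.lift _ (kernel.ι (tr G (Nat.le_succ n)) ≫ l) (hom_ext_affine fun U hU z => ?_), hl,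
    kernel.lift_ι _ _ _⟩
  have h1 := app_mem_smul l (trKer_mem hG n hU z)
  have h2 : ∀ w : Γ(G.obj (op (n + 1)), U), l.app U w ∈
      JU I U • (⊤ : Submodule Γ(X, U) Γ(G.obj (op (n + 1 + 1)), U)) := fun w => by
    obtain ⟨t, rfl⟩ := (app_tr hG (Nat.le_succ (n + 1)) hU).1 w
    rw [← app_comp_apply, hl, FormalLib.smulMod_app]
    exact Submodule.smul_mem_smul (cst_mem_JU ha U) trivial
  have h3 : l.app U ((kernel.ι (tr G (Nat.le_succ n))).app U z) ∈
      LinearMap.ker (appLinear (tr G (Nat.le_succ (n + 1))) U) := by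
    rw [(app_tr hG _ hU).2, pow_succ (JU I U) (n + 1), mul_smul]
    refine Submodule.smul_induction_on (trKer_mem hG n hU z) (fun b hb w _ => ?_) (fun x y hx hy => ?_)
    · rw [Scheme.Modules.Hom.app_smul]
      exact Submodule.smul_mem_smul hb (h2 w)
    · rw [map_add]
      exact add_mem hx hy
  exact h3

/-- The kernels of a coherent formal module form a generated tower. -/
theorem exists_trKer_tower (hG : Formal.IsCohFormal I G) :
    ∃ (r : ℕ) (m : Fin r → ∀ n, trKer G n ⟶ trKer G (n + 1)),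
      (∀ (j k : Fin r) (n : ℕ), m k n ≫ m j (n + 1) = m j n ≫ m k (n + 1)) ∧
        ∀ n, StalkGen fun j => m j n := by
  classical
  obtain ⟨L, hLI, hL⟩ := exists_gens (X := X) I
  let a : Fin L.card → A := fun j => (L.equivFin.symm j).1
  have ha : ∀ j, a j ∈ I := fun j => hLI (L.equivFin.symm j).2
  choose l μ hl hμ using fun j n => exists_trKer_step hG (ha j) n
  refine ⟨L.card, μ, fun j k n => ?_, fun n => stalkGen_of_affine _ fun U hU y => ?_⟩
  · refine (cancel_mono (kernel.ι (tr G (Nat.le_succ (n + 1 + 1))))).1 (hom_ext_affine fun U hU z => ?_)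
    simp only [Category.assoc, hμ]
    rw [← Category.assoc, ← Category.assoc, hμ, hμ]
    obtain ⟨t', ht'⟩ := (app_tr hG (Nat.le_succ (n + 1)) hU).1 ((kernel.ι (tr G (Nat.le_succ n))).app U z)
    obtain ⟨t, rfl⟩ := (app_tr hG (Nat.le_succ (n + 1 + 1)) hU).1 t'
    show (l j (n + 1)).app U ((l k n).app U ((kernel.ι (tr G (Nat.le_succ n))).app U z)) =
      (l k (n + 1)).app U ((l j n).app U ((kernel.ι (tr G (Nat.le_succ n))).app U z))
    rw [← ht']
    rw [← app_comp_apply (tr G (Nat.le_succ (n + 1))), hl, ← app_comp_apply (tr G (Nat.le_succ (n + 1))), hl,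
      FormalLib.smulMod_app, FormalLib.smulMod_app, Scheme.Modules.Hom.app_smul, Scheme.Modules.Hom.app_smul,
      ← app_comp_apply (tr G (Nat.le_succ (n + 1 + 1))), hl, ← app_comp_apply (tr G (Nat.le_succ (n + 1 + 1))), hl,
      FormalLib.smulMod_app, FormalLib.smulMod_app, smul_comm]
  · have h1 := trKer_mem hG (n + 1) hU y
    have hle : JU I U ≤ Ideal.span (Set.range fun j => φV (FormalLib.cst A X) U (a j)) := by
      refine (hL U hU).trans (Ideal.span_mono ?_)
      rintro _ ⟨x, hx, rfl⟩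
      exact ⟨L.equivFin ⟨x, hx⟩, by simp [a]⟩
    rw [pow_succ' (JU I U) (n + 1), mul_smul] at h1
    have h2 := Submodule.smul_mono_left hle h1
    obtain ⟨w, hw, hsum⟩ : ∃ w : Fin L.card → Γ(G.obj (op (n + 1 + 1)), U),
        (∀ j, w j ∈ JU I U ^ (n + 1) • (⊤ : Submodule Γ(X, U) Γ(G.obj (op (n + 1 + 1)), U))) ∧
          (kernel.ι (tr G (Nat.le_succ (n + 1)))).app U y = ∑ j, φV (FormalLib.cst A X) U (a j) • w j := by
      refine Submodule.smul_induction_on h2 (fun b hb v hv => ?_) ?_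
      · obtain ⟨c, rfl⟩ := Submodule.mem_span_range_iff_exists_fun _ |>.1 hb
        refine ⟨fun j => c j • v, fun j => Submodule.smul_mem _ _ hv, ?_⟩
        rw [Finset.sum_smul]
        exact Finset.sum_congr rfl fun j _ => by rw [smul_eq_mul, mul_comm, mul_smul]
      · rintro x x' ⟨w, hw, rfl⟩ ⟨w', hw', rfl⟩
        exact ⟨w + w', fun j => add_mem (hw j) (hw' j), by simp only [Pi.add_apply, smul_add, Finset.sum_add_distrib]⟩
    have hz : ∀ j, ∃ z, (kernel.ι (tr G (Nat.le_succ n))).app U z = (tr G (Nat.le_succ (n + 1))).app U (w j) :=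
      fun j => kernel_app_exact _ U _ (by
        have h3 : (tr G (Nat.le_succ (n + 1))).app U (w j) ∈ LinearMap.ker (appLinear (tr G (Nat.le_succ n)) U) := by
          rw [(app_tr hG _ hU).2]
          exact app_mem_smul _ (hw j)
        exact h3)
    choose z hz using hz
    refine ⟨z, app_injective_of_mono (kernel.ι (tr G (Nat.le_succ (n + 1)))) U ?_⟩
    rw [map_sum, hsum]
    refine Finset.sum_congr rfl fun j _ => ?_
    show _ = (μ j n ≫ kernel.ι _).app U (z j)
    rw [hμ, app_comp_apply, hz, ← app_comp_apply, hl, FormalLib.smulMod_app]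

/-- Uniform vanishing of the first cohomology of the kernels. -/
theorem exists_vanishing_trKer [IsNoetherianRing A] [IsProper (X ↘ Spec (CommRingCat.of A))] {L : X.Modules}
    (hL : CohB1.IsAmple L) (hG : Formal.IsCohFormal I G) (p : ℕ) :
    ∃ d₀ : ℕ, ∀ n d : ℕ, d₀ ≤ d →
      Subsingleton (Coh.HH X (CohB1.tensorMod (trKer G n) (CohB1.tensorPow L d)) (p + 1)) := by
  obtain ⟨r, m, hc, hm⟩ := exists_trKer_tower hG
  exact exists_uniform_vanishing (X ↘ Spec (CommRingCat.of A)) hL (isCoh_trKer hG) m hc hm p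

end Groth.Agent.FormalSys
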