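import Groth.Agent.FormalSysLib.Sys
import Groth.Agent.FormalSysLib.Tricky
import Groth.Prelude.Def_Formal2

/-!
# Kernels in the category of coherent formal modules
-/

set_option autoImplicit false
set_option linter.unusedSectionVars false
set_option linter.style.haveILetI false

universe u

open CategoryTheory CategoryTheory.Limits AlgebraicGeometry TopologicalSpace Opposite
open Groth.Agent.CohBase Groth.Agent.ProjCoh Groth.Agent.QCohLib

noncomputable section

namespace Groth.Agent.FormalSys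

variable {A : Type u} [CommRing A] {X : Scheme.{u}} [X.Over (Spec (CommRingCat.of A))]
  [AlgebraicGeometry.IsNoetherian X] {I : Ideal A}

/-- The stabilization bounds on an affine cover. -/
theorem exists_kernel_bound_cover {F G : ℕᵒᵖ ⥤ X.Modules} (hF : Formal.IsCohFormal I F)
    (hG : Formal.IsCohFormal I G) (α : F ⟶ G) {ι : Type u} [Finite ι] (V : ι → X.Opens)
    (hV : ∀ i, IsAffineOpen (V i)) :
    ∃ c : ℕ, (∀ (i : ι) (m k : ℕ) (h : m + c ≤ k) (x : Γ(F.obj (op (m + c)), V i)),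
        (α.app (op (m + c))).app (V i) x = 0 → ∃ y, (α.app (op k)).app (V i) y = 0 ∧
          (tr F ((Nat.le_add_right m c).trans h)).app (V i) y = (tr F (Nat.le_add_right m c)).app (V i) x) ∧
      ∀ (i : ι) (m k : ℕ) (h : m ≤ k) (x : Γ(F.obj (op (k + c)), V i)), (α.app (op (k + c))).app (V i) x = 0 →
        (tr F (h.trans (Nat.le_add_right k c))).app (V i) x = 0 →
        (tr F (Nat.le_add_right k c)).app (V i) x ∈ JU I (V i) ^ (m + 1 - c) •
          (LinearMap.ker (appLinear (α.app (op (k + c))) (V i))).map (appLinear (tr F (Nat.le_add_right k c)) (V i)) := by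
  classical
  haveI := Fintype.ofFinite ι
  have h1 : ∀ i, ∃ c : ℕ, (∀ (m k : ℕ) (h : m + c ≤ k),
        ∀ x ∈ LinearMap.ker (appLinear (α.app (op (m + c))) (V i)),
        ∃ y ∈ LinearMap.ker (appLinear (α.app (op k)) (V i)),
          appLinear (tr F ((Nat.le_add_right m c).trans h)) (V i) y = appLinear (tr F (Nat.le_add_right m c)) (V i) x) ∧
      ∀ (m k : ℕ) (h : m ≤ k), ∀ x ∈ LinearMap.ker (appLinear (α.app (op (k + c))) (V i)),
        appLinear (tr F (h.trans (Nat.le_add_right k c))) (V i) x = 0 →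
        appLinear (tr F (Nat.le_add_right k c)) (V i) x ∈ JU I (V i) ^ (m + 1 - c) •
          (LinearMap.ker (appLinear (α.app (op (k + c))) (V i))).map (appLinear (tr F (Nat.le_add_right k c)) (V i)) :=
    fun i => by
    haveI := isNoetherianRing_section (hV i)
    haveI : ∀ n, Module.Finite Γ(X, V i) Γ(F.obj (op n), V i) := fun n => finite_sections_of_isCoh (hF.1 n) (hV i)
    haveI : ∀ n, Module.Finite Γ(X, V i) Γ(G.obj (op n), V i) := fun n => finite_sections_of_isCoh (hG.1 n) (hV i)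
    exact exists_kernel_bound (JU I (V i)) (adic_sections hF (hV i)) (adic_sections hG (hV i))
      (fun n => appLinear (α.app (op n)) (V i)) (fun h x => congr($(tr_app α h).app (V i) x))
  choose c hc₁ hc₂ using h1
  set C := Finset.univ.sup c
  have hle : ∀ i, c i ≤ C := fun i => Finset.le_sup (Finset.mem_univ i)
  have push : ∀ (i : ι) {p q : ℕ} (hpq : p ≤ q) (x : Γ(F.obj (op q), V i)), (α.app (op q)).app (V i) x = 0 →
      (α.app (op p)).app (V i) ((tr F hpq).app (V i) x) = 0 := fun i p q hpq x hx => by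
    rw [show (α.app (op p)).app (V i) ((tr F hpq).app (V i) x) = (tr G hpq).app (V i) ((α.app (op q)).app (V i) x)
      from congr($(tr_app α hpq).app (V i) x), hx, map_zero]
  have trc : ∀ (i : ι) {l p q : ℕ} (h : l ≤ p) (h' : p ≤ q) (x : Γ(F.obj (op q), V i)),
      (tr F h).app (V i) ((tr F h').app (V i) x) = (tr F (h.trans h')).app (V i) x := fun i l p q h h' x =>
    congr($(tr_comp F h h').app (V i) x)
  refine ⟨C, fun i m k h x hx => ?_, fun i m k h x hx hx0 => ?_⟩
  · have hm : m + c i ≤ m + C := Nat.add_le_add_left (hle i) m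
    obtain ⟨y, hy, hy'⟩ := hc₁ i m k (hm.trans h) _ (push i hm x hx)
    exact ⟨y, hy, hy'.trans (trc i (Nat.le_add_right m (c i)) hm x)⟩
  · have hk : k + c i ≤ k + C := Nat.add_le_add_left (hle i) k
    have h2 := hc₂ i m k h _ (push i hk x hx) ((trc i (h.trans (Nat.le_add_right k (c i))) hk x).trans hx0)
    rw [show appLinear (tr F (Nat.le_add_right k (c i))) (V i) ((tr F hk).app (V i) x) =
      (tr F (Nat.le_add_right k C)).app (V i) x from trc i (Nat.le_add_right k (c i)) hk x] at h2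
    refine Submodule.smul_mono (Ideal.pow_le_pow_right (Nat.sub_le_sub_left (hle i) (m + 1))) ?_ h2
    rintro _ ⟨w, hw, rfl⟩
    obtain ⟨y, hy, hy'⟩ := hc₁ i k (k + C) hk w hw
    exact ⟨y, hy, hy'⟩

/-- A sequence with the right transition maps is a coherent formal module. -/
theorem isCohFormal_ofSeq {T : ℕ → X.Modules} (f : ∀ n, T (n + 1) ⟶ T n) (hT : ∀ n, Coh.IsCoh (T n))
    (h : ∀ (n : ℕ) (U : X.Opens), IsAffineOpen U → Function.Surjective ((f n).app U) ∧
      LinearMap.ker (appLinear (f n) U) = JU I U ^ (n + 1) • ⊤) :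
    Formal.IsCohFormal I (Functor.ofOpSequence f) :=
  isCohFormal_of_succ hT fun n U hU => by
    rw [tr_ofOpSequence_succ]
    exact h n U hU

/-- The stable images of the kernels. -/
structure KerData {F G : ℕᵒᵖ ⥤ X.Modules} (I : Ideal A) (α : F ⟶ G) where
  /-- The shift. -/
  c : ℕ
  /-- The objects. -/
  L : ℕ → X.Modules
  /-- The inclusions. -/
  jL : ∀ m, L m ⟶ F.obj (op m)
  hL : ∀ m, Coh.IsCoh (L m)
  hinj : ∀ (m : ℕ) (U : X.Opens), Function.Injective ((jL m).app U)
  out : ∀ (m : ℕ) {U : X.Opens}, IsAffineOpen U → ∀ l : Γ(L m, U), ∃ x : Γ(F.obj (op (m + c)), U),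
      (α.app (op (m + c))).app U x = 0 ∧ (tr F (Nat.le_add_right m c)).app U x = (jL m).app U l
  lift : ∀ (m k : ℕ) (h : m + c ≤ k) {T : X.Modules} (t : T ⟶ F.obj (op k)), t ≫ α.app (op k) = 0 →
      ∃ u : T ⟶ L m, u ≫ jL m = t ≫ tr F ((Nat.le_add_right m c).trans h)
  into : ∀ (m k : ℕ) (h : m + c ≤ k) (U : X.Opens) (x : Γ(F.obj (op k), U)), (α.app (op k)).app U x = 0 →
      ∃ l : Γ(L m, U), (jL m).app U l = (tr F ((Nat.le_add_right m c).trans h)).app U x
  /-- The transition maps. -/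
  Lt : ∀ {m k : ℕ}, m ≤ k → (L k ⟶ L m)
  hLt : ∀ {m k : ℕ} (h : m ≤ k), Lt h ≫ jL m = jL k ≫ tr F h
  hLts : ∀ {m k : ℕ} (h : m ≤ k) {U : X.Opens}, IsAffineOpen U → Function.Surjective ((Lt h).app U)
  hLtk : ∀ {m k : ℕ} (h : m ≤ k) {U : X.Opens}, IsAffineOpen U → ∀ l : Γ(L k, U), (Lt h).app U l = 0 →
      l ∈ JU I U ^ (m + 1 - c) • (⊤ : Submodule Γ(X, U) Γ(L k, U))

set_option maxHeartbeats 1600000 in
theorem exists_kerData {F G : ℕᵒᵖ ⥤ X.Modules} (hF : Formal.IsCohFormal I F) (hG : Formal.IsCohFormal I G)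
    (α : F ⟶ G) : Nonempty (KerData I α) := by
  obtain ⟨ι, _, V, hV, -, hcov⟩ := exists_finite_affine_cover (X := X) (V := ⊤) isCompact_univ
  obtain ⟨c, hc₁, hc₂⟩ := exists_kernel_bound_cover hF hG α V hV
  let α' : ∀ n, F.obj (op n) ⟶ G.obj (op n) := fun n => α.app (op n)
  let g : ∀ m, kernel (α' (m + c)) ⟶ F.obj (op m) := fun m => kernel.ι (α' (m + c)) ≫ tr F (Nat.le_add_right m c)
  have hgc : ∀ m, Coh.IsCoh (kernel (α' (m + c))) := fun m => (isCoh_kernel_cokernel _ (hF.1 _) (hG.1 _)).1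
  let L : ℕ → X.Modules := fun m => kernel (cokernel.π (g m))
  have hL : ∀ m, Coh.IsCoh (L m) := fun m =>
    (isCoh_kernel_cokernel _ (hF.1 m) (isCoh_kernel_cokernel (g m) (hgc m) (hF.1 m)).2).1
  let jL : ∀ m, L m ⟶ F.obj (op m) := fun m => kernel.ι (cokernel.π (g m))
  have hjL : ∀ m, Mono (jL m) := fun m => inferInstanceAs (Mono (kernel.ι _))
  have trc : ∀ (U : X.Opens) {l p q : ℕ} (h : l ≤ p) (h' : p ≤ q) (x : Γ(F.obj (op q), U)),
      (tr F h).app U ((tr F h').app U x) = (tr F (h.trans h')).app U x := fun U l p q h h' x =>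
    congr($(tr_comp F h h').app U x)
  have push : ∀ (U : X.Opens) {p q : ℕ} (hpq : p ≤ q) (x : Γ(F.obj (op q), U)), (α' q).app U x = 0 →
      (α' p).app U ((tr F hpq).app U x) = 0 := fun U p q hpq x hx => by
    rw [show (α' p).app U ((tr F hpq).app U x) = (tr G hpq).app U ((α' q).app U x)
      from congr($(tr_app α hpq).app U x), hx, map_zero]
  have out : ∀ (m : ℕ) {U : X.Opens}, IsAffineOpen U → ∀ l : Γ(L m, U), ∃ x : Γ(F.obj (op (m + c)), U),
      (α' (m + c)).app U x = 0 ∧ (tr F (Nat.le_add_right m c)).app U x = (jL m).app U l := fun m U hU l => by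
    obtain ⟨t, ht⟩ := (FormalLib.cokernel_app (g m) (hgc m).1 (hF.1 m).1 hU).2 _
      congr($(kernel.condition (cokernel.π (g m))).app U l)
    exact ⟨(kernel.ι (α' (m + c))).app U t, congr($(kernel.condition (α' (m + c))).app U t), ht⟩
  have into : ∀ (m k : ℕ) (h : m + c ≤ k) (U : X.Opens) (x : Γ(F.obj (op k), U)), (α' k).app U x = 0 →
      ∃ l : Γ(L m, U), (jL m).app U l = (tr F ((Nat.le_add_right m c).trans h)).app U x := fun m k h U x hx => by
    obtain ⟨t, ht⟩ := kernel_app_exact (α' (m + c)) U _ (push U h x hx)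
    obtain ⟨l, hl⟩ := kernel_app_exact (cokernel.π (g m)) U ((g m).app U t) congr($(cokernel.condition (g m)).app U t)
    refine ⟨l, hl.trans ?_⟩
    show (tr F (Nat.le_add_right m c)).app U ((kernel.ι (α' (m + c))).app U t) = _
    rw [ht, trc]
  have hLt' : ∀ {m k : ℕ} (h : m ≤ k), ∃ t : L k ⟶ L m, t ≫ jL m = jL k ≫ tr F h := fun {m k} h => by
    refine ⟨kernel.lift _ (jL k ≫ tr F h) (hom_ext_affine fun U hU l => ?_), kernel.lift_ι _ _ _⟩
    obtain ⟨x, hx, hx'⟩ := out k hU l
    obtain ⟨l', hl'⟩ := into m (k + c) (by omega) U x hx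
    show (cokernel.π (g m)).app U ((tr F h).app U ((jL k).app U l)) = 0
    rw [← hx', trc, ← hl']
    exact congr($(kernel.condition (cokernel.π (g m))).app U l')
  choose Lt hLt using @hLt'
  have hLt_app : ∀ {m k : ℕ} (h : m ≤ k) (U : X.Opens) (l : Γ(L k, U)),
      (jL m).app U ((Lt h).app U l) = (tr F h).app U ((jL k).app U l) := fun h U l => congr($(hLt h).app U l)
  have hinj : ∀ (m : ℕ) (U : X.Opens), Function.Injective ((jL m).app U) := fun m U =>
    @app_injective_of_mono _ _ _ (jL m) (hjL m) U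
  have hLts : ∀ {m k : ℕ} (h : m ≤ k) {U : X.Opens}, IsAffineOpen U → Function.Surjective ((Lt h).app U) :=
    fun {m k} h U hU => surjective_of_cover (Lt h) (hL k).1 (hL m).1 V hV hcov (fun i l => by
      obtain ⟨x, hx, hx'⟩ := out m (hV i) l
      obtain ⟨y, hy, hy'⟩ := hc₁ i m (k + c) (by omega) x hx
      obtain ⟨l', hl'⟩ := into k (k + c) le_rfl (V i) y hy
      refine ⟨l', hinj m _ ?_⟩
      rw [hLt_app, hl', trc, ← hx']
      exact hy') hU
  have hLtk : ∀ {m k : ℕ} (h : m ≤ k) {U : X.Opens}, IsAffineOpen U → ∀ l : Γ(L k, U), (Lt h).app U l = 0 →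
      l ∈ JU I U ^ (m + 1 - c) • (⊤ : Submodule Γ(X, U) Γ(L k, U)) := by
    intro m k h U hU l hl
    refine (π_app_mem (hL k) (m + 1 - c) hU).1 ?_
    refine vanish_of_cover (Lt h) (Formal.modPowπ I (m + 1 - c) (L k)) (hL k).1 (hL m).1 V hV hcov (fun i l hl => ?_) l hl
    refine (π_app_mem (hL k) (m + 1 - c) (hV i)).2 ?_
    obtain ⟨x, hx, hx'⟩ := out k (hV i) l
    have h1 := hc₂ i m k h x hx (by
      rw [← trc (V i) h (Nat.le_add_right k c), hx', ← hLt_app, hl, map_zero])
    have h2 : (JU I (V i) ^ (m + 1 - c) • (⊤ : Submodule Γ(X, V i) Γ(L k, V i))).map (appLinear (jL k) (V i)) =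
        JU I (V i) ^ (m + 1 - c) •
          (LinearMap.ker (appLinear (α.app (op (k + c))) (V i))).map (appLinear (tr F (Nat.le_add_right k c)) (V i)) := by
      rw [Submodule.map_smul'']
      congr 1
      refine le_antisymm ?_ ?_
      · rintro _ ⟨l', -, rfl⟩
        obtain ⟨y, hy, hy'⟩ := out k (hV i) l'
        exact ⟨y, hy, hy'⟩
      · rintro _ ⟨y, hy, rfl⟩
        obtain ⟨l', hl'⟩ := into k (k + c) le_rfl (V i) y hy
        exact ⟨l', trivial, hl'⟩
    rw [← h2, hx'] at h1
    obtain ⟨l', hl', hll'⟩ := h1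
    rwa [← hinj k (V i) hll']
  refine ⟨⟨c, L, jL, hL, hinj, fun m {U} hU l => out m hU l, fun m k h {T} t ht => ?_, into,
    fun {m k} h => Lt h, fun {m k} h => hLt h, fun {m k} h {U} hU => hLts h hU, fun {m k} h {U} hU => hLtk h hU⟩⟩
  refine ⟨kernel.lift _ _ (hom_ext_affine fun U hU s => ?_), kernel.lift_ι _ _ _⟩
  obtain ⟨l, hl⟩ := into m k h U (t.app U s) congr($(ht).app U s)
  show (cokernel.π (g m)).app U ((tr F _).app U (t.app U s)) = 0
  rw [← hl]
  exact congr($(kernel.condition (cokernel.π (g m))).app U l)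

set_option maxHeartbeats 1600000 in
/-- Coherent formal modules have kernels. -/
theorem exists_kernel_system {F G : ℕᵒᵖ ⥤ X.Modules} (hF : Formal.IsCohFormal I F) (hG : Formal.IsCohFormal I G)
    (α : F ⟶ G) :
    ∃ (K : ℕᵒᵖ ⥤ X.Modules) (ι : K ⟶ F), Formal.IsCohFormal I K ∧ ι ≫ α = 0 ∧
      (∃ d : ℕ, ∀ (n : ℕ) (U : X.Opens), IsAffineOpen U → ∀ x : Γ(F.obj (op (n + d)), U),
        (α.app (op (n + d))).app U x = 0 →
          (tr F (Nat.le_add_right n d)).app U x ∈ Set.range ((ι.app (op n)).app U)) ∧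
      ∀ (H : ℕᵒᵖ ⥤ X.Modules), Formal.IsCohFormal I H →
        (∀ δ : H ⟶ F, δ ≫ α = 0 → ∃ e : H ⟶ K, e ≫ ι = δ) ∧ ∀ e e' : H ⟶ K, e ≫ ι = e' ≫ ι → e = e' := by
  obtain ⟨⟨c, L, jL, hL, hinj, out, lift, into, Lt, hLt, hLts, hLtk⟩⟩ := exists_kerData hF hG α
  let α' : ∀ n, F.obj (op n) ⟶ G.obj (op n) := fun n => α.app (op n)
  have trc : ∀ (U : X.Opens) {l p q : ℕ} (h : l ≤ p) (h' : p ≤ q) (x : Γ(F.obj (op q), U)),
      (tr F h).app U ((tr F h').app U x) = (tr F (h.trans h')).app U x := fun U l p q h h' x =>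
    congr($(tr_comp F h h').app U x)
  have push : ∀ (U : X.Opens) {p q : ℕ} (hpq : p ≤ q) (x : Γ(F.obj (op q), U)), (α' q).app U x = 0 →
      (α' p).app U ((tr F hpq).app U x) = 0 := fun U p q hpq x hx => by
    rw [show (α' p).app U ((tr F hpq).app U x) = (tr G hpq).app U ((α' q).app U x)
      from congr($(tr_app α hpq).app U x), hx, map_zero]
  have hLt_app : ∀ {m k : ℕ} (h : m ≤ k) (U : X.Opens) (l : Γ(L k, U)),
      (jL m).app U ((Lt h).app U l) = (tr F h).app U ((jL k).app U l) := fun h U l => congr($(hLt h).app U l)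
  -- the system
  obtain ⟨Kob, p, hKob, hp, hp0, hkill⟩ : ∃ (Kob : ℕ → X.Modules) (p : ∀ n, L (n + c) ⟶ Kob n),
      (∀ n, Coh.IsCoh (Kob n) ∧ Formal.KilledBy (I ^ (n + 1)) (Kob n)) ∧
      (∀ (n : ℕ) {U : X.Opens}, IsAffineOpen U → Function.Surjective ((p n).app U)) ∧
      (∀ (n : ℕ) {U : X.Opens}, IsAffineOpen U → ∀ l : Γ(L (n + c), U), (p n).app U l = 0 ↔
        l ∈ JU I U ^ (n + 1) • (⊤ : Submodule Γ(X, U) Γ(L (n + c), U))) ∧
      ∀ (n : ℕ) (T : X.Modules), Formal.KilledBy (I ^ (n + 1)) T → ∀ (f : L (n + c) ⟶ T),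
        ∃ d : Kob n ⟶ T, p n ≫ d = f := by
    refine ⟨fun n => (Formal.completion I (L (n + c))).obj (op n), fun n => cπ I (L (n + c)) n, fun n =>
      ⟨(isCohFormal_completion (hL _) I).1 n, (isCohFormal_completion (hL _) I).2.1 n⟩,
      fun n {U} hU => (app_cπ (hL _) n hU).1, fun n {U} hU l => cπ_app_mem (hL _) n hU,
      fun n T hT f => exists_desc_affine _ _ (fun U hU => (app_cπ (hL _) n hU).1) fun U hU l hl => ?_⟩
    have h1 := app_mem_smul f ((cπ_app_mem (hL _) n hU).1 hl)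
    rwa [JU_pow_smul_eq_bot hT hU, Submodule.mem_bot] at h1
  choose kt hkt using fun n : ℕ => exists_desc_affine (p (n + 1))
    (Lt (show n + c ≤ n + 1 + c by omega) ≫ p n) (fun U hU => hp (n + 1) hU) fun U hU l hl => by
      refine (hp0 n hU _).2 ?_
      exact Submodule.smul_mono (Ideal.pow_le_pow_right (Nat.le_succ _)) le_rfl
        (app_mem_smul _ ((hp0 (n + 1) hU l).1 hl))
  let K : ℕᵒᵖ ⥤ X.Modules := Functor.ofOpSequence (X := Kob) kt
  have hK : Formal.IsCohFormal I K := isCohFormal_ofSeq kt (fun n => (hKob n).1) fun n U hU => by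
    have e : ∀ l, (kt n).app U ((p (n + 1)).app U l) =
        (p n).app U ((Lt (show n + c ≤ n + 1 + c by omega)).app U l) := fun l => congr($(hkt n).app U l)
    refine ⟨fun y => ?_, le_antisymm (fun y hy => ?_) ?_⟩
    · obtain ⟨l, rfl⟩ := hp n hU y
      obtain ⟨l', rfl⟩ := hLts (show n + c ≤ n + 1 + c by omega) hU l
      exact ⟨_, e l'⟩
    · obtain ⟨l, rfl⟩ := hp (n + 1) hU y
      have hy1 := LinearMap.mem_ker.1 hy
      have h1 := (hp0 n hU _).1 (show (p n).app U ((Lt (show n + c ≤ n + 1 + c by omega)).app U l) = 0 by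
        rw [← e]; exact hy1)
      rw [← map_smul_top (Lt (show n + c ≤ n + 1 + c by omega)) (hLts _ hU)] at h1
      obtain ⟨j, hj, hj'⟩ := h1
      have h2 := hLtk (show n + c ≤ n + 1 + c by omega) hU (l - j) (by
        rw [map_sub, sub_eq_zero]
        exact hj'.symm)
      rw [show n + c + 1 - c = n + 1 by omega] at h2
      have h3 := app_mem_smul (p (n + 1)) (add_mem h2 hj)
      rwa [sub_add_cancel] at h3
    · rw [← map_smul_top (p (n + 1)) (hp (n + 1) hU)]
      rintro _ ⟨l, hl, rfl⟩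
      exact (e l).trans ((hp0 n hU _).2 (app_mem_smul _ hl))
  choose io hio using fun n => hkill n (F.obj (op n)) (hF.2.1 n) (jL (n + c) ≫ tr F (Nat.le_add_right n c))
  have hio_app : ∀ (n : ℕ) (U : X.Opens) (l : Γ(L (n + c), U)),
      (io n).app U ((p n).app U l) = (tr F (Nat.le_add_right n c)).app U ((jL (n + c)).app U l) := fun n U l =>
    congr($(hio n).app U l)
  have htrK : ∀ {n k : ℕ} (h : n ≤ k) {U : X.Opens}, IsAffineOpen U → ∀ l : Γ(L (k + c), U),
      (tr K h).app U ((p k).app U l) =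
        (p n).app U ((Lt (show n + c ≤ k + c by omega)).app U l) := fun {n k} h => by
    induction h with
    | refl =>
      intro U _ l
      rw [tr_refl]
      exact congrArg ((p n).app U) (hinj _ U ((hLt_app _ U l).trans (by rw [tr_refl]; rfl)).symm)
    | @step j h ih =>
      intro U hU l
      rw [← tr_comp K h (Nat.le_succ j), tr_ofOpSequence_succ]
      show (tr K h).app U ((kt j).app U ((p (j + 1)).app U l)) = _
      rw [show (kt j).app U ((p (j + 1)).app U l) = (p j).app U ((Lt (show j + c ≤ j + 1 + c by omega)).app U l) from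
        congr($(hkt j).app U l), ih hU]
      refine congrArg ((p n).app U) (hinj _ U ?_)
      rw [hLt_app, hLt_app, hLt_app, trc]
  obtain ⟨ιK, hιK⟩ := exists_natTrans (F := K) (G := F) io fun {n k} h => hom_ext_affine fun U hU y => by
    obtain ⟨l, rfl⟩ := hp k hU y
    show (io n).app U ((tr K h).app U ((p k).app U l)) = (tr F h).app U ((io k).app U ((p k).app U l))
    rw [htrK h hU, hio_app, hio_app, hLt_app, trc, trc]
  refine ⟨K, ιK, hK, ?_, ⟨c + c, fun n U _ x hx => ?_⟩, fun H hH => ⟨fun δ hδ => ?_, fun e e' he => ?_⟩⟩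
  · ext n : 2
    obtain ⟨n, rfl⟩ : ∃ m, n = op m := ⟨n.unop, rfl⟩
    rw [NatTrans.comp_app, hιK]
    refine hom_ext_affine fun U hU y => ?_
    obtain ⟨l, rfl⟩ := hp n hU y
    obtain ⟨x, hx, hx'⟩ := out (n + c) hU l
    show (α' n).app U ((io n).app U ((p n).app U l)) = 0
    rw [hio_app, ← hx', trc]
    exact push U _ x hx
  · obtain ⟨l, hl⟩ := into (n + c) (n + (c + c)) (by omega) U x hx
    refine ⟨(p n).app U l, ?_⟩
    refine (congr($(hιK n).app U ((p n).app U l))).trans ((hio_app n U l).trans ?_)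
    rw [hl, trc]
  · have hδc : ∀ k : ℕ, δ.app (op k) ≫ α.app (op k) = 0 := fun k =>
      (NatTrans.comp_app δ α (op k)).symm.trans (congrArg (fun t : H ⟶ G => t.app (op k)) hδ)
    have hδ0 : ∀ (k : ℕ) (U : X.Opens) (s : Γ(H.obj (op k), U)), (α' k).app U ((δ.app (op k)).app U s) = 0 :=
      fun k U s => congr($(hδc k).app U s)
    have hcomp : ∀ n, ∃ e : H.obj (op n) ⟶ Kob n, ∀ (k : ℕ) (hk : n + c + c ≤ k) (U : X.Opens), IsAffineOpen U →
        ∀ (s : Γ(H.obj (op k), U)) (l : Γ(L (n + c), U)),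
          (jL (n + c)).app U l = (tr F (show n + c ≤ k by omega)).app U ((δ.app (op k)).app U s) →
          e.app U ((tr H (show n ≤ k by omega)).app U s) = (p n).app U l := by
      intro n
      obtain ⟨u, hu⟩ := lift (n + c) (n + c + c) le_rfl (δ.app (op (n + c + c)))
        (hδc _)
      obtain ⟨e, he⟩ := exists_desc_tr hH (show n ≤ n + c + c by omega) (hKob n).2 (u ≫ p n)
      refine ⟨e, fun k hk U hU s l hl => ?_⟩
      rw [← tr_comp H (show n ≤ n + c + c by omega) hk, app_comp_apply,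
        ← app_comp_apply (tr H (show n ≤ n + c + c by omega)) e, he]
      refine congrArg ((p n).app U) (hinj _ U ?_)
      rw [hl]
      refine Eq.trans (congr($hu |>.app U ((tr H hk).app U s))) ?_
      show (tr F (Nat.le_add_right (n + c) c)).app U ((δ.app (op (n + c + c))).app U ((tr H hk).app U s)) = _
      rw [show (δ.app (op (n + c + c))).app U ((tr H hk).app U s) = (tr F hk).app U ((δ.app (op k)).app U s) from
        congr($(tr_app δ hk).app U s), trc]
    choose e he using hcomp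
    obtain ⟨E, hE⟩ := exists_natTrans (F := H) (G := K) e fun {n m} h => by
      haveI := epi_tr hH (show m ≤ m + c + c by omega)
      refine (cancel_epi (tr H (show m ≤ m + c + c by omega))).1 (hom_ext_affine fun U hU s => ?_)
      obtain ⟨l, hl⟩ := into (m + c) (m + c + c) le_rfl U _ (hδ0 (m + c + c) U s)
      show (e n).app U ((tr H h).app U ((tr H _).app U s)) = (tr K h).app U ((e m).app U ((tr H _).app U s))
      rw [he m (m + c + c) le_rfl U hU s l hl, htrK h hU,
        show (tr H h).app U ((tr H (show m ≤ m + c + c by omega)).app U s) =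
          (tr H (show n ≤ m + c + c by omega)).app U s from congr($(tr_comp H h _).app U s)]
      refine he n (m + c + c) (by omega) U hU s _ ?_
      rw [hLt_app, hl, trc]
    refine ⟨E, ?_⟩
    ext n : 2
    obtain ⟨n, rfl⟩ : ∃ m, n = op m := ⟨n.unop, rfl⟩
    rw [NatTrans.comp_app, hE, hιK]
    haveI := epi_tr hH (show n ≤ n + c + c by omega)
    refine (cancel_epi (tr H (show n ≤ n + c + c by omega))).1 (hom_ext_affine fun U hU s => ?_)
    obtain ⟨l, hl⟩ := into (n + c) (n + c + c) le_rfl U _ (hδ0 (n + c + c) U s)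
    show (io n).app U ((e n).app U ((tr H _).app U s)) = (δ.app (op n)).app U ((tr H _).app U s)
    rw [he n (n + c + c) le_rfl U hU s l hl, hio_app, hl, trc]
    exact congr($(tr_app δ (show n ≤ n + c + c by omega)).app U s).symm
  · ext n : 2
    obtain ⟨n, rfl⟩ : ∃ m, n = op m := ⟨n.unop, rfl⟩
    haveI := epi_tr hH (Nat.le_add_right n c)
    refine (cancel_epi (tr H (Nat.le_add_right n c))).1 (hom_ext_affine fun U hU s => sub_eq_zero.1 ?_)
    let z : Γ(Kob (n + c), U) := (e.app (op (n + c))).app U s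
    let z' : Γ(Kob (n + c), U) := (e'.app (op (n + c))).app U s
    obtain ⟨l, hl⟩ := hp (n + c) hU (z - z')
    have hzz : (io (n + c)).app U z = (io (n + c)).app U z' :=
      (congr($(hιK (n + c)).app U z)).symm.trans
        ((congr($(congrArg (fun t : H ⟶ F => t.app (op (n + c))) he).app U s)).trans congr($(hιK (n + c)).app U z'))
    have h0 : (io (n + c)).app U ((p (n + c)).app U l) = 0 := by
      rw [hl, map_sub, sub_eq_zero]
      exact hzz
    rw [hio_app] at h0
    have h1 : (Lt (Nat.le_add_right (n + c) c)).app U l = 0 := by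
      refine hinj _ U ?_
      rw [hLt_app, h0, map_zero]
    have h2 := hLtk (Nat.le_add_right (n + c) c) hU l h1
    rw [show n + c + 1 - c = n + 1 by omega] at h2
    have h3 : (tr K (Nat.le_add_right n c)).app U ((p (n + c)).app U l) = 0 :=
      (htrK (Nat.le_add_right n c) hU l).trans ((hp0 n hU _).2 (app_mem_smul _ h2))
    rw [hl] at h3
    refine Eq.trans ?_ ((map_sub ((tr K (Nat.le_add_right n c)).app U).hom z z').symm.trans h3)
    exact congrArg₂ (· - ·) congr($(tr_app e (Nat.le_add_right n c)).app U s)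
      congr($(tr_app e' (Nat.le_add_right n c)).app U s)

theorem hasKernels_cohFormalCat (I : Ideal A) : HasKernels (Formal2.CohFormalCat I X) where
  has_limit {F G} f := by
    obtain ⟨K, ι, hK, hι, -, hu⟩ := exists_kernel_system F.property G.property f.hom
    let K' : Formal2.CohFormalCat I X := ⟨K, hK⟩
    let ι' : K' ⟶ F := ObjectProperty.homMk ι
    choose lift hlift using fun (W : Formal2.CohFormalCat I X) (δ : W ⟶ F) (hδ : δ ≫ f = 0) =>
      (hu W.obj W.property).1 δ.hom (congrArg (·.hom) hδ)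
    exact ⟨⟨⟨KernelFork.ofι (f := f) ι' (ObjectProperty.hom_ext _ hι),
      KernelFork.IsLimit.ofι _ _ (fun {W} δ hδ => ObjectProperty.homMk (lift W δ hδ))
        (fun {W} δ hδ => ObjectProperty.hom_ext _ (hlift W δ hδ))
        (fun {W} δ hδ m hm => ObjectProperty.hom_ext _
          ((hu W.obj W.property).2 _ _ ((congrArg (·.hom) hm).trans (hlift W δ hδ).symm)))⟩⟩⟩

end Groth.Agent.FormalSys
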