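import Groth.Agent.FormalSysLib.ClosedSub
import Groth.Agent.DCohLib.Restrict
import Mathlib.AlgebraicGeometry.ZariskisMainTheorem

/-!
# Algebraization of morphisms
-/

set_option autoImplicit false
set_option linter.unusedSectionVars false
set_option linter.style.haveILetI false

universe u

open CategoryTheory CategoryTheory.Limits AlgebraicGeometry TopologicalSpace Opposite
open Groth.Agent.CohBase Groth.Agent.ProjCoh Groth.Agent.QCohLib

noncomputable section

namespace Groth.Agent.FormalSys

variable {A : Type u} [CommRing A] [IsNoetherianRing A] {I : Ideal A} [IsAdicComplete I A]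

theorem thick_ext {T X : Scheme.{u}} {t : X ⟶ Spec (CommRingCat.of A)} {n : ℕ} {a b : T ⟶ CohB1.thick t I n}
    (h1 : a ≫ CohB1.thickι t I n = b ≫ CohB1.thickι t I n)
    (h2 : a ≫ CohB1.thickToBase t I n = b ≫ CohB1.thickToBase t I n) : a = b :=
  pullback.hom_ext h1 h2

theorem app_comp_eq_zero_iff {T W X : Scheme.{u}} {q : T ⟶ W} {p : W ⟶ X} {r : T ⟶ X} (h : q ≫ p = r)
    (V : X.Opens) (b : Γ(X, V)) : r.app V b = 0 ↔ q.app (p ⁻¹ᵁ V) (p.app V b) = 0 := by
  subst h
  rfl

theorem exists_app_comp {T W X : Scheme.{u}} {q : T ⟶ W} {p : W ⟶ X} {r : T ⟶ X} (h : q ≫ p = r)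
    [IsClosedImmersion r] {V : X.Opens} (hV : IsAffineOpen V) (c : Γ(W, p ⁻¹ᵁ V)) :
    ∃ b, q.app (p ⁻¹ᵁ V) (p.app V b) = q.app (p ⁻¹ᵁ V) c := by
  subst h
  exact (q ≫ p).app_surjective V hV (q.app (p ⁻¹ᵁ V) c)

set_option maxHeartbeats 800000 in
/-- A proper morphism to a proper scheme that is an isomorphism on all thickenings is one. -/
theorem isIso_of_thick {X : Scheme.{u}} (f : X ⟶ Spec (CommRingCat.of A)) [IsProper f] {W : Scheme.{u}}
    (p : W ⟶ X) [IsProper p] (w : ∀ n, CohB1.thick f I n ⟶ W)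
    (hw : ∀ n, IsPullback (w n) (𝟙 _) p (CohB1.thickι f I n)) : IsIso p := by
  letI : X.Over (Spec (CommRingCat.of A)) := ⟨f⟩
  haveI : IsProper (X ↘ Spec (CommRingCat.of A)) := ‹IsProper f›
  haveI : IsLocallyNoetherian X := LocallyOfFiniteType.isLocallyNoetherian f
  haveI : CompactSpace X := QuasiCompact.compactSpace_of_compactSpace f
  haveI : AlgebraicGeometry.IsNoetherian X := { }
  haveI : IsClosedImmersion (CohB1.specQuot I 0) :=
    IsClosedImmersion.spec_of_surjective _ Ideal.Quotient.mk_surjective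
  haveI : ∀ n, IsClosedImmersion (CohB1.thickι f I n) := fun n => by
    haveI : IsClosedImmersion (CohB1.specQuot I n) :=
      IsClosedImmersion.spec_of_surjective _ Ideal.Quotient.mk_surjective
    exact inferInstanceAs (IsClosedImmersion (pullback.fst f (CohB1.specQuot I n)))
  have hwp : ∀ n, w n ≫ p = CohB1.thickι f I n := fun n => (hw n).w.trans (Category.id_comp _)
  -- finiteness
  have hover : ∀ x : X, I ≤ (f x).asIdeal → x ∈ Set.range (CohB1.thickι f I 0) := fun x hx => by
    show x ∈ Set.range (pullback.fst f (CohB1.specQuot I 0))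
    rw [Scheme.Pullback.range_fst]
    show f x ∈ Set.range (PrimeSpectrum.comap (Ideal.Quotient.mk (I ^ (0 + 1))))
    rw [range_comap_of_surjective _ _ Ideal.Quotient.mk_surjective, Ideal.mk_ker, pow_one]
    exact hx
  have hrange : Set.range (w 0) = p ⁻¹' Set.range (CohB1.thickι f I 0) := by
    ext a
    refine ⟨?_, fun ⟨u, hu⟩ => ?_⟩
    · rintro ⟨u, rfl⟩
      exact ⟨u, (congr($(hwp 0) u)).symm⟩
    · obtain ⟨b, hb⟩ : a ∈ Set.range (pullback.fst p (CohB1.thickι f I 0)) := by
        rw [Scheme.Pullback.range_fst]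
        exact ⟨u, hu⟩
      refine ⟨(hw 0).isoPullback.inv b, ?_⟩
      rw [← Scheme.Hom.comp_apply, IsPullback.isoPullback_inv_fst]
      exact hb
  have hqf : ∀ a : W, I ≤ (f (p a)).asIdeal → a ∈ p.quasiFiniteLocus := fun a ha => by
    rw [Scheme.Hom.mem_quasiFiniteLocus, Scheme.Hom.quasiFiniteAt_iff_isOpen_singleton_asFiber]
    have hsub : ∀ b : W, p b = p a → b = a := fun b hb => by
      obtain ⟨v, rfl⟩ := (hrange.ge (hover (p a) ha) : a ∈ Set.range (w 0))
      obtain ⟨u, rfl⟩ := (hrange.ge (show p b ∈ Set.range (CohB1.thickι f I 0) by rw [hb]; exact hover _ ha) :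
        b ∈ Set.range (w 0))
      refine congrArg (w 0) ((CohB1.thickι f I 0).isClosedEmbedding.injective ?_)
      exact (congr($(hwp 0) u)).symm.trans (hb.trans (congr($(hwp 0) v)))
    haveI : Subsingleton (p.fiber (p a)) := by
      refine (p.fiberHomeo (p a)).toEquiv.subsingleton_congr.2 ⟨fun b c => Subtype.ext ?_⟩
      rw [hsub b.1 b.2, hsub c.1 c.2]
    exact isOpen_discrete _
  haveI : IsFinite p := by
    haveI : LocallyQuasiFinite p := by
      rw [← Scheme.Hom.quasiFiniteLocus_eq_top_iff, eq_top_iff]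
      intro a _
      by_contra ha
      have hcl : IsClosed ((p ≫ f) '' (p.quasiFiniteLocus : Set W)ᶜ) :=
        (p ≫ f).isClosedMap _ p.quasiFiniteLocus.2.isClosed_compl
      obtain ⟨q, ⟨b, hb, rfl⟩, hq⟩ := hcl.exists_closed_singleton ⟨_, a, ha, rfl⟩
      have hmax : (((p ≫ f) b).asIdeal : Ideal A).IsMaximal :=
        (PrimeSpectrum.isClosed_singleton_iff_isMaximal _).1 hq
      exact hb (hqf b ((IsAdicComplete.le_jacobson_bot I).trans (sInf_le ⟨bot_le, hmax⟩)))
    exact IsFinite.of_isProper_of_locallyQuasiFinite p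
  haveI : IsLocallyNoetherian W := LocallyOfFiniteType.isLocallyNoetherian p
  -- the structure map on modules
  let O := Coh.structureModule X
  let M := (Scheme.Modules.pushforward p).obj (Coh.structureModule W)
  have hO : Coh.IsCoh O := DevLib.isCoh_structureModule X
  have hM : Coh.IsCoh M := RpushLib.isCoh_push p (DevLib.isCoh_structureModule W)
  let η : O ⟶ M := DCohLib.secHom M (show Γ(M, ⊤) from (1 : Γ(W, p ⁻¹ᵁ ⊤)))
  have hη : ∀ (U : X.Opens) (a : Γ(X, U)),
      (show Γ(W, p ⁻¹ᵁ U) from η.app U (show Γ(O, U) from a)) = p.app U a := fun U a => by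
    have h0 : (show Γ(O, U) from a) = a • (show Γ(O, U) from (1 : Γ(X, U))) := (mul_one a).symm
    refine (congrArg (η.app U) h0).trans ?_
    rw [Scheme.Modules.Hom.app_smul, DCohLib.secHom_app_one]
    show p.app U a * W.presheaf.map ((Opens.map p.base).map (homOfLE (le_top : U ≤ ⊤))).op (1 : Γ(W, p ⁻¹ᵁ ⊤)) = p.app U a
    rw [map_one, mul_one]
  have hps : ∀ N : X.Modules, Coh.IsCoh N → PropSupp A N := fun N hN =>
    ClSubLib.isProperOver_subset _
      ((ClSubLib.isProperOver_iff (X ↘ Spec (CommRingCat.of A)) (𝟙 X) (Z := Set.univ) Set.range_id).2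
        (by rw [Category.id_comp]; infer_instance))
      (PullbackMod.isClosed_support_of_isFT hN.2) (Set.subset_univ _)
  -- surjectivity
  have hsurj : ∀ U : X.Opens, IsAffineOpen U → Function.Surjective (η.app U) := fun U hU c => by
    obtain ⟨-, hC⟩ := isCoh_kernel_cokernel η hO hM
    refine (FormalLib.cokernel_app η hO.1 hM.1 hU).2 c ?_
    refine eq_zero_of_reduction_eq_zero (I := I) hC (hps _ hC) (fun V hV d => ?_) U _
    obtain ⟨c', rfl⟩ := (FormalLib.cokernel_app η hO.1 hM.1 hV).1 d
    have hcl : IsClosedImmersion (CohB1.thickι f I 0 ∣_ V) :=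
      IsZariskiLocalAtTarget.restrict (P := @IsClosedImmersion) (‹∀ n, IsClosedImmersion (CohB1.thickι f I n)› 0) _
    obtain ⟨-, hk⟩ := RelDivLib.closed_and_ker_pullback (hw 0).flip hV hcl (hV.preimage p) le_rfl
    have hk0 : RingHom.ker ((CohB1.thickι f I 0).app V).hom = JU I V ^ (0 + 1) := ker_thickι I 0 ⟨V, hV⟩
    rw [← Scheme.Hom.app_eq_appLE, hk0, zero_add, pow_one] at hk
    obtain ⟨b, hb⟩ := exists_app_comp (hwp 0) hV (show Γ(W, p ⁻¹ᵁ V) from c')
    have hmem : (show Γ(W, p ⁻¹ᵁ V) from c') - p.app V b ∈ (JU I V).map (p.app V).hom := by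
      rw [← hk, RingHom.mem_ker, map_sub, sub_eq_zero]
      exact hb.symm
    have h1' : ∀ z ∈ (JU I V).map (p.app V).hom, ∀ r : Γ(W, p ⁻¹ᵁ V),
        (show Γ(M, V) from r * z) ∈ JU I V • (⊤ : Submodule Γ(X, V) Γ(M, V)) := fun z hz => by
      induction hz using Submodule.span_induction with
      | mem z hz =>
        obtain ⟨j, hj, rfl⟩ := hz
        intro r
        have e : (show Γ(M, V) from r * p.app V j) = j • (show Γ(M, V) from r) := mul_comm r (p.app V j)
        exact e ▸ Submodule.smul_mem_smul hj trivial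
      | zero => intro r; rw [mul_zero]; exact zero_mem _
      | add a b _ _ ha hb => intro r; rw [mul_add]; exact add_mem (ha r) (hb r)
      | smul c z _ hz => intro r; rw [smul_eq_mul, ← mul_assoc]; exact hz (r * c)
    have h1 : ∀ z ∈ (JU I V).map (p.app V).hom,
        (show Γ(M, V) from z) ∈ JU I V • (⊤ : Submodule Γ(X, V) Γ(M, V)) := fun z hz => by
      have h := h1' z hz 1
      rwa [one_mul] at h
    have h2 := h1 _ hmem
    rw [show (show Γ(M, V) from (show Γ(W, p ⁻¹ᵁ V) from c') - p.app V b) =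
      c' - η.app V (show Γ(O, V) from b) by rw [← hη]; rfl] at h2
    refine (cπ_app_mem hC 0 hV).2 ?_
    have h3 := app_mem_smul (cokernel.π η) h2
    rw [map_sub, show (cokernel.π η).app V (η.app V (show Γ(O, V) from b)) = 0 from
      congr($(cokernel.condition η).app V _), sub_zero] at h3
    simpa using h3
  -- injectivity
  have hinj : ∀ U : X.Opens, IsAffineOpen U → Function.Injective (η.app U) := fun U hU => by
    obtain ⟨hK, -⟩ := isCoh_kernel_cokernel η hO hM
    obtain ⟨φ, -, hu⟩ := existsUnique_of_completion_proper (I := I) hK hO 0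
    have hz : kernel.ι η = 0 := by
      refine (hu _ fun n => ?_).trans (hu _ fun n => ?_).symm
      · refine comp_zero.trans (hom_ext_affine fun V hV k => ?_).symm
        show (cπ I O n).app V ((kernel.ι η).app V k) = 0
        rw [cπ_app_mem hO n hV, mem_smul_structure, ← ker_thickι I n ⟨V, hV⟩, RingHom.mem_ker]
        have h1 : p.app V (show Γ(X, V) from (kernel.ι η).app V k) = 0 := by
          rw [← hη]
          exact congr($(kernel.condition η).app V k)
        refine (app_comp_eq_zero_iff (hwp n) V _).2 ?_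
        rw [h1, map_zero]
      · exact comp_zero.trans zero_comp.symm
    refine (injective_iff_map_eq_zero _).2 fun s hs => ?_
    obtain ⟨k, rfl⟩ := kernel_app_exact η U s hs
    rw [hz]
    rfl
  rw [← MorphismProperty.isomorphisms.iff,
    IsZariskiLocalAtTarget.iff_of_iSup_eq_top (P := MorphismProperty.isomorphisms Scheme) _
      (AlgebraicGeometry.iSup_affineOpens_eq_top X)]
  intro U
  show IsIso (p ∣_ U.1)
  rw [isIso_morphismRestrict_iff_isIso_app p U.2, ConcreteCategory.isIso_iff_bijective]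
  refine ⟨fun a b h => ?_, fun c => ?_⟩
  · exact hinj U.1 U.2 ((hη U.1 a).trans (h.trans (hη U.1 b).symm))
  · obtain ⟨a, ha⟩ := hsurj U.1 U.2 c
    exact ⟨a, (hη U.1 a).symm.trans ha⟩

/-- Compatible systems of morphisms are algebraizable. -/
theorem exists_algebraize_hom {X Y : Scheme.{u}} (f : X ⟶ Spec (CommRingCat.of A))
    (h : Y ⟶ Spec (CommRingCat.of A)) [IsProper f] [IsSeparated h] [LocallyOfFiniteType h]
    [QuasiCompact h] (g : (n : ℕ) → (CohB1.thick f I n ⟶ CohB1.thick h I n))
    (hg₁ : ∀ n, g n ≫ CohB1.thickToBase h I n = CohB1.thickToBase f I n)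
    (hg₂ : ∀ n, CohB1.thickTrans f I n ≫ g (n + 1) = g n ≫ CohB1.thickTrans h I n) :
    ∃ φ : X ⟶ Y, φ ≫ h = f ∧ ∀ n, CohB1.thickι f I n ≫ φ = g n ≫ CohB1.thickι h I n := by
  let s := pullback.fst f h ≫ f
  haveI : IsSeparated s := inferInstance
  haveI : LocallyOfFiniteType s := inferInstance
  haveI : QuasiCompact s := inferInstance
  have hgw : ∀ n, CohB1.thickι f I n ≫ f = (g n ≫ CohB1.thickι h I n) ≫ h := fun n => by
    rw [Category.assoc, show CohB1.thickι h I n ≫ h = CohB1.thickToBase h I n ≫ CohB1.specQuot I n from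
      pullback.condition, ← Category.assoc, hg₁, show CohB1.thickι f I n ≫ f =
      CohB1.thickToBase f I n ≫ CohB1.specQuot I n from pullback.condition]
  let γ : ∀ n, CohB1.thick f I n ⟶ pullback f h := fun n =>
    pullback.lift (CohB1.thickι f I n) (g n ≫ CohB1.thickι h I n) (hgw n)
  have hγ : ∀ n, γ n ≫ s = CohB1.thickToBase f I n ≫ CohB1.specQuot I n := fun n => by
    rw [← Category.assoc, pullback.lift_fst]
    exact pullback.condition
  let z : ∀ n, CohB1.thick f I n ⟶ CohB1.thick s I n := fun n =>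
    pullback.lift (γ n) (CohB1.thickToBase f I n) (hγ n)
  have hzι : ∀ n, z n ≫ CohB1.thickι s I n = γ n := fun n => pullback.lift_fst ..
  have hzb : ∀ n, z n ≫ CohB1.thickToBase s I n = CohB1.thickToBase f I n := fun n => pullback.lift_snd ..
  have hTι : ∀ {T : Scheme.{u}} (t : T ⟶ Spec (CommRingCat.of A)) n,
      CohB1.thickTrans t I n ≫ CohB1.thickι t I (n + 1) = CohB1.thickι t I n := fun t n =>
    (pullback.lift_fst ..).trans (Category.comp_id _)
  have hTb : ∀ {T : Scheme.{u}} (t : T ⟶ Spec (CommRingCat.of A)) n,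
      CohB1.thickTrans t I n ≫ CohB1.thickToBase t I (n + 1) =
        CohB1.thickToBase t I n ≫ CohB1.specQuotTrans I n := fun t n => pullback.lift_snd ..
  have hsq : ∀ {T : Scheme.{u}} (t : T ⟶ Spec (CommRingCat.of A)) n,
      IsPullback (CohB1.thickTrans t I n) (CohB1.thickToBase t I n) (CohB1.thickToBase t I (n + 1))
        (CohB1.specQuotTrans I n) := fun t n => by
    refine IsPullback.of_right (h₁₂ := CohB1.thickι t I (n + 1)) (v₁₃ := t) (h₂₂ := CohB1.specQuot I (n + 1))
      ?_ (hTb t n) (IsPullback.of_hasPullback t _)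
    rw [hTι, CohB1.specQuotTrans_specQuot]
    exact IsPullback.of_hasPullback t _
  let m : ∀ n, CohB1.thick s I n ⟶ CohB1.thick f I n := fun n =>
    pullback.lift (CohB1.thickι s I n ≫ pullback.fst f h) (CohB1.thickToBase s I n) (by
      rw [Category.assoc]; exact pullback.condition)
  have hmι : ∀ n, m n ≫ CohB1.thickι f I n = CohB1.thickι s I n ≫ pullback.fst f h := fun n => pullback.lift_fst ..
  have hmb : ∀ n, m n ≫ CohB1.thickToBase f I n = CohB1.thickToBase s I n := fun n => pullback.lift_snd ..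
  have hzm : ∀ n, z n ≫ m n = 𝟙 _ := fun n => by
    refine thick_ext ?_ ?_
    · rw [Category.assoc, hmι, ← Category.assoc, hzι, pullback.lift_fst, Category.id_comp]
    · rw [Category.assoc, hmb, hzb, Category.id_comp]
  have hmsq : ∀ n, IsPullback (CohB1.thickι s I n) (m n) (pullback.fst f h) (CohB1.thickι f I n) := fun n => by
    refine IsPullback.of_bot (v₂₁ := CohB1.thickToBase f I n) ?_ (hmι n).symm (IsPullback.of_hasPullback f _)
    rw [hmb]
    exact IsPullback.of_hasPullback s _
  haveI : ∀ n, IsClosedImmersion (z n) := fun n => by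
    haveI : IsSeparated (m n ≫ CohB1.thickToBase f I n) := by
      rw [hmb]
      exact inferInstanceAs (IsSeparated (pullback.snd s (CohB1.specQuot I n)))
    haveI : IsSeparated (m n) := IsSeparated.of_comp (m n) (CohB1.thickToBase f I n)
    haveI : IsClosedImmersion (z n ≫ m n) := by rw [hzm]; infer_instance
    exact IsClosedImmersion.of_comp (z n) (m n)
  have ht : ∀ n, IsPullback (CohB1.thickTrans f I n) (z n) (z (n + 1)) (CohB1.thickTrans s I n) := fun n => by
    refine IsPullback.of_bot (v₂₁ := CohB1.thickToBase s I n) ?_ ?_ (hsq s n)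
    · rw [hzb, hzb]; exact hsq f n
    · refine thick_ext ?_ ?_
      · rw [Category.assoc, Category.assoc, hzι (n + 1), hTι, hzι n]
        refine pullback.hom_ext ?_ ?_
        · rw [Category.assoc, pullback.lift_fst, pullback.lift_fst, hTι]
        · rw [Category.assoc, pullback.lift_snd, pullback.lift_snd, ← Category.assoc, hg₂, Category.assoc, hTι]
      · rw [Category.assoc, Category.assoc, hzb, hTb, hTb, ← Category.assoc, hzb]
  have hp : IsProper (z 0 ≫ CohB1.thickToBase s I 0) := by
    rw [hzb]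
    exact inferInstanceAs (IsProper (pullback.snd f (CohB1.specQuot I 0)))
  obtain ⟨W, i, w, hi, hip, -, hw⟩ := exists_algebraize_closed s (fun n => CohB1.thick f I n) z
    (fun n => CohB1.thickTrans f I n) inferInstance ht hp
  haveI := hip
  let p := i ≫ pullback.fst f h
  haveI : IsProper p := by
    haveI : IsProper (p ≫ f) := by rw [Category.assoc]; exact hip
    exact IsProper.of_comp p f
  have hwp : ∀ n, IsPullback (w n) (𝟙 _) p (CohB1.thickι f I n) := fun n => by
    rw [← hzm n]
    exact (hw n).paste_vert (hmsq n)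
  haveI := isIso_of_thick f p w hwp
  refine ⟨inv p ≫ i ≫ pullback.snd f h, ?_, fun n => ?_⟩
  · rw [Category.assoc, Category.assoc, ← pullback.condition, ← Category.assoc i, IsIso.inv_hom_id_assoc]
  · have e : w n ≫ i = γ n := (hw n).w.trans (hzι n)
    have e2 : CohB1.thickι f I n ≫ inv p = w n := by
      rw [IsIso.comp_inv_eq, (hwp n).w, Category.id_comp]
    rw [← Category.assoc, e2, ← Category.assoc, e, pullback.lift_snd]

end Groth.Agent.FormalSys
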