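import Groth.Agent.FormalSysLib.Generate
import Groth.Agent.FormalSysLib.Kernel
import Groth.Agent.FormalSysLib.Right
import Groth.Agent.ClSubLib.ProperOver
import Groth.Agent.PullbackMod.SuppClosed
import Groth.Agent.S4473

/-!
# Algebraization of coherent formal modules in the ample case
-/

set_option autoImplicit false
set_option linter.unusedSectionVars false
set_option linter.style.haveILetI false

universe u

open CategoryTheory CategoryTheory.Limits AlgebraicGeometry TopologicalSpace Opposite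
open Groth.Agent.CohBase Groth.Agent.ProjCoh Groth.Agent.QCohLib

noncomputable section

namespace Groth.Agent.FormalSys

variable {A : Type u} [CommRing A] [IsNoetherianRing A] {X : Scheme.{u}} [X.Over (Spec (CommRingCat.of A))]
  [IsProper (X ↘ Spec (CommRingCat.of A))] [AlgebraicGeometry.IsNoetherian X] {I : Ideal A}

/-- A compatible family of maps out of a coherent module gives a map out of its completion. -/
theorem exists_completion_map {G : ℕᵒᵖ ⥤ X.Modules} (hG : Formal.IsCohFormal I G) {E : X.Modules}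
    (hE : Coh.IsCoh E) (τ : ∀ n, E ⟶ G.obj (op n)) (hτ : ∀ {n k : ℕ} (h : n ≤ k), τ k ≫ tr G h = τ n) :
    ∃ Ψ : Formal.completion I E ⟶ G, ∀ n, cπ I E n ≫ Ψ.app (op n) = τ n := by
  choose l hl using fun n => exists_desc_affine (cπ I E n) (τ n) (fun U hU => (app_cπ hE n hU).1)
    fun U hU s hs => by
      have h1 := app_mem_smul (τ n) ((cπ_app_mem hE n hU).1 hs)
      rwa [smul_top_eq_bot hG n hU, Submodule.mem_bot] at h1
  obtain ⟨Ψ, hΨ⟩ := exists_natTrans (F := Formal.completion I E) (G := G) l fun {n k} h => by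
    haveI := epi_cπ (I := I) hE k
    refine (cancel_epi (cπ I E k)).1 ?_
    rw [← Category.assoc, ← Category.assoc, cπ_tr, hl, hl, hτ h]
  exact ⟨Ψ, fun n => by rw [hΨ, hl]⟩

/-- Completion is full on coherent modules on a proper scheme. -/
theorem existsUnique_of_completion_proper [IsAdicComplete I A] {M N : X.Modules} (hM : Coh.IsCoh M) (hN : Coh.IsCoh N)
    (ψ : Formal.completion I M ⟶ Formal.completion I N) :
    ∃! φ : M ⟶ N, ∀ n : ℕ, Formal.modPowπ I (n + 1) M ≫ ψ.app (op n) = φ ≫ Formal.modPowπ I (n + 1) N :=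
  Groth.Agent.S4473.result A I X M N hM hN
    (ClSubLib.isProperOver_subset _
      ((ClSubLib.isProperOver_iff (X ↘ Spec (CommRingCat.of A)) (𝟙 X) (Z := Set.univ)
          (Set.range_id)).2 (by rw [Category.id_comp]; infer_instance))
      ((PullbackMod.isClosed_support_of_isFT hM.2).inter (PullbackMod.isClosed_support_of_isFT hN.2))
      (Set.subset_univ _)) ψ

/-- Algebraization of coherent formal modules in the presence of an ample module. -/
theorem exists_algebraization_of_ample [IsAdicComplete I A] {L : X.Modules} (hL : CohB1.IsAmple L)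
    {G : ℕᵒᵖ ⥤ X.Modules} (hG : Formal.IsCohFormal I G) :
    ∃ M : X.Modules, Coh.IsCoh M ∧ Nonempty (Formal.completion I M ≅ G) := by
  obtain ⟨E, τ, hE, hτ, hτs⟩ := exists_surjection_system hL hG
  obtain ⟨Ψ, hΨ⟩ := exists_completion_map hG hE τ hτ
  obtain ⟨K, ι, hK, hι, ⟨d, hd⟩, -⟩ := exists_kernel_system (isCohFormal_completion hE I) hG Ψ
  obtain ⟨E', τ', hE', hτ', hτs'⟩ := exists_surjection_system hL hK
  obtain ⟨Ψ', hΨ'⟩ := exists_completion_map hK hE' τ' hτ'
  obtain ⟨φ, hφ, -⟩ := existsUnique_of_completion_proper hE' hE (Ψ' ≫ ι)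
  have hφ' : ∀ n, φ ≫ cπ I E n = τ' n ≫ ι.app (op n) := fun n => by
    refine (hφ n).symm.trans ?_
    rw [NatTrans.comp_app, ← hΨ' n]
    exact (Category.assoc _ _ _).symm
  have hφ0 : ∀ n, φ ≫ τ n = 0 := fun n => by
    rw [← hΨ n, ← Category.assoc, hφ', Category.assoc]
    refine (congrArg (τ' n ≫ ·) ?_).trans comp_zero
    exact (NatTrans.comp_app ι Ψ (op n)).symm.trans (congrArg (fun t : K ⟶ G => t.app (op n)) hι)
  have hM : Coh.IsCoh (cokernel φ) := (QCohLib.isCoh_kernel_cokernel φ hE' hE).2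
  let σ : ∀ n, cokernel φ ⟶ G.obj (op n) := fun n => cokernel.desc φ (τ n) (hφ0 n)
  have hσ : ∀ n, cokernel.π φ ≫ σ n = τ n := fun n => cokernel.π_desc _ _ _
  have hcompat : ∀ {n k : ℕ} (h : n ≤ k), σ k ≫ tr G h = σ n := fun {n k} h =>
    (cancel_epi (cokernel.π φ)).1 (by rw [← Category.assoc, hσ, hσ, hτ h])
  have hσs : ∀ (n : ℕ) (U : X.Opens), IsAffineOpen U → Function.Surjective ((σ n).app U) ∧
      LinearMap.ker (appLinear (σ n) U) = JU (I ^ (n + 1)) U • ⊤ := fun n U hU => by
    refine ⟨fun y => ?_, ?_⟩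
    · obtain ⟨e, rfl⟩ := hτs n U hU y
      exact ⟨(cokernel.π φ).app U e, congr($(hσ n).app U e)⟩
    · rw [JU_pow]
      refine le_antisymm (fun m hm => ?_) ?_
      · obtain ⟨e, rfl⟩ := (FormalLib.cokernel_app φ hE'.1 hE.1 hU).1 m
        have he : (τ n).app U e = 0 := (congr($(hσ n).app U e)).symm.trans hm
        have h1 : (τ (n + d)).app U e ∈ LinearMap.ker (appLinear (tr G (Nat.le_add_right n d)) U) :=
          (congr($(hτ (Nat.le_add_right n d)).app U e)).trans he
        rw [(app_tr hG _ hU).2, ← map_smul_top (τ (n + d)) (hτs (n + d) U hU)] at h1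
        obtain ⟨j, hj, hj'⟩ := h1
        have hx : (Ψ.app (op (n + d))).app U ((cπ I E (n + d)).app U (e - j)) = 0 := by
          rw [← app_comp_apply, hΨ, map_sub, sub_eq_zero]
          exact hj'.symm
        obtain ⟨y, hy⟩ := hd n U hU _ hx
        obtain ⟨e', rfl⟩ := hτs' n U hU y
        rw [← app_comp_apply (τ' n), ← hφ', app_comp_apply, ← app_comp_apply (cπ I E (n + d)), cπ_tr,
          map_sub, (cπ_app_mem hE n hU).2 hj, sub_zero, cπ_eq_iff hE n hU] at hy
        have h2 := app_mem_smul (cokernel.π φ) hy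
        rw [map_sub, show (cokernel.π φ).app U (φ.app U e') = 0 from congr($(cokernel.condition φ).app U e'),
          zero_sub, Submodule.neg_mem_iff] at h2
        exact h2
      · intro m hm
        have h2 := app_mem_smul (σ n) hm
        rw [smul_top_eq_bot hG n hU, Submodule.mem_bot] at h2
        exact h2
  obtain ⟨β, -⟩ := exists_iso_completion hM σ (fun h => hcompat h) hσs
  exact ⟨cokernel φ, hM, ⟨β⟩⟩

end Groth.Agent.FormalSys
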