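import Groth.Agent.FormalSysLib.Tricky
import Groth.Agent.FormalSysLib.PushFF

/-!
# The map of systems of a push-pull
-/

set_option autoImplicit false
set_option backward.isDefEq.respectTransparency false
set_option linter.unusedSectionVars false
set_option linter.style.haveILetI false

universe u

open CategoryTheory CategoryTheory.Limits AlgebraicGeometry TopologicalSpace Opposite
open Groth.Agent.CohBase Groth.Agent.ProjCoh Groth.Agent.QCohLib

noncomputable section

namespace Groth.Agent.FormalSys

variable {A : Type u} [CommRing A] {X Y : Scheme.{u}} [X.Over (Spec (CommRingCat.of A))]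
  [Y.Over (Spec (CommRingCat.of A))]

lemma map_JU_appLE (f : X ⟶ Y) (hf : f ≫ (Y ↘ Spec (CommRingCat.of A)) = X ↘ Spec (CommRingCat.of A)) (J : Ideal A)
    {U : Y.Opens} {W : X.Opens} (h : W ≤ f ⁻¹ᵁ U) :
    (JU J U).map (f.appLE U W h).hom = JU J W := by
  rw [Ideal.map_map]
  congr 1
  refine RingHom.ext fun a => ?_
  show f.appLE U W h (φV (FormalLib.cst A Y) U a) = φV (FormalLib.cst A X) W a
  rw [Scheme.Hom.appLE, CategoryTheory.ConcreteCategory.comp_apply, FormalLib.app_φV_cst f hf]
  exact res_φV _ h a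

variable [AlgebraicGeometry.IsNoetherian X] [AlgebraicGeometry.IsNoetherian Y] (f : X ⟶ Y) [IsProper f]
  (hf : f ≫ (Y ↘ Spec (CommRingCat.of A)) = X ↘ Spec (CommRingCat.of A)) (J : Ideal A)
  {F : X.Modules} (hF : Coh.IsCoh F)

/-- The comparison of the direct image with the direct image of the completion. -/
abbrev ρ (F : X.Modules) (k : ℕ) : (Scheme.Modules.pushforward f).obj F ⟶
    (Scheme.Modules.pushforward f).obj ((Formal.completion J F).obj (op k)) :=
  (Scheme.Modules.pushforward f).map (cπ J F k)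

/-- The transition maps of the direct image of the completion. -/
abbrev trQ (F : X.Modules) {n k : ℕ} (h : n ≤ k) :
    (Scheme.Modules.pushforward f).obj ((Formal.completion J F).obj (op k)) ⟶
      (Scheme.Modules.pushforward f).obj ((Formal.completion J F).obj (op n)) :=
  (Scheme.Modules.pushforward f).map (tr (Formal.completion J F) h)

lemma ρ_trQ (F : X.Modules) {n k : ℕ} (h : n ≤ k) : ρ f J F k ≫ trQ f J F h = ρ f J F n := by
  rw [← Functor.map_comp, cπ_tr]

include hf hF in
/-- Uniform bounds for sections on a finite affine cover of the base. -/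
theorem exists_push_bounds {ι : Type u} [Finite ι] (V : ι → Y.Opens) (hV : ∀ i, IsAffineOpen (V i)) :
    ∃ c : ℕ, (∀ (i : ι) (k : ℕ) (s : Γ((Scheme.Modules.pushforward f).obj F, V i)), (ρ f J F k).app (V i) s = 0 →
        s ∈ JU J (V i) ^ (k + 1 - c) • (⊤ : Submodule Γ(Y, V i) Γ((Scheme.Modules.pushforward f).obj F, V i))) ∧
      ∀ (i : ι) (n k : ℕ) (h : n + c ≤ k) (t : Γ((Scheme.Modules.pushforward f).obj
        ((Formal.completion J F).obj (op k)), V i)),
        ∃ s, (ρ f J F n).app (V i) s = (trQ f J F ((Nat.le_add_right n c).trans h)).app (V i) t := by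
  classical
  have h1 : ∀ i, ∃ c : ℕ, (∀ (k : ℕ) (s : Γ((Scheme.Modules.pushforward f).obj F, V i)), (ρ f J F k).app (V i) s = 0 →
        s ∈ JU J (V i) ^ (k + 1 - c) • (⊤ : Submodule Γ(Y, V i) Γ((Scheme.Modules.pushforward f).obj F, V i))) ∧
      ∀ (n k : ℕ) (h : n + c ≤ k) (t : Γ((Scheme.Modules.pushforward f).obj
        ((Formal.completion J F).obj (op k)), V i)),
        ∃ s, (ρ f J F n).app (V i) s = (trQ f J F ((Nat.le_add_right n c).trans h)).app (V i) t := by
    intro i
    obtain ⟨κ, _, W, hW, hWa, hWab, hcov, c, hc1, hc2⟩ := exists_section_bounds f (hV i) hF (JU J (V i))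
    refine ⟨c, fun k s hs => hc1 (k + 1) s fun a => ?_, fun n k h t => ?_⟩
    · rw [map_JU_appLE f hf, ← cπ_app_mem hF k (hWa a)]
      exact (QCohLib.app_res (cπ J F k) (hW a) s).trans ((congrArg _ hs).trans (map_zero _))
    · have hlift : ∀ a, ∃ z, (cπ J F k).app (W a) z =
          ((Formal.completion J F).obj (op k)).presheaf.map (homOfLE (hW a)).op t := fun a =>
        (app_cπ hF k (hWa a)).1 _
      choose z hz using hlift
      obtain ⟨s, hs⟩ := hc2 (n + 1) z (fun a b => by
        refine Submodule.smul_mono (Ideal.pow_le_pow_right (show n + 1 + c ≤ k + 1 by omega)) le_rfl ?_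
        rw [map_JU_appLE f hf, ← cπ_app_mem hF k (hWab a b), map_sub, sub_eq_zero, QCohLib.app_res,
          QCohLib.app_res, hz, hz]
        exact (restr_trans _ (hW a) inf_le_left t).trans (restr_trans _ (hW b) inf_le_right t).symm)
      refine ⟨s, QCohLib.eq_of_cover _ hW hcov _ _ fun a => ?_⟩
      have h2 := hs a
      rw [map_JU_appLE f hf, ← cπ_app_mem hF n (hWa a), map_sub, sub_eq_zero] at h2
      show ((Formal.completion J F).obj (op n)).presheaf.map (homOfLE (hW a)).op ((cπ J F n).app (f ⁻¹ᵁ V i) s) =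
        ((Formal.completion J F).obj (op n)).presheaf.map (homOfLE (hW a)).op
          ((tr (Formal.completion J F) ((Nat.le_add_right n c).trans h)).app (f ⁻¹ᵁ V i) t)
      refine (QCohLib.app_res (cπ J F n) (hW a) s).symm.trans (h2.trans ?_)
      refine Eq.trans ?_ (QCohLib.app_res (tr (Formal.completion J F) _) (hW a) t)
      rw [← hz a]
      exact congr($((cπ_tr (I := J) F ((Nat.le_add_right n c).trans h)).symm).app (W a) (z a))
  choose c hc1 hc2 using h1
  haveI := Fintype.ofFinite ι
  have hle : ∀ i, c i ≤ Finset.univ.sup c := fun i => Finset.le_sup (Finset.mem_univ i)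
  refine ⟨Finset.univ.sup c, fun i k s hs => ?_, fun i n k h t => ?_⟩
  · exact Submodule.smul_mono (Ideal.pow_le_pow_right (Nat.sub_le_sub_left (hle i) (k + 1))) le_rfl (hc1 i k s hs)
  · exact hc2 i n k ((Nat.add_le_add_left (hle i) n).trans h) t

variable {G : ℕᵒᵖ ⥤ Y.Modules} (β : (G ⋙ Scheme.Modules.pullback f) ≅ Formal.completion J F)

/-- The adjoint of the given identification. -/
abbrev adjMap (k : ℕ) : G.obj (op k) ⟶ (Scheme.Modules.pushforward f).obj ((Formal.completion J F).obj (op k)) :=
  (Scheme.Modules.pullbackPushforwardAdjunction f).unit.app (G.obj (op k)) ≫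
    (Scheme.Modules.pushforward f).map (β.hom.app (op k))

lemma adjMap_natural {n k : ℕ} (h : n ≤ k) :
    tr G h ≫ adjMap f J β n = adjMap f J β k ≫ trQ f J F h := by
  rw [← Category.assoc]
  erw [(Scheme.Modules.pullbackPushforwardAdjunction f).unit.naturality (tr G h)]
  rw [Category.assoc, Category.assoc, Functor.comp_map, ← Functor.map_comp, ← Functor.map_comp]
  exact congrArg (fun t => _ ≫ (Scheme.Modules.pushforward f).map t) (β.hom.naturality (homOfLE h).op)

variable (hG : Formal.IsCohFormal J G)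

include hf hF hG in
/-- The map of systems, with its characterisation. -/
theorem exists_push_map :
    ∃ (ι : Type u) (_ : Finite ι) (V : ι → Y.Opens), (∀ i, IsAffineOpen (V i)) ∧ ⊤ ≤ iSup V ∧ ∃ c : ℕ,
      (∀ (i : ι) (k : ℕ) (s : Γ((Scheme.Modules.pushforward f).obj F, V i)), (ρ f J F k).app (V i) s = 0 →
        s ∈ JU J (V i) ^ (k + 1 - c) • (⊤ : Submodule Γ(Y, V i) Γ((Scheme.Modules.pushforward f).obj F, V i))) ∧
      (∀ (i : ι) (n k : ℕ) (h : n + c + c ≤ k) (x : Γ(G.obj (op k), V i)), ∃ s,
        (ρ f J F (n + c)).app (V i) s =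
          (trQ f J F (show n + c ≤ k by omega)).app (V i) ((adjMap f J β k).app (V i) x)) ∧
      ∃ α : G ⟶ Formal.completion J ((Scheme.Modules.pushforward f).obj F),
        ∀ (n k : ℕ) (h : n + c + c ≤ k) (U : Y.Opens), IsAffineOpen U → ∀ (x : Γ(G.obj (op k), U))
          (s : Γ((Scheme.Modules.pushforward f).obj F, U)),
          (ρ f J F (n + c)).app U s = (trQ f J F (show n + c ≤ k by omega)).app U ((adjMap f J β k).app U x) →
          (α.app (op n)).app U ((tr G (show n ≤ k by omega)).app U x) =
            (cπ J ((Scheme.Modules.pushforward f).obj F) n).app U s := by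
  classical
  obtain ⟨ι, hι, V, hV, -, hcov⟩ := exists_finite_affine_cover (X := Y) (V := ⊤) isCompact_univ
  haveI := hι
  obtain ⟨c, hc1, hc2⟩ := exists_push_bounds f hf J hF V hV
  set H := (Scheme.Modules.pushforward f).obj F
  have hH : Coh.IsCoh H := by
    haveI := hF.1
    exact RpushLib.isCoh_push f hF
  have hQ : ∀ k, Coh.IsCoh ((Scheme.Modules.pushforward f).obj ((Formal.completion J F).obj (op k))) := fun k => by
    have h := (isCohFormal_completion hF J).1 k
    haveI := h.1
    exact RpushLib.isCoh_push f h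
  have hex : ∀ (i : ι) (n k : ℕ) (h : n + c + c ≤ k) (x : Γ(G.obj (op k), V i)), ∃ s,
      (ρ f J F (n + c)).app (V i) s =
        (trQ f J F (show n + c ≤ k by omega)).app (V i) ((adjMap f J β k).app (V i) x) := fun i n k h x =>
    hc2 i (n + c) k h _
  refine ⟨ι, inferInstance, V, hV, hcov, c, hc1, hex, ?_⟩
  have hpush : ∀ (n k : ℕ) (h : n + c + c ≤ k) (U : Y.Opens) (x : Γ(G.obj (op k), U)),
      (trQ f J F (show n + c ≤ n + c + c by omega)).app U ((adjMap f J β (n + c + c)).app U ((tr G h).app U x)) =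
        (trQ f J F (show n + c ≤ k by omega)).app U ((adjMap f J β k).app U x) := fun n k h U x => by
    rw [← app_comp_apply (tr G h), adjMap_natural, app_comp_apply, ← app_comp_apply (trQ f J F h),
      ← Functor.map_comp, tr_comp]
  have hcomp : ∀ n, ∃ b : G.obj (op n) ⟶ (Formal.completion J H).obj (op n),
      ∀ (k : ℕ) (h : n + c + c ≤ k) (U : Y.Opens), IsAffineOpen U → ∀ (x : Γ(G.obj (op k), U)) (s : Γ(H, U)),
        (ρ f J F (n + c)).app U s = (trQ f J F (show n + c ≤ k by omega)).app U ((adjMap f J β k).app U x) →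
        b.app U ((tr G (show n ≤ k by omega)).app U x) = (cπ J H n).app U s := by
    intro n
    obtain ⟨P, hP⟩ := exists_fork (adjMap f J β (n + c + c) ≫ trQ f J F (show n + c ≤ n + c + c by omega))
      (ρ f J F (n + c)) (hG.1 _) hH (hQ _)
    obtain ⟨b₀, hb₀⟩ := exists_desc_affine P.fst (P.snd ≫ cπ J H n)
      (fun U hU => surjective_of_cover P.fst hP.1 (hG.1 _).1 V hV hcov (fun i x => by
        obtain ⟨s, hs⟩ := hex i n (n + c + c) le_rfl x
        obtain ⟨p, hp, -⟩ := P.mem x s hs.symm
        exact ⟨p, hp⟩) hU)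
      (fun U hU p hp => by
        refine vanish_of_cover (ρ f J F (n + c)) (cπ J H n) hH.1 (hQ _).1 V hV hcov (fun i s hs => ?_) (P.snd.app U p) ?_
        · refine (cπ_app_mem hH n (hV i)).2 ?_
          have := hc1 i (n + c) s hs
          rwa [show n + c + 1 - c = n + 1 by omega] at this
        · have h0 := congr($(P.cond).app U p)
          rw [app_comp_apply, hp, map_zero] at h0
          exact h0.symm)
    obtain ⟨b, hb⟩ := exists_desc_tr hG (show n ≤ n + c + c by omega) ((isCohFormal_completion hH J).2.1 n) b₀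
    refine ⟨b, fun k h U hU x s hs => ?_⟩
    rw [← hpush n k h U x] at hs
    obtain ⟨p, hp1, hp2⟩ := P.mem ((tr G h).app U x) s hs.symm
    rw [← tr_comp G (show n ≤ n + c + c by omega) h, app_comp_apply,
      ← app_comp_apply (tr G (show n ≤ n + c + c by omega)) b, hb, ← hp1, ← app_comp_apply, hb₀, app_comp_apply, hp2]
  choose b hb using hcomp
  obtain ⟨α, hα⟩ := exists_natTrans (F := G) (G := Formal.completion J H) b fun {n m} h => by
    haveI := epi_tr hG (show m ≤ m + c + c by omega)
    haveI : Coh.IsQCoh (G.obj (op (m + c + c))) := (hG.1 _).1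
    refine (cancel_epi (tr G (show m ≤ m + c + c by omega))).1 (hom_ext_cover V hV hcov fun i x => ?_)
    obtain ⟨s, hs⟩ := hex i m (m + c + c) le_rfl x
    show (b n).app (V i) ((tr G h).app (V i) ((tr G _).app (V i) x)) =
      (tr (Formal.completion J H) h).app (V i) ((b m).app (V i) ((tr G _).app (V i) x))
    rw [hb m (m + c + c) le_rfl (V i) (hV i) x s hs,
      show (tr G h).app (V i) ((tr G (show m ≤ m + c + c by omega)).app (V i) x) =
        (tr G (show n ≤ m + c + c by omega)).app (V i) x from congr($(tr_comp G h _).app (V i) x),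
      hb n (m + c + c) (by omega) (V i) (hV i) x s (by
        have h1 := congrArg ((trQ f J F (show n + c ≤ m + c by omega)).app (V i)) hs
        rw [← app_comp_apply (ρ f J F (m + c)), ρ_trQ] at h1
        rw [h1, ← app_comp_apply (trQ f J F _), ← Functor.map_comp, tr_comp])]
    exact congr($(cπ_tr (I := J) H h).app (V i) s).symm
  exact ⟨α, fun n k h U hU x s hs => by rw [hα]; exact hb n k h U hU x s hs⟩

end Groth.Agent.FormalSys
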