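import Groth.Agent.FormalLib.ModPow
import Groth.Agent.HomLib.Completion
import Groth.Agent.FactorOne.Basic

/-!
# Formal sections of finite locally free modules on quasi-affine schemes
-/

set_option autoImplicit false
set_option linter.style.haveILetI false
set_option backward.isDefEq.respectTransparency false

universe u

open CategoryTheory CategoryTheory.Limits AlgebraicGeometry TopologicalSpace Opposite
open Groth.Agent.CohBase Groth.Agent.ProjCoh Groth.Agent.FormalLib

noncomputable section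

namespace Groth.Agent.QAFormal

variable {A : Type u} [CommRing A] {X : Scheme.{u}} [X.Over (Spec (CommRingCat.of A))] (I : Ideal A)

/-- Degree zero cohomology as global sections. -/
def e (F : X.Modules) : Coh.HH X F 0 ≃+ Γ(F, (⊤ : X.Opens)) :=
  (HHEquiv F 0).trans (H0Equiv (⊤ : X.Opens) (Coh.toAb F))

theorem e_map {F G : X.Modules} (f : F ⟶ G) (x : Coh.HH X F 0) :
    e G (Sheaf.H.map ((SheafOfModules.toSheaf _).map f) 0 x) = f.app ⊤ (e F x) := by
  show H0Equiv (⊤ : X.Opens) (Coh.toAb G) (HEquiv (Coh.toAb G) 0 _) = _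
  refine (congrArg _ (HEquiv_map ((SheafOfModules.toSheaf _).map f) 0 x)).trans ?_
  exact H0Equiv_hmap _ _ _

/-- Bijectivity onto the limit, on sections. -/
def SecBij (M : X.Modules) : Prop :=
  (∀ s : Γ(M, ⊤), (∀ n, (Formal.modPowπ I (n + 1) M).app ⊤ s = 0) → s = 0) ∧
  ∀ y : ∀ n, Γ(Formal.modPow I (n + 1) M, (⊤ : X.Opens)),
    (∀ n, (Formal.modPowTrans I (n + 1) M).app ⊤ (y (n + 1)) = y n) →
      ∃ s : Γ(M, ⊤), ∀ n, (Formal.modPowπ I (n + 1) M).app ⊤ s = y n

theorem bijective_iff (M : X.Modules) : Function.Bijective (Formal.toHHlim I M 0) ↔ SecBij I M := by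
  constructor
  · intro h
    refine ⟨fun s hs => ?_, fun y hy => ?_⟩
    · obtain ⟨x, rfl⟩ := (e M).surjective s
      rw [h.1 (show Formal.toHHlim I M 0 x = Formal.toHHlim I M 0 0 from Subtype.ext (funext fun n =>
        (e _).injective ((e_map _ x).trans ((hs n).trans (((e _).map_zero).symm.trans
          (congrArg (e _) ((congrFun (congrArg Subtype.val (map_zero (Formal.toHHlim I M 0))) n).symm))))))),
        map_zero]
    · obtain ⟨x, hx⟩ := h.2 ⟨fun n => (e _).symm (y n), fun n => (e _).injective (by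
        refine (e_map _ _).trans ?_
        rw [AddEquiv.apply_symm_apply, AddEquiv.apply_symm_apply]
        exact hy n)⟩
      exact ⟨e M x, fun n => (e_map _ x).symm.trans
        ((congrArg (e _) (congrFun (congrArg Subtype.val hx) n)).trans ((e _).apply_symm_apply _))⟩
  · intro h
    refine ⟨(injective_iff_map_eq_zero _).2 fun x hx => ?_, fun y => ?_⟩
    · have h0 : e M x = 0 := h.1 _ fun n => (e_map _ x).symm.trans
        ((congrArg (e _) (congrFun (congrArg Subtype.val hx) n)).trans (map_zero (e _)))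
      exact (e M).injective (h0.trans (map_zero (e M)).symm)
    · obtain ⟨s, hs⟩ := h.2 (fun n => e _ (y.1 n)) fun n => (e_map _ _).symm.trans (congrArg (e _) (y.2 n))
      refine ⟨(e M).symm s, Subtype.ext (funext fun n => (e _).injective ((e_map _ _).trans ?_))⟩
      rw [AddEquiv.apply_symm_apply]
      exact hs n

/-- Functoriality of `M / Iⁿ M`. -/
def mapPow {M N : X.Modules} (u : M ⟶ N) (n : ℕ) : Formal.modPow I n M ⟶ Formal.modPow I n N :=
  cokernel.desc _ (u ≫ Formal.modPowπ I n N) (by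
    refine Sigma.hom_ext _ _ fun a => ?_
    rw [comp_zero, ← Category.assoc, Formal.smulFamily, Sigma.ι_desc, ← Category.assoc, smulMod_natural,
      Category.assoc]
    have h : Formal.smulMod A N a.1 ≫ Formal.modPowπ I n N = 0 := by
      rw [show Formal.smulMod A N a.1 = Sigma.ι (fun _ : ↥(I ^ n) => N) a ≫ Formal.smulFamily (I ^ n) N by
        rw [Formal.smulFamily, Sigma.ι_desc], Category.assoc]
      exact (congrArg _ (cokernel.condition (Formal.smulFamily (I ^ n) N))).trans comp_zero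
    rw [h, comp_zero])

theorem π_mapPow {M N : X.Modules} (u : M ⟶ N) (n : ℕ) :
    Formal.modPowπ I n M ≫ mapPow I u n = u ≫ Formal.modPowπ I n N :=
  cokernel.π_desc _ _ _

theorem mapPow_trans {M N : X.Modules} (u : M ⟶ N) (n : ℕ) :
    mapPow I u (n + 1) ≫ Formal.modPowTrans I n N = Formal.modPowTrans I n M ≫ mapPow I u n := by
  refine (cancel_epi (cokernel.π (Formal.smulFamily (I ^ (n + 1)) M))).1 ?_
  show Formal.modPowπ I (n + 1) M ≫ _ = Formal.modPowπ I (n + 1) M ≫ _
  rw [← Category.assoc, π_mapPow, Category.assoc, Formal.modPowπ_trans, ← Category.assoc,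
    Formal.modPowπ_trans, π_mapPow]

theorem app_comp {M N P : X.Modules} (u : M ⟶ N) (v : N ⟶ P) (V : X.Opens) (s : Γ(M, V)) :
    (u ≫ v).app V s = v.app V (u.app V s) := rfl

theorem app_smul_top {M N : X.Modules} (u : M ⟶ N) (g : Γ(X, ⊤)) (s : Γ(M, ⊤)) :
    u.app ⊤ (g • s) = g • u.app ⊤ s :=
  Scheme.Modules.Hom.app_smul u g s

/-- A section killed by functions whose non-vanishing loci cover is zero. -/
theorem eq_zero_of_smul {ι : Type u} (g : ι → Γ(X, ⊤)) (hcov : (⊤ : X.Opens) ≤ ⨆ j, X.basicOpen (g j))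
    {M : X.Modules} (s : Γ(M, ⊤)) (hs : ∀ j, g j • s = 0) : s = 0 := by
  refine QCohLib.eq_of_cover M (W := fun j => X.basicOpen (g j)) (fun j => le_top) hcov s 0 fun j => ?_
  rw [map_zero]
  have hu : IsUnit ((X.presheaf.map (homOfLE (le_top : X.basicOpen (g j) ≤ ⊤)).op) (g j)) :=
    X.toRingedSpace.isUnit_res_basicOpen (g j)
  refine hu.smul_eq_zero.1 ?_
  rw [← Scheme.Modules.map_smul, hs, map_zero]

/-- Dividing compatible sections by the functions. -/
theorem exists_section_of_compatible {ι : Type u} (g : ι → Γ(X, ⊤))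
    (hcov : (⊤ : X.Opens) ≤ ⨆ j, X.basicOpen (g j)) {M : X.Modules} (t : ι → Γ(M, ⊤))
    (ht : ∀ i j, g i • t j = g j • t i) : ∃ s : Γ(M, ⊤), ∀ j, g j • s = t j := by
  let W := fun j => X.basicOpen (g j)
  let r : ∀ V : X.Opens, Γ(X, ⊤) → Γ(X, V) := fun V => X.presheaf.map (homOfLE (le_top : V ≤ ⊤)).op
  have hu : ∀ j, IsUnit (r (W j) (g j)) := fun j => X.toRingedSpace.isUnit_res_basicOpen (g j)
  let m : ∀ j, Γ(M, W j) := fun j =>
    (↑(hu j).unit⁻¹ : Γ(X, W j)) • M.presheaf.map (homOfLE (le_top : W j ≤ ⊤)).op (t j)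
  have hm : ∀ j, r (W j) (g j) • m j = M.presheaf.map (homOfLE (le_top : W j ≤ ⊤)).op (t j) := fun j => by
    rw [smul_smul, IsUnit.mul_val_inv, one_smul]
  have hres : ∀ (j : ι) (V : X.Opens) (h : V ≤ W j),
      r V (g j) • M.presheaf.map (homOfLE h).op (m j) = M.presheaf.map (homOfLE (le_top : V ≤ ⊤)).op (t j) := by
    intro j V h
    have e := congrArg (M.presheaf.map (homOfLE h).op) (hm j)
    rw [Scheme.Modules.map_smul, restr_trans] at e
    refine Eq.trans ?_ e
    congr 1
    exact (congr($(X.presheaf.map_comp (homOfLE (le_top : W j ≤ ⊤)).op (homOfLE h).op) (g j))).trans rfl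
  obtain ⟨s, hs, -⟩ := TopCat.Sheaf.existsUnique_gluing' ⟨M.presheaf, M.isSheaf⟩ W ⊤
    (fun j => homOfLE le_top) hcov m (fun i j => by
      show M.presheaf.map (homOfLE (inf_le_left : W i ⊓ W j ≤ W i)).op (m i) =
        M.presheaf.map (homOfLE (inf_le_right : W i ⊓ W j ≤ W j)).op (m j)
      have hi : IsUnit (r (W i ⊓ W j) (g i)) := by
        rw [show r (W i ⊓ W j) (g i) = X.presheaf.map (homOfLE inf_le_left).op (r (W i) (g i)) from
          (congr($(X.presheaf.map_comp (homOfLE (le_top : W i ≤ ⊤)).op (homOfLE (inf_le_left : W i ⊓ W j ≤ W i)).op) (g i))).trans rfl]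
        exact (hu i).map _
      have hj : IsUnit (r (W i ⊓ W j) (g j)) := by
        rw [show r (W i ⊓ W j) (g j) = X.presheaf.map (homOfLE inf_le_right).op (r (W j) (g j)) from
          (congr($(X.presheaf.map_comp (homOfLE (le_top : W j ≤ ⊤)).op (homOfLE (inf_le_right : W i ⊓ W j ≤ W j)).op) (g j))).trans rfl]
        exact (hu j).map _
      refine hj.smul_left_cancel.1 (hi.smul_left_cancel.1 ?_)
      rw [hres j _ inf_le_right, smul_comm, hres i _ inf_le_left, ← Scheme.Modules.map_smul,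
        ← Scheme.Modules.map_smul, ht i j])
  refine ⟨s, fun j => sub_eq_zero.1 (eq_zero_of_smul g hcov _ fun i => ?_)⟩
  rw [smul_sub, smul_comm, ht i j, ← smul_sub]
  refine QCohLib.eq_of_cover M (W := W) (fun j => le_top) hcov _ 0 fun k => ?_
  have hk := hres k (W k) le_rfl
  have hsk : M.presheaf.map (homOfLE (le_top : W k ≤ ⊤)).op s = m k := hs k
  rw [map_zero, Scheme.Modules.map_smul, map_sub, Scheme.Modules.map_smul, hsk, sub_eq_zero.2 ?_, smul_zero]
  refine (hu k).smul_left_cancel.1 ?_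
  rw [smul_comm, hm k, ← Scheme.Modules.map_smul, ← Scheme.Modules.map_smul, ht k i]

/-- The criterion. -/
theorem secBij_of_factor {E : X.Modules} {ι : Type u} (g : ι → Γ(X, ⊤))
    (hcov : (⊤ : X.Opens) ≤ ⨆ j, X.basicOpen (g j)) (r : ι → ℕ)
    (φ : ∀ j, Fin (r j) → (E ⟶ Coh.structureModule X)) (ψ : ∀ j, Fin (r j) → (Coh.structureModule X ⟶ E))
    (hfac : ∀ j, ∀ s : Γ(E, ⊤), g j • s = ∑ k, (ψ j k).app ⊤ ((φ j k).app ⊤ s))
    (hO : SecBij I (Coh.structureModule X))
    (hfac' : ∀ j n, ∀ y : Γ(Formal.modPow I n E, (⊤ : X.Opens)),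
      g j • y = ∑ k, (mapPow I (ψ j k) n).app ⊤ ((mapPow I (φ j k) n).app ⊤ y)) :
    SecBij I E := by
  have hinj : ∀ s : Γ(E, ⊤), (∀ n, (Formal.modPowπ I (n + 1) E).app ⊤ s = 0) → s = 0 := fun s hs =>
    eq_zero_of_smul g hcov s fun j => by
      rw [hfac]
      refine Finset.sum_eq_zero fun k _ => ?_
      rw [hO.1 ((φ j k).app ⊤ s) fun n => by
        rw [← app_comp, ← π_mapPow, app_comp, hs, map_zero], map_zero]
  refine ⟨hinj, fun y hy => ?_⟩
  choose z hz using fun j k => hO.2 (fun n => (mapPow I (φ j k) (n + 1)).app ⊤ (y n)) fun n => by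
    rw [← app_comp, mapPow_trans, app_comp, hy]
  let t : ι → Γ(E, ⊤) := fun j => ∑ k, (ψ j k).app ⊤ (z j k)
  have ht : ∀ j n, (Formal.modPowπ I (n + 1) E).app ⊤ (t j) = g j • y n := fun j n => by
    rw [hfac', map_sum]
    refine Finset.sum_congr rfl fun k _ => ?_
    rw [← app_comp, ← π_mapPow, app_comp, hz]
  obtain ⟨s, hs⟩ := exists_section_of_compatible g hcov t fun i j => sub_eq_zero.1 (hinj _ fun n => by
    rw [map_sub, app_smul_top, app_smul_top, ht, ht, smul_comm, sub_self])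
  refine ⟨s, fun n => sub_eq_zero.1 (eq_zero_of_smul g hcov _ fun j => ?_)⟩
  rw [smul_sub, ← app_smul_top, hs, ht, sub_self]

/-- Finite locally free modules on quasi-affine schemes. -/
theorem bijective_toHHlim_of_quasiAffine [X.IsQuasiAffine] (h : Function.Bijective (Formal.toHHlim I (Coh.structureModule X) 0))
    {E : X.Modules} (hE : FlatMod.IsFinLocFree E) : Function.Bijective (Formal.toHHlim I E 0) := by
  rw [bijective_iff] at h ⊢
  let ι := {f : Γ(X, ⊤) // IsAffineOpen (X.basicOpen f)}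
  choose N r φ ψ c hf using fun j : ι => FactorOne.exists_factor E hE j.1 j.2
  refine secBij_of_factor I (fun j : ι => j.1 ^ (N j + 1)) (fun x _ => ?_) r φ
    (fun j k => ψ j k ≫ FactorOne.mulEnd E (c j) ≫ FactorOne.mulEnd E j.1) (fun j s => ?_) h (fun j n y => ?_)
  · obtain ⟨_, ⟨f, hfa, rfl⟩, hxf, -⟩ := Opens.isBasis_iff_nbhd.1
      (Scheme.IsQuasiAffine.isBasis_basicOpen X) (show x ∈ (⊤ : X.Opens) from trivial)
    refine Opens.mem_iSup.2 ⟨⟨f, hfa⟩, ?_⟩
    show x ∈ X.basicOpen (f ^ (N ⟨f, hfa⟩ + 1))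
    rw [Scheme.basicOpen_pow X (f := f) (Nat.succ_pos _)]
    exact hxf
  · have hres : ∀ a : Γ(X, ⊤), X.presheaf.map (homOfLE (le_top : (⊤ : X.Opens) ≤ ⊤)).op a = a := fun a => by
      rw [show (homOfLE (le_top : (⊤ : X.Opens) ≤ ⊤)).op = 𝟙 _ from rfl, X.presheaf.map_id]
      rfl
    have e0 : (FactorOne.mulEnd E (j.1 ^ N j)).app ⊤ s =
        ((∑ k, φ j k ≫ ψ j k) ≫ FactorOne.mulEnd E (c j)).app ⊤ s := congr($(hf j).app ⊤ s)
    rw [FactorOne.mulEnd_app, hres] at e0
    show j.1 ^ (N j + 1) • s = _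
    rw [pow_succ', mul_smul, e0, app_comp, FactorOne.app_sum, map_sum, Finset.smul_sum]
    refine Finset.sum_congr rfl fun k _ => ?_
    rw [app_comp, app_comp, app_comp, FactorOne.mulEnd_app E j.1, hres]
  · have hres : ∀ a : Γ(X, ⊤), X.presheaf.map (homOfLE (le_top : (⊤ : X.Opens) ≤ ⊤)).op a = a := fun a => by
      rw [show (homOfLE (le_top : (⊤ : X.Opens) ≤ ⊤)).op = 𝟙 _ from rfl, X.presheaf.map_id]
      rfl
    have key : FactorOne.mulEnd (Formal.modPow I n E) (j.1 ^ (N j + 1)) =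
        ∑ k, mapPow I (φ j k) n ≫ mapPow I (ψ j k ≫ FactorOne.mulEnd E (c j) ≫ FactorOne.mulEnd E j.1) n := by
      refine (cancel_epi (cokernel.π (Formal.smulFamily (I ^ n) E))).1 ?_
      show Formal.modPowπ I n E ≫ _ = Formal.modPowπ I n E ≫ _
      rw [Preadditive.comp_sum]
      simp only [← Category.assoc, π_mapPow]
      simp only [Category.assoc, π_mapPow]
      simp only [← Category.assoc]
      rw [← Preadditive.sum_comp]
      refine Scheme.Modules.hom_ext _ _ fun V => AddCommGrpCat.hom_ext (AddMonoidHom.ext fun s => ?_)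
      show (FactorOne.mulEnd (Formal.modPow I n E) _).app V ((Formal.modPowπ I n E).app V s) =
        (Formal.modPowπ I n E).app V ((∑ k, ((φ j k ≫ ψ j k) ≫ FactorOne.mulEnd E (c j)) ≫ FactorOne.mulEnd E j.1).app V s)
      rw [← Preadditive.sum_comp, ← Preadditive.sum_comp, ← hf j, app_comp, FactorOne.mulEnd_app,
        FactorOne.mulEnd_app, FactorOne.mulEnd_app, smul_smul, ← map_mul, ← pow_succ']
      exact (Scheme.Modules.Hom.app_smul _ _ _).symm
    have e1 := congr($(key).app ⊤ y)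
    rw [FactorOne.mulEnd_app, hres, FactorOne.app_sum] at e1
    exact e1

end Groth.Agent.QAFormal
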