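import Groth.Agent.FormalSysLib.Tricky
import Groth.Agent.ClSubLib.ProperOver
import Groth.Agent.ClSubLib.Annihilator
import Groth.Agent.PullbackMod.SuppClosed
import Groth.Agent.DevLib.Closed
import Groth.Agent.DevLib.Power

/-!
# Formal modules on a closed subscheme
-/

set_option autoImplicit false
set_option linter.unusedSectionVars false
set_option linter.style.haveILetI false

universe u

open CategoryTheory CategoryTheory.Limits AlgebraicGeometry TopologicalSpace Opposite
open Groth.Agent.CohBase Groth.Agent.ProjCoh Groth.Agent.QCohLib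

noncomputable section

namespace Groth.Agent.FormalSys

/-- Direct images are supported on the image of the support. -/
theorem support_push_subset {X X' : Scheme.{u}} (π : X' ⟶ X) {N : X'.Modules} {C : Set X} (hC : IsClosed C)
    (h : ∀ x' ∈ CohB1.support N, π x' ∈ C) :
    CohB1.support ((Scheme.Modules.pushforward π).obj N) ⊆ C := fun y hy => by
  by_contra hyC
  refine hy (subsingleton_of_forall_eq 0 fun z => ?_)
  obtain ⟨U, hyU, s, rfl⟩ := TopCat.Presheaf.exists_germ_eq ((Scheme.Modules.pushforward π).obj N).presheaf z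
  let V : X.Opens := U ⊓ ⟨Cᶜ, hC.isOpen_compl⟩
  rw [← TopCat.Presheaf.germ_res_apply ((Scheme.Modules.pushforward π).obj N).presheaf
    (homOfLE (inf_le_left : V ≤ U)) y ⟨hyU, hyC⟩ s]
  refine (congrArg _ ?_).trans (map_zero _)
  refine DevLib.eq_zero_of_forall_germ (M := N) (V := π ⁻¹ᵁ V) _ fun x' hx' => ?_
  exact @Subsingleton.elim _ (not_not.1 fun hs => hx'.2 (h x' hs)) _ _

/-- Direct images along closed immersions are killed by the ideal. -/
theorem killed_pushforward_closed {X Z : Scheme.{u}} (i : Z ⟶ X) [IsClosedImmersion i] (M : Z.Modules) :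
    ClSub.KilledByIdeal i.ker ((Scheme.Modules.pushforward i).obj M) := fun U a ha s => by
  have h : i.app U.1 a = 0 := by
    rw [Scheme.Hom.ker_apply] at ha
    exact ha
  show i.app U.1 a • (show Γ(M, i ⁻¹ᵁ U.1) from s) = 0
  rw [h, zero_smul]

variable {A : Type u} [CommRing A] {X : Scheme.{u}} [X.Over (Spec (CommRingCat.of A))]

variable (A) in
/-- The modules with support proper over the base. -/
def PropSupp (M : X.Modules) : Prop :=
  ClSub.IsProperOver (X ↘ Spec (CommRingCat.of A)) (CohB1.support M)

/-- Modules with proper support form a class. -/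
theorem cohClass_propSupp [IsLocallyNoetherian X] [LocallyOfFiniteType (X ↘ Spec (CommRingCat.of A))] :
    CohClass (fun M : X.Modules => PropSupp A M) where
  quot e _ _ hN h := ClSubLib.isProperOver_subset _ h (PullbackMod.isClosed_support_of_isFT hN.2) fun x hx hsub =>
    hx (by
      haveI := hsub
      exact ((PullbackMod.epi_iff_stalk e).1 inferInstance x).subsingleton)
  sub e _ hM _ h := ClSubLib.isProperOver_subset _ h (PullbackMod.isClosed_support_of_isFT hM.2) fun x hx hsub =>
    hx (by
      haveI := hsub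
      exact ((PullbackMod.mono_iff_stalk e).1 inferInstance x).subsingleton)
  sum hM hN hPM hPN := ClSubLib.isProperOver_subset _ (ClSubLib.isProperOver_union _ hPM hPN)
    (PullbackMod.isClosed_support_of_isFT (isCoh_biprod hM hN).2) DevLib.support_biprod_subset

variable {Z : Scheme.{u}} [Z.Over (Spec (CommRingCat.of A))] [AlgebraicGeometry.IsNoetherian X]
  [AlgebraicGeometry.IsNoetherian Z] (i : Z ⟶ X)

/-- Completion commutes with closed immersions. -/
theorem exists_completion_push_iso [IsNoetherianRing A] [IsClosedImmersion i]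
    (w : i ≫ (X ↘ Spec (CommRingCat.of A)) = Z ↘ Spec (CommRingCat.of A)) (I : Ideal A) {M : Z.Modules}
    (hM : Coh.IsCoh M) :
    Nonempty (Formal.completion I ((Scheme.Modules.pushforward i).obj M) ≅
      Formal.completion I M ⋙ Scheme.Modules.pushforward i) := by
  haveI := fun n => FormalLib.isIso_pushModPow i w I (n + 1) M hM.1
  refine ⟨NatIso.ofComponents (fun n => @asIso _ _ _ _ (FormalLib.pushModPow i w I (n.unop + 1) M) (this n.unop)) fun {a b} f => ?_⟩
  obtain ⟨k, rfl⟩ : ∃ k, a = op k := ⟨a.unop, rfl⟩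
  obtain ⟨n, rfl⟩ : ∃ n, b = op n := ⟨b.unop, rfl⟩
  have hle : n ≤ k := leOfHom f.unop
  obtain rfl : f = (homOfLE hle).op := Subsingleton.elim _ _
  haveI := epi_cπ (I := I) (DevLib.isCoh_pushforward_closed i hM) k
  refine (cancel_epi (cπ I ((Scheme.Modules.pushforward i).obj M) k)).1 ?_
  refine (Category.assoc _ _ _).symm.trans ((congrArg (· ≫ _) (cπ_tr _ hle)).trans ?_)
  refine (FormalLib.π_pushModPow i w I (n + 1) M).trans ?_
  refine Eq.trans ?_ (Category.assoc _ _ _)
  refine Eq.trans ?_ (congrArg (· ≫ _) (FormalLib.π_pushModPow i w I (k + 1) M).symm)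
  refine Eq.trans ?_ ((Scheme.Modules.pushforward i).map_comp _ _)
  exact congrArg (Scheme.Modules.pushforward i).map (cπ_tr M hle).symm

/-- Existence on a closed subscheme gives existence for modules killed by its ideal. -/
theorem exists_of_killed_closed [IsNoetherianRing A] [IsClosedImmersion i]
    [LocallyOfFiniteType (X ↘ Spec (CommRingCat.of A))]
    (w : i ≫ (X ↘ Spec (CommRingCat.of A)) = Z ↘ Spec (CommRingCat.of A)) {I : Ideal A}
    (hZ : ∀ G : ℕᵒᵖ ⥤ Z.Modules, Formal.IsCohFormal I G → PropSupp A (G.obj (op 0)) →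
      ∃ M : Z.Modules, Coh.IsCoh M ∧ PropSupp A M ∧ Nonempty (Formal.completion I M ≅ G))
    (K : X.IdealSheafData) (hK : i.ker = K) : ESP I (fun M : X.Modules => PropSupp A M) K := by
  intro G hG hGK hGs
  subst hK
  haveI : LocallyOfFiniteType (Z ↘ Spec (CommRingCat.of A)) := by rw [← w]; infer_instance
  haveI : ∀ n, Coh.IsQCoh (G.obj (op n)) := fun n => (hG.1 n).1
  let G' := G ⋙ Scheme.Modules.pullback i
  have hG' : Formal.IsCohFormal I G' := isCohFormal_pullback i w hG
  have hG's : PropSupp A (G'.obj (op 0)) :=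
    ClSubLib.isProperOver_subset _ (ClSubLib.isProperOver_preimage _ _ i w hGs)
      (PullbackMod.isClosed_support_of_isFT (hG'.1 0).2) (ClSubLib.support_pullback_subset i _)
  obtain ⟨M, hM, hMs, ⟨θ⟩⟩ := hZ G' hG' hG's
  have hM' : Coh.IsCoh ((Scheme.Modules.pushforward i).obj M) := DevLib.isCoh_pushforward_closed i hM
  have himg := ClSubLib.isProperOver_image _ _ i w hMs (Or.inl inferInstance)
  refine ⟨(Scheme.Modules.pushforward i).obj M, hM', killed_pushforward_closed i M,
    ClSubLib.isProperOver_subset _ himg (PullbackMod.isClosed_support_of_isFT hM'.2)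
      (support_push_subset i himg.1 fun x' hx' => ⟨x', hx', rfl⟩), ?_⟩
  obtain ⟨e⟩ := exists_completion_push_iso i w I hM
  haveI := fun n : ℕᵒᵖ => DCohLib.isIso_unit_of_suppOn i (ClSubLib.suppOn_of_killed i (G.obj n) (hGK n.unop))
  let u : G ⟶ G' ⋙ Scheme.Modules.pushforward i :=
    { app := fun n => (Scheme.Modules.pullbackPushforwardAdjunction i).unit.app (G.obj n)
      naturality := fun _ _ f => (Scheme.Modules.pullbackPushforwardAdjunction i).unit.naturality (G.map f) }
  haveI : ∀ n, IsIso (u.app n) := fun n => this n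
  haveI := NatIso.isIso_of_isIso_app u
  exact ⟨e ≪≫ Functor.isoWhiskerRight θ (Scheme.Modules.pushforward i) ≪≫ (asIso u).symm⟩

end Groth.Agent.FormalSys
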