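import Groth.Agent.FormalSysLib.Extend
import Groth.Agent.FormalSysLib.Transfer
import Groth.Agent.FormalSysLib.ProjCase
import Groth.Agent.AmpleEmb.RelAmple
import Groth.Agent.AmpleEmb.Compose
import Groth.Agent.AmpleEmb.TwistOne
import Groth.Agent.AmpleLib.Pullback

/-!
# Existence for quasi-projective schemes and proper support
-/

set_option autoImplicit false
set_option linter.unusedSectionVars false
set_option linter.style.haveILetI false

universe u

open CategoryTheory CategoryTheory.Limits AlgebraicGeometry TopologicalSpace Opposite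
open Groth.Agent.CohBase Groth.Agent.ProjCoh Groth.Agent.QCohLib

noncomputable section

namespace Groth.Agent.FormalSys

variable {A : Type u} [CommRing A] {X : Scheme.{u}} [X.Over (Spec (CommRingCat.of A))] {I : Ideal A}

/-- Over the zero locus of the ideal the ideal lands in the maximal ideal of the stalk. -/
theorem germ_mem_maximalIdeal {x : X} (hx : I ≤ ((X ↘ Spec (CommRingCat.of A)) x).asIdeal) {U : X.Opens}
    (hxU : x ∈ U) {b : Γ(X, U)} (hb : b ∈ JU I U) :
    X.presheaf.germ U x hxU b ∈ IsLocalRing.maximalIdeal (X.presheaf.stalk x) := by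
  induction hb using Submodule.span_induction with
  | mem b hb =>
    obtain ⟨a, ha, rfl⟩ := hb
    rw [IsLocalRing.mem_maximalIdeal, mem_nonunits_iff]
    intro hu
    rw [show φV (FormalLib.cst A X) U a = X.presheaf.map (homOfLE (le_top : U ≤ ⊤)).op
      (FormalLib.cst A X a) from rfl, TopCat.Presheaf.germ_res_apply] at hu
    have h1 : x ∈ X.basicOpen ((X ↘ Spec (CommRingCat.of A)).appTop
        ((Scheme.ΓSpecIso (CommRingCat.of A)).inv a)) := (X.mem_basicOpen (U := ⊤) _ x trivial).2 hu
    rw [← Scheme.preimage_basicOpen_top, basicOpen_eq_of_affine', ← CategoryTheory.ConcreteCategory.comp_apply,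
      Iso.inv_hom_id] at h1
    exact h1 (hx ha)
  | zero => rw [map_zero]; exact zero_mem _
  | add b c _ _ hb hc => rw [map_add]; exact add_mem hb hc
  | smul r b _ hb => rw [smul_eq_mul, map_mul]; exact Ideal.mul_mem_left _ _ hb

/-- By Nakayama, a point of the support over the zero locus is in the support of the reduction. -/
theorem mem_support_reduction [AlgebraicGeometry.IsNoetherian X] {M : X.Modules} (hM : Coh.IsCoh M) {x : X}
    (hxM : x ∈ CohB1.support M) (hx : I ≤ ((X ↘ Spec (CommRingCat.of A)) x).asIdeal) :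
    x ∈ CohB1.support ((Formal.completion I M).obj (op 0)) := by
  classical
  intro hsub
  haveI : Subsingleton (((Formal.completion I M).obj (op 0)).presheaf.stalk x) := hsub
  obtain ⟨_, ⟨U, hU, rfl⟩, hxU, -⟩ :=
    X.isBasis_affineOpens.exists_subset_of_mem_open (a := x) (Set.mem_univ x) isOpen_univ
  haveI := hM.1
  haveI := finite_sections_of_isCoh hM hU
  obtain ⟨r, gen, hgen⟩ := Module.Finite.exists_fin (R := Γ(X, U)) (M := Γ(M, U))
  let S := X.presheaf.stalk x
  let g : Γ(M, U) → M.presheaf.stalk x := fun σ => M.presheaf.germ U x hxU σ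
  let 𝔪 : Ideal S := IsLocalRing.maximalIdeal S
  have hspan : Submodule.span S (g '' Set.range gen) = ⊤ :=
    AmpleEmb.span_germ_eq_top M hU hxU (S := Set.range gen) hgen
  have hmem : ∀ y ∈ JU I U • (⊤ : Submodule Γ(X, U) Γ(M, U)), g y ∈ 𝔪 • (⊤ : Submodule S (M.presheaf.stalk x)) := by
    intro y hy
    refine Submodule.smul_induction_on hy (fun b hb w _ => ?_) (fun a b ha hb => ?_)
    · show M.presheaf.germ U x hxU (b • w) ∈ _
      rw [ParaFLib.germ_smul']
      exact Submodule.smul_mem_smul (germ_mem_maximalIdeal hx hxU hb) trivial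
    · show M.presheaf.germ U x hxU (a + b) ∈ _
      rw [map_add]
      exact add_mem ha hb
  have hle : ∀ σ, g σ ∈ 𝔪 • (⊤ : Submodule S (M.presheaf.stalk x)) := fun σ => by
    let N := (Formal.completion I M).obj (op 0)
    haveI : Coh.IsQCoh N := ((isCohFormal_completion hM I).1 0).1
    obtain ⟨W, hW, i₁, i₂, hres⟩ := TopCat.Presheaf.germ_eq N.presheaf x hxU hxU ((cπ I M 0).app U σ) 0
      (Subsingleton.elim (α := N.presheaf.stalk x) _ _)
    obtain ⟨f, hfW, hxf⟩ := hU.exists_basicOpen_le (V := W) ⟨x, hW⟩ hxU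
    have h0 : N.presheaf.map (homOfLE (X.basicOpen_le f)).op ((cπ I M 0).app U σ) = 0 := by
      rw [← restr_trans _ i₁.le hfW]
      rw [map_zero] at hres
      exact (congrArg _ hres).trans (map_zero _)
    obtain ⟨m, hm⟩ := (locAt N hU).kill f _ h0
    rw [sc_apply] at hm
    simp only [homOfLE_refl, op_id, CategoryTheory.Functor.map_id, CommRingCat.id_apply] at hm
    rw [← Scheme.Modules.Hom.app_smul, cπ_app_mem hM 0 hU, zero_add, pow_one] at hm
    have h1 : X.presheaf.germ U x hxU (f ^ m) • g σ ∈ 𝔪 • (⊤ : Submodule S (M.presheaf.stalk x)) := by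
      rw [← ParaFLib.germ_smul']
      exact hmem _ hm
    have hu : IsUnit (X.presheaf.germ U x hxU (f ^ m)) := by
      rw [map_pow]
      exact ((X.mem_basicOpen f x hxU).1 hxf).pow m
    exact (Submodule.smul_mem_iff_of_isUnit _ hu).1 h1
  have htop : (⊤ : Submodule S (M.presheaf.stalk x)) ≤ 𝔪 • ⊤ := hspan.ge.trans (Submodule.span_le.2 (by
    rintro _ ⟨σ, -, rfl⟩
    exact hle σ))
  have hfg : (⊤ : Submodule S (M.presheaf.stalk x)).FG :=
    Submodule.fg_def.2 ⟨g '' Set.range gen, (Set.finite_range gen).image g, hspan⟩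
  have hbot := Submodule.eq_bot_of_le_smul_of_le_jacobson_bot 𝔪 ⊤ hfg htop
    (IsLocalRing.jacobson_eq_maximalIdeal ⊥ bot_ne_top).ge
  exact hxM (subsingleton_of_forall_eq 0 fun z => (Submodule.eq_bot_iff _).1 hbot z trivial)

variable [IsNoetherianRing A] [IsAdicComplete I A]

/-- Existence on a scheme with an open immersion into one that is proper with an ample module. -/
theorem exists_of_open_in_ample {P : Scheme.{u}} [P.Over (Spec (CommRingCat.of A))]
    [IsProper (P ↘ Spec (CommRingCat.of A))] [AlgebraicGeometry.IsNoetherian P] [AlgebraicGeometry.IsNoetherian X]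
    [LocallyOfFiniteType (X ↘ Spec (CommRingCat.of A))]
    (j : X ⟶ P) [IsOpenImmersion j] (hj : j ≫ (P ↘ Spec (CommRingCat.of A)) = X ↘ Spec (CommRingCat.of A))
    {L : P.Modules} (hL : CohB1.IsAmple L) {G : ℕᵒᵖ ⥤ X.Modules} (hG : Formal.IsCohFormal I G)
    (hGs : PropSupp A (G.obj (op 0))) :
    ∃ M : X.Modules, Coh.IsCoh M ∧ PropSupp A M ∧ Nonempty (Formal.completion I M ≅ G) := by
  let s := P ↘ Spec (CommRingCat.of A)
  have hT := ClSubLib.isProperOver_image _ _ j hj hGs (Or.inr inferInstance)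
  obtain ⟨N, hN, ⟨θ⟩⟩ := exists_algebraization_of_ample hL (isCohFormal_pushforward_open j hj hG hT.1)
  -- the support misses the boundary
  have hsub : CohB1.support N ⊆ Set.range j := by
    have hcl : IsClosed (CohB1.support N ∩ (Set.range j)ᶜ) :=
      (PullbackMod.isClosed_support_of_isFT hN.2).inter j.isOpenEmbedding.isOpen_range.isClosed_compl
    intro y hy
    by_contra hyj
    obtain ⟨q, ⟨x, ⟨hxN, hxj⟩, rfl⟩, hq⟩ : ∃ q ∈ s '' (CohB1.support N ∩ (Set.range j)ᶜ), IsClosed {q} := by
      have hc : IsClosed (s '' (CohB1.support N ∩ (Set.range j)ᶜ)) := s.isClosedMap _ hcl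
      exact hc.exists_closed_singleton ⟨_, y, ⟨hy, hyj⟩, rfl⟩
    have hmax : ((s x).asIdeal : Ideal A).IsMaximal := (PrimeSpectrum.isClosed_singleton_iff_isMaximal _).1 hq
    have hI : I ≤ ((P ↘ Spec (CommRingCat.of A)) x).asIdeal :=
      (IsAdicComplete.le_jacobson_bot I).trans (sInf_le ⟨bot_le, hmax⟩)
    have h1 := mem_support_reduction hN hxN hI
    haveI : Epi (θ.inv.app (op 0)) := inferInstance
    have h2 := support_subset_of_epi (θ.inv.app (op 0)) h1
    exact hxj (Set.image_subset_range _ _ (support_push_subset j hT.1 (fun x' hx' => ⟨x', hx', rfl⟩) h2))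
  -- restriction
  let M := (Scheme.Modules.pullback j).obj N
  haveI := hN.1
  have hM : Coh.IsCoh M := PullbackMod.isCoh_pullback j N hN
  have hNp : ClSub.IsProperOver s (CohB1.support N) :=
    ClSubLib.isProperOver_subset _ ((ClSubLib.isProperOver_iff s (𝟙 P) (Z := Set.univ) Set.range_id).2
      (by rw [Category.id_comp]; exact inferInstanceAs (IsProper (P ↘ Spec (CommRingCat.of A)))))
      (PullbackMod.isClosed_support_of_isFT hN.2) (Set.subset_univ _)
  obtain ⟨T, i, hi, -, hr, hp⟩ := ClSubLib.exists_model s hNp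
  haveI := hi
  let i' := IsOpenImmersion.lift j i (hr ▸ hsub)
  have hi' : i' ≫ j = i := IsOpenImmersion.lift_fac _ _ _
  haveI : IsClosedImmersion (i' ≫ j) := by rw [hi']; infer_instance
  haveI : IsClosedImmersion i' := IsClosedImmersion.of_comp i' j
  have hr' : Set.range i' = j ⁻¹' CohB1.support N := by
    rw [← hr, ← hi']
    ext z
    refine ⟨?_, ?_⟩
    · rintro ⟨t, rfl⟩; exact ⟨t, rfl⟩
    · rintro ⟨t, ht⟩; exact ⟨t, j.isOpenEmbedding.injective ht⟩
  have hMs : PropSupp A M := by
    refine ClSubLib.isProperOver_subset _ ((ClSubLib.isProperOver_iff _ i' hr').2 ?_)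
      (PullbackMod.isClosed_support_of_isFT hM.2) (ClSubLib.support_pullback_subset j N)
    rw [← hj, ← Category.assoc, hi']
    exact hp
  obtain ⟨e⟩ := exists_pullback_completion_iso (I := I) j hj hN
  let adj := Scheme.Modules.pullbackPushforwardAdjunction j
  exact ⟨M, hM, hMs, ⟨e ≪≫ Functor.isoWhiskerRight θ (Scheme.Modules.pullback j) ≪≫
    Functor.isoWhiskerLeft G (asIso adj.counit) ≪≫ G.rightUnitor⟩⟩

/-- Existence on quasi-projective schemes. -/
theorem exists_of_immersion [AlgebraicGeometry.IsNoetherian X] [LocallyOfFiniteType (X ↘ Spec (CommRingCat.of A))]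
    {n : ℕ} (q : X ⟶ CohB1.ProjSpaceOver n (Spec (CommRingCat.of A))) [IsImmersion q]
    (hq : q ≫ CohB1.ProjSpaceOver.toBase n _ = X ↘ Spec (CommRingCat.of A)) {G : ℕᵒᵖ ⥤ X.Modules}
    (hG : Formal.IsCohFormal I G) (hGs : PropSupp A (G.obj (op 0))) :
    ∃ M : X.Modules, Coh.IsCoh M ∧ PropSupp A M ∧ Nonempty (Formal.completion I M ≅ G) := by
  let S := Spec (CommRingCat.of A)
  let b := q.imageι ≫ CohB1.ProjSpaceOver.toBase n S
  letI : (q.image).Over S := ⟨b⟩
  haveI : IsProper b := inferInstance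
  haveI : IsProper (q.image ↘ S) := ‹IsProper b›
  haveI : IsLocallyNoetherian q.image := LocallyOfFiniteType.isLocallyNoetherian b
  haveI : CompactSpace q.image := QuasiCompact.compactSpace_of_compactSpace b
  haveI : AlgebraicGeometry.IsNoetherian q.image := { }
  haveI : QuasiCompact q := QuasiCompact.of_comp q (CohB1.ProjSpaceOver.toBase n S)
  haveI : IsAffineHom (ProjMap.toInt S n) := ⟨fun U hU => by
    have h := AmpleEmb.isAffineOpen_toInt_inf (n := n) (Y := S) (isAffineOpen_top S) hU
    simpa using h⟩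
  refine exists_of_open_in_ample q.toImage ?_
    (AmpleLib.isAmple_pullback (q.imageι ≫ ProjMap.toInt S n) (AmpleEmb.isAmple_twistOne n (ULift.{u} ℤ))) hG hGs
  show q.toImage ≫ q.imageι ≫ CohB1.ProjSpaceOver.toBase n S = _
  rw [Scheme.Hom.toImage_imageι_assoc, hq]

end Groth.Agent.FormalSys
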