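import Groth.Agent.CechSys.Main
import Mathlib.Algebra.DirectSum.Module

/-!
# The direct sum of a tower of graded Čech systems, over a polynomial ring
-/

set_option autoImplicit false
set_option linter.unusedSectionVars false

universe u

open DirectSum MvPolynomial

noncomputable section

namespace Groth.Agent.FormalSys

open Groth.Agent.CechSys

variable {ι : Type} [DecidableEq ι] {A : Type u} [CommRing A]

/-- A tower of graded systems with commuting shifts. -/
structure Tower (ι : Type) [DecidableEq ι] (A : Type u) [CommRing A] (r : ℕ) where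
  /-- The systems. -/
  N : ℕ → Sys ι A
  /-- The shifts. -/
  f : Fin r → ∀ n S, (N n).M S →ₗ[A] (N (n + 1)).M S
  f_res : ∀ j n {S T : Finset ι} (h : S ⊆ T) m, f j n T ((N n).res h m) = (N (n + 1)).res h (f j n S m)
  f_x : ∀ j n a S m, f j n S ((N n).x a S m) = (N (n + 1)).x a S (f j n S m)
  f_proj : ∀ j n d S m, f j n S ((N n).proj d S m) = (N (n + 1)).proj d S (f j n S m)
  f_comm : ∀ j k n S m, f j (n + 1) S (f k n S m) = f k (n + 1) S (f j n S m)

namespace Tower

variable {r : ℕ} (T : Tower ι A r) [Fintype ι]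

/-- The sum of the tower. -/
def SM (S : Finset ι) : Type u := ⨁ n, (T.N n).M S

instance (S : Finset ι) : AddCommGroup (T.SM S) := inferInstanceAs (AddCommGroup (⨁ n, (T.N n).M S))

instance (S : Finset ι) : Module A (T.SM S) := inferInstanceAs (Module A (⨁ n, (T.N n).M S))

/-- The inclusion of a term. -/
def lofS (S : Finset ι) (n : ℕ) : (T.N n).M S →ₗ[A] T.SM S := DirectSum.lof A ℕ (fun n => (T.N n).M S) n

/-- The projection to a term. -/
def cmp (S : Finset ι) (n : ℕ) : T.SM S →ₗ[A] (T.N n).M S := DirectSum.component A ℕ (fun n => (T.N n).M S) n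

lemma cmp_lofS (S : Finset ι) (n : ℕ) (m : (T.N n).M S) : T.cmp S n (T.lofS S n m) = m :=
  DirectSum.component.lof_self (M := fun n => (T.N n).M S) A n m

lemma cmp_lofS_ne (S : Finset ι) {n k : ℕ} (h : k ≠ n) (m : (T.N k).M S) : T.cmp S n (T.lofS S k m) = 0 := by
  show DirectSum.component A ℕ (fun n => (T.N n).M S) n (DirectSum.lof A ℕ (fun n => (T.N n).M S) k m) = 0
  rw [DirectSum.component.of, dif_neg h]

theorem ext_cmp {S : Finset ι} {m m' : T.SM S} (h : ∀ n, T.cmp S n m = T.cmp S n m') : m = m' :=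
  DirectSum.ext_component A h

theorem induction {S : Finset ι} {P : T.SM S → Prop} (h0 : P 0) (hl : ∀ n m, P (T.lofS S n m))
    (ha : ∀ x y, P x → P y → P (x + y)) (m : T.SM S) : P m :=
  DirectSum.induction_on m h0 hl ha

theorem hom_ext {S : Finset ι} {M : Type*} [AddCommGroup M] [Module A M] {g g' : T.SM S →ₗ[A] M}
    (h : ∀ n m, g (T.lofS S n m) = g' (T.lofS S n m)) : g = g' :=
  LinearMap.ext fun m => T.induction (P := fun m => g m = g' m) (by simp) h (fun x y hx hy => by simp [hx, hy]) m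

theorem finite_support {S : Finset ι} (m : T.SM S) : ∃ s : Finset ℕ, ∀ n ∉ s, T.cmp S n m = 0 := by
  induction m using T.induction with
  | h0 => exact ⟨∅, fun n _ => map_zero _⟩
  | hl k m => exact ⟨{k}, fun n hn => T.cmp_lofS_ne S (fun e => hn (by simp [e])) m⟩
  | ha x y hx hy =>
    obtain ⟨s, hs⟩ := hx
    obtain ⟨t, ht⟩ := hy
    exact ⟨s ∪ t, fun n hn => by
      rw [map_add, hs n (fun h => hn (Finset.mem_union_left _ h)),
        ht n (fun h => hn (Finset.mem_union_right _ h)), add_zero]⟩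

/-- A termwise map. -/
def lmapS {S S' : Finset ι} (g : ∀ n, (T.N n).M S →ₗ[A] (T.N n).M S') : T.SM S →ₗ[A] T.SM S' :=
  DirectSum.toModule A ℕ (T.SM S') fun n => (T.lofS S' n).comp (g n)

lemma lmapS_lofS {S S' : Finset ι} (g : ∀ n, (T.N n).M S →ₗ[A] (T.N n).M S') (n : ℕ) (m : (T.N n).M S) :
    T.lmapS g (T.lofS S n m) = T.lofS S' n (g n m) :=
  DirectSum.toModule_lof A (φ := fun n => (T.lofS S' n).comp (g n)) n m

lemma cmp_lmapS {S S' : Finset ι} (g : ∀ n, (T.N n).M S →ₗ[A] (T.N n).M S') (n : ℕ) (m : T.SM S) :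
    T.cmp S' n (T.lmapS g m) = g n (T.cmp S n m) := by
  induction m using T.induction with
  | h0 => simp
  | hl k m =>
    rw [T.lmapS_lofS]
    rcases eq_or_ne k n with rfl | h
    · rw [T.cmp_lofS, T.cmp_lofS]
    · rw [T.cmp_lofS_ne _ h, T.cmp_lofS_ne _ h, map_zero]
  | ha x y hx hy => simp [hx, hy]

/-- The shift. -/
def sh (j : Fin r) (S : Finset ι) : Module.End A (T.SM S) :=
  DirectSum.toModule A ℕ (T.SM S) fun n => (T.lofS S (n + 1)).comp (T.f j n S)

lemma sh_lofS (j : Fin r) (S : Finset ι) (n : ℕ) (m : (T.N n).M S) :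
    T.sh j S (T.lofS S n m) = T.lofS S (n + 1) (T.f j n S m) :=
  DirectSum.toModule_lof A (φ := fun n => (T.lofS S (n + 1)).comp (T.f j n S)) n m

lemma sh_comm (S : Finset ι) : ∀ a ∈ Set.range fun j => T.sh j S,
    ∀ b ∈ Set.range fun j => T.sh j S, a * b = b * a := by
  rintro _ ⟨i, rfl⟩ _ ⟨j, rfl⟩
  refine T.hom_ext fun n m => ?_
  simp only [Module.End.mul_apply, T.sh_lofS, T.f_comm]

/-- The action of the polynomial ring. -/
def bact (S : Finset ι) : MvPolynomial (Fin r) A →ₐ[A] Module.End A (T.SM S) :=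
  letI := Algebra.adjoinCommRingOfComm A (T.sh_comm S)
  (Algebra.adjoin A (Set.range fun j => T.sh j S)).val.comp
    (MvPolynomial.aeval fun j => ⟨T.sh j S, Algebra.subset_adjoin ⟨j, rfl⟩⟩)

lemma bact_X (S : Finset ι) (j : Fin r) : T.bact S (X j) = T.sh j S := by
  simp [bact]

instance (S : Finset ι) : Module (MvPolynomial (Fin r) A) (T.SM S) :=
  Module.compHom (T.SM S) (T.bact S).toRingHom

lemma poly_smul (S : Finset ι) (b : MvPolynomial (Fin r) A) (m : T.SM S) : b • m = T.bact S b m := rfl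

/-- A map commuting with the shifts is linear over the polynomial ring. -/
def liftB {S S' : Finset ι} (g : T.SM S →ₗ[A] T.SM S')
    (hg : ∀ j m, g (T.sh j S m) = T.sh j S' (g m)) : T.SM S →ₗ[MvPolynomial (Fin r) A] T.SM S' where
  toFun := g
  map_add' := map_add g
  map_smul' b m := by
    rw [RingHom.id_apply, poly_smul, poly_smul]
    induction b using MvPolynomial.induction_on generalizing m with
    | C a =>
      rw [← MvPolynomial.algebraMap_eq, AlgHom.commutes, AlgHom.commutes, Module.algebraMap_end_apply,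
        Module.algebraMap_end_apply, map_smul]
    | add p q hp hq => simp only [map_add, LinearMap.add_apply, hp, hq]
    | mul_X p j hp => rw [map_mul, map_mul, Module.End.mul_apply, Module.End.mul_apply, hp, bact_X, bact_X, hg]

lemma lmapS_sh {S S' : Finset ι} (g : ∀ n, (T.N n).M S →ₗ[A] (T.N n).M S')
    (hg : ∀ j n m, g (n + 1) (T.f j n S m) = T.f j n S' (g n m)) (j : Fin r) (m : T.SM S) :
    T.lmapS g (T.sh j S m) = T.sh j S' (T.lmapS g m) := by
  induction m using T.induction with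
  | h0 => simp
  | hl k m => rw [T.sh_lofS, T.lmapS_lofS, T.lmapS_lofS, T.sh_lofS, hg]
  | ha x y hx hy => simp [hx, hy]

/-- A termwise map, over the polynomial ring. -/
def lmapB {S S' : Finset ι} (g : ∀ n, (T.N n).M S →ₗ[A] (T.N n).M S')
    (hg : ∀ j n m, g (n + 1) (T.f j n S m) = T.f j n S' (g n m)) :
    T.SM S →ₗ[MvPolynomial (Fin r) A] T.SM S' :=
  T.liftB (T.lmapS g) (T.lmapS_sh g hg)

lemma cmp_lmapB {S S' : Finset ι} (g : ∀ n, (T.N n).M S →ₗ[A] (T.N n).M S')
    (hg : ∀ j n m, g (n + 1) (T.f j n S m) = T.f j n S' (g n m)) (n : ℕ) (m : T.SM S) :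
    T.cmp S' n (T.lmapB g hg m) = g n (T.cmp S n m) :=
  T.cmp_lmapS g n m

lemma lmapB_lofS {S S' : Finset ι} (g : ∀ n, (T.N n).M S →ₗ[A] (T.N n).M S')
    (hg : ∀ j n m, g (n + 1) (T.f j n S m) = T.f j n S' (g n m)) (n : ℕ) (m : (T.N n).M S) :
    T.lmapB g hg (T.lofS S n m) = T.lofS S' n (g n m) :=
  T.lmapS_lofS g n m

/-- Restriction in the sum. -/
def resB {S S' : Finset ι} (h : S ⊆ S') : T.SM S →ₗ[MvPolynomial (Fin r) A] T.SM S' :=
  T.lmapB (fun n => (T.N n).res h) fun j n m => (T.f_res j n h m).symm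

/-- A variable in the sum. -/
def xB (a : ι) (S : Finset ι) : Module.End (MvPolynomial (Fin r) A) (T.SM S) :=
  T.lmapB (fun n => (T.N n).x a S) fun j n m => (T.f_x j n a S m).symm

/-- A projection in the sum. -/
def projB (d : ℤ) (S : Finset ι) : Module.End (MvPolynomial (Fin r) A) (T.SM S) :=
  T.lmapB (fun n => (T.N n).proj d S) fun j n m => (T.f_proj j n d S m).symm

lemma cmp_xB_pow (a : ι) (S : Finset ι) (k n : ℕ) (m : T.SM S) :
    T.cmp S n ((T.xB a S ^ k) m) = ((T.N n).x a S ^ k) (T.cmp S n m) := by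
  induction k with
  | zero => simp
  | succ k ih => rw [pow_succ', pow_succ', Module.End.mul_apply, Module.End.mul_apply, xB, T.cmp_lmapB, ← xB, ih]

lemma cmp_eq {d : ℤ} {S : Finset ι} {m : T.SM S} (hm : T.projB d S m = m) (n : ℕ) :
    (T.N n).proj d S (T.cmp S n m) = T.cmp S n m :=
  (T.cmp_lmapB (fun n => (T.N n).proj d S) _ n m).symm.trans (congrArg (T.cmp S n) hm)

/-- The total system. -/
@[reducible] def sys : Sys ι (MvPolynomial (Fin r) A) where
  M := T.SM
  res h := T.resB h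
  res_self h m := T.ext_cmp fun n => by rw [resB, T.cmp_lmapB, (T.N n).res_self]
  res_res h h' m := T.ext_cmp fun n => by simp only [resB, T.cmp_lmapB, (T.N n).res_res]
  x a S := T.xB a S
  x_comm a b S := LinearMap.ext fun m => T.ext_cmp fun n => by
    simp only [Module.End.mul_apply, xB, T.cmp_lmapB]
    exact LinearMap.congr_fun ((T.N n).x_comm a b S) _
  x_res a _ _ hS h m := T.ext_cmp fun n => by
    simp only [resB, xB, T.cmp_lmapB]
    exact (T.N n).x_res a hS h _
  proj d S := T.projB d S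
  proj_proj d S m := T.ext_cmp fun n => by simp only [projB, T.cmp_lmapB, (T.N n).proj_proj]
  proj_orth d e S h m := T.ext_cmp fun n => by
    simp only [projB, T.cmp_lmapB, map_zero]
    exact (T.N n).proj_orth d e S h _
  proj_x d a S m hS := T.ext_cmp fun n => by
    simp only [projB, xB, T.cmp_lmapB]
    exact (T.N n).proj_x d a S _ hS
  proj_res d _ _ hS h m := T.ext_cmp fun n => by
    simp only [projB, resB, T.cmp_lmapB]
    exact (T.N n).proj_res d hS h _
  inj_x i S hi d m hm h := T.ext_cmp fun n => by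
    rw [map_zero]
    refine (T.N n).inj_x i S hi d _ (T.cmp_eq hm n) ?_
    exact (T.cmp_lmapB (fun n => (T.N n).x i S) _ n m).symm.trans ((congrArg (T.cmp S n) h).trans (map_zero _))
  surj_x i S hi d m hm := by
    rw [← hm]
    clear hm
    induction m using T.induction with
    | h0 => exact ⟨0, map_zero _, by rw [map_zero, map_zero]⟩
    | hl n m =>
      obtain ⟨m', hm', hx⟩ := (T.N n).surj_x i S hi d ((T.N n).proj (d + 1) S m) ((T.N n).proj_proj _ _ _)
      exact ⟨T.lofS S n m', by rw [projB, T.lmapB_lofS, hm'],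
        by rw [xB, projB, T.lmapB_lofS, T.lmapB_lofS, hx]⟩
    | ha x y hx hy =>
      obtain ⟨x', hx1, hx2⟩ := hx
      obtain ⟨y', hy1, hy2⟩ := hy
      exact ⟨x' + y', by rw [map_add, hx1, hy1], by rw [map_add, hx2, hy2, map_add]⟩
  loc_inj a S hS d m hm h := by
    choose k hk using fun n => (T.N n).loc_inj a S hS d (T.cmp S n m) (T.cmp_eq hm n)
      ((T.cmp_lmapB (fun n => (T.N n).res (Finset.subset_insert a S)) _ n m).symm.trans
        ((congrArg (T.cmp _ n) h).trans (map_zero _)))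
    obtain ⟨s, hs⟩ := T.finite_support m
    refine ⟨s.sup k, T.ext_cmp fun n => ?_⟩
    rw [T.cmp_xB_pow, map_zero]
    by_cases hn : n ∈ s
    · obtain ⟨c, hc⟩ := Nat.exists_eq_add_of_le (Finset.le_sup (f := k) hn)
      rw [hc, add_comm, pow_add, Module.End.mul_apply, hk, map_zero]
    · rw [hs n hn, map_zero]
  loc_surj a S hS d y hy := by
    rw [← hy]
    clear hy
    induction y using T.induction with
    | h0 => exact ⟨0, 0, map_zero _, by rw [map_zero, map_zero, map_zero]⟩
    | hl n y =>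
      obtain ⟨k, m, hm, he⟩ := (T.N n).loc_surj a S hS d _ ((T.N n).proj_proj d _ y)
      refine ⟨k, T.lofS S n m, by rw [projB, T.lmapB_lofS, hm], ?_⟩
      rw [resB, projB, T.lmapB_lofS, T.lmapB_lofS, he]
      exact (pow_lofS a (insert a S) k n _).symm
    | ha x y hx hy =>
      obtain ⟨k, m, hm, he⟩ := hx
      obtain ⟨l, m', hm', he'⟩ := hy
      refine ⟨l + k, (T.xB a S ^ l) m + (T.xB a S ^ k) m', ?_, ?_⟩
      · rw [map_add]
        refine congrArg₂ (· + ·) ?_ ?_
        · exact proj_pow a S hS d k l _ m hm (by push_cast; ring)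
        · exact proj_pow a S hS d l k _ m' hm' (by push_cast; ring)
      · rw [map_add, res_pow a hS, res_pow a hS, he, he', map_add (T.projB d _), map_add, pow_add,
          Module.End.mul_apply]
        refine congrArg₂ (· + ·) rfl ?_
        rw [← Module.End.mul_apply, ← Module.End.mul_apply, ← pow_add, ← pow_add, add_comm]
        rfl
where
  pow_lofS (a : ι) (S : Finset ι) (k n : ℕ) (m : (T.N n).M S) :
      (T.xB a S ^ k) (T.lofS S n m) = T.lofS S n (((T.N n).x a S ^ k) m) := by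
    induction k with
    | zero => simp
    | succ k ih => rw [pow_succ', pow_succ', Module.End.mul_apply, Module.End.mul_apply, ih, xB, T.lmapB_lofS]
  proj_pow (a : ι) (S : Finset ι) (hS : S.Nonempty) (d : ℤ) (k l : ℕ) (e : ℤ) (m : T.SM S)
      (hm : T.projB (d + k) S m = m) (he : e = d + k + l) :
      T.projB e S ((T.xB a S ^ l) m) = (T.xB a S ^ l) m := by
    subst he
    refine T.ext_cmp fun n => ?_
    rw [projB, T.cmp_lmapB, T.cmp_xB_pow]
    exact (T.N n).mem_Deg.1 ((T.N n).x_pow_mem hS a rfl ((T.N n).mem_Deg.2 (T.cmp_eq hm n)))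
  res_pow (a : ι) {S S' : Finset ι} (hS : S.Nonempty) {h : S ⊆ S'} (k : ℕ) (m : T.SM S) :
      T.resB h ((T.xB a S ^ k) m) = (T.xB a S' ^ k) (T.resB h m) := by
    refine T.ext_cmp fun n => ?_
    rw [resB, T.cmp_lmapB, T.cmp_xB_pow, T.cmp_xB_pow, T.cmp_lmapB, ← (T.N n).pw_nsmul, ← (T.N n).pw_nsmul,
      (T.N n).pw_res hS]

section FG

lemma xB_pow_lofS (a : ι) (S : Finset ι) (k n : ℕ) (m : (T.N n).M S) :
    (T.xB a S ^ k) (T.lofS S n m) = T.lofS S n (((T.N n).x a S ^ k) m) :=
  sys.pow_lofS T a S k n m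

lemma act_map_C (S : Finset ι) (q : MvPolynomial ι A) (m : (T.N 0).M S) :
    T.sys.act S (MvPolynomial.map MvPolynomial.C q) (T.lofS S 0 m) = T.lofS S 0 ((T.N 0).act S q m) := by
  induction q using MvPolynomial.induction_on generalizing m with
  | C a =>
    rw [MvPolynomial.map_C, ← MvPolynomial.algebraMap_eq, AlgHom.commutes, Module.algebraMap_end_apply]
    show T.bact S (MvPolynomial.C a) _ = _
    rw [← MvPolynomial.algebraMap_eq, ← MvPolynomial.algebraMap_eq, AlgHom.commutes, Module.algebraMap_end_apply,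
      AlgHom.commutes, Module.algebraMap_end_apply, map_smul]
  | add p q hp hq => simp only [map_add, LinearMap.add_apply, hp, hq]
  | mul_X p i hp =>
    rw [map_mul, MvPolynomial.map_X, map_mul, map_mul, Sys.act_X, Sys.act_X, Module.End.mul_apply,
      Module.End.mul_apply]
    show T.sys.act S (MvPolynomial.map MvPolynomial.C p) (T.xB i S (T.lofS S 0 m)) = _
    rw [xB, T.lmapB_lofS, hp]

/-- The total system is finitely generated. -/
theorem sys_FG (h0 : (T.N 0).FG)
    (hgen : ∀ (i : ι) (n : ℕ) (d : ℤ), ∀ y ∈ (T.N (n + 1)).Deg d {i},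
      ∃ z : Fin r → (T.N n).M {i}, (∀ j, z j ∈ (T.N n).Deg d {i}) ∧ y = ∑ j, T.f j n {i} (z j)) :
    T.sys.FG := by
  intro i
  obtain ⟨r₀, D, g, hg, hq⟩ := h0 i
  let G : Fin r₀ → T.SM {i} := fun s => T.lofS {i} 0 (g s)
  refine ⟨r₀, D, G, fun s => ?_, fun d y hy => ?_⟩
  · show T.projB (D s) {i} (T.lofS {i} 0 (g s)) = _
    rw [projB, T.lmapB_lofS, (T.N 0).mem_Deg.1 (hg s)]
    rfl
  have hP : ∀ (n : ℕ) (d : ℤ) (y : (T.N n).M {i}), y ∈ (T.N n).Deg d {i} → ∃ (k : ℕ)
      (q : Fin r₀ → MvPolynomial ι (MvPolynomial (Fin r) A)),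
      (T.xB i {i} ^ k) (T.lofS {i} n y) = ∑ s, T.sys.act {i} (q s) (G s) := by
    intro n
    induction n with
    | zero =>
      intro d y hy
      obtain ⟨k, q, hk⟩ := hq d y hy
      refine ⟨k, fun s => MvPolynomial.map MvPolynomial.C (q s), ?_⟩
      rw [T.xB_pow_lofS, hk, map_sum]
      exact Finset.sum_congr rfl fun s _ => (T.act_map_C {i} (q s) (g s)).symm
    | succ n ih =>
      intro d y hy
      obtain ⟨z, hz, rfl⟩ := hgen i n d y hy
      choose k q hk using fun j => ih d (z j) (hz j)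
      let K := Finset.univ.sup k
      refine ⟨K, fun s => ∑ j, MvPolynomial.C (MvPolynomial.X j) * MvPolynomial.X i ^ (K - k j) * q j s, ?_⟩
      rw [map_sum (T.lofS {i} (n + 1)), map_sum]
      simp only [map_sum, LinearMap.sum_apply]
      rw [Finset.sum_comm]
      refine Finset.sum_congr rfl fun j _ => ?_
      simp only [map_mul, map_pow, Module.End.mul_apply]
      rw [← map_sum (T.sys.act {i} (MvPolynomial.C (MvPolynomial.X j))),
        ← map_sum (T.sys.act {i} (MvPolynomial.X i) ^ (K - k j)), ← hk j, Sys.act_X,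
        ← MvPolynomial.algebraMap_eq, AlgHom.commutes, Module.algebraMap_end_apply]
      show _ = (MvPolynomial.X j : MvPolynomial (Fin r) A) • (T.xB i {i} ^ (K - k j)) _
      rw [← Module.End.mul_apply, ← pow_add, Nat.sub_add_cancel (Finset.le_sup (Finset.mem_univ j)),
        poly_smul, bact_X, T.xB_pow_lofS, T.xB_pow_lofS, T.sh_lofS]
      exact congrArg _ (pow_f j n i K _).symm
  have hy' : T.projB d {i} y = y := hy
  rw [← hy']
  clear hy hy'
  induction y using T.induction with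
  | h0 => exact ⟨0, fun _ => 0, by simp⟩
  | hl n y =>
    rw [projB, T.lmapB_lofS]
    exact hP n d _ ((T.N n).proj_mem d _ y)
  | ha x y hx hy =>
    obtain ⟨k, q, hk⟩ := hx
    obtain ⟨l, q', hl⟩ := hy
    refine ⟨l + k, fun s => MvPolynomial.X i ^ l * q s + MvPolynomial.X i ^ k * q' s, ?_⟩
    have e : (T.xB i {i} ^ (l + k)) (T.projB d {i} (x + y)) =
        (T.xB i {i} ^ l) ((T.xB i {i} ^ k) (T.projB d {i} x)) +
          (T.xB i {i} ^ k) ((T.xB i {i} ^ l) (T.projB d {i} y)) := by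
      rw [map_add, map_add, pow_add, Module.End.mul_apply]
      refine congrArg₂ (· + ·) rfl ?_
      rw [← Module.End.mul_apply, ← Module.End.mul_apply, ← pow_add, ← pow_add, add_comm]
      rfl
    refine e.trans ?_
    show (T.sys.x i {i} ^ l) ((T.sys.x i {i} ^ k) (T.sys.proj d {i} x)) +
      (T.sys.x i {i} ^ k) ((T.sys.x i {i} ^ l) (T.sys.proj d {i} y)) = _
    rw [hk, hl, map_sum, map_sum, ← Finset.sum_add_distrib]
    refine Finset.sum_congr rfl fun s _ => ?_
    simp only [map_add, map_mul, map_pow, LinearMap.add_apply, Module.End.mul_apply]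
    rw [Sys.act_X]
where
  pow_f (j : Fin r) (n : ℕ) (a : ι) (k : ℕ) (m : (T.N n).M {a}) :
      T.f j n {a} (((T.N n).x a {a} ^ k) m) = ((T.N (n + 1)).x a {a} ^ k) (T.f j n {a} m) := by
    induction k with
    | zero => simp
    | succ k ih => rw [pow_succ', pow_succ', Module.End.mul_apply, Module.End.mul_apply, T.f_x, ih]

/-- Values of the differential. -/
lemma deg_d_coe {B : Type u} [CommRing B] (N : Sys ι B) {d : ℤ} {p : ℕ} (c : (N.deg d).C p)
    (t : Fin (p + 2) → ι) :
    (((N.deg d).d p c t).1 : N.M (img t)) = ∑ j : Fin (p + 2), (-1 : ℤ) ^ (j : ℕ) •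
      N.res (img_comp_subset t j.succAbove) ((c (t ∘ j.succAbove)).1) := by
  rw [RSys.d_apply, AddSubmonoidClass.coe_finsetSum]
  refine Finset.sum_congr rfl fun j _ => ?_
  rw [AddSubgroupClass.coe_zsmul, N.deg_res_coe (img_nonempty _)]

/-- Vanishing passes to the terms. -/
theorem vanH_term (d : ℤ) (p : ℕ) (h : (T.sys.deg d).VanH (p + 1)) (n : ℕ) : ((T.N n).deg d).VanH (p + 1) := by
  intro c hc
  let c' : (T.sys.deg d).C (p + 1) := fun t => T.sys.degMk (T.lofS (img t) n (c t).1) (by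
    show T.projB d _ _ = _
    rw [projB, T.lmapB_lofS, (T.N n).mem_Deg.1 ((T.N n).deg_mem (img_nonempty t) (c t))]
    rfl)
  have hc' : c' ∈ (T.sys.deg d).Z (p + 1) := RSys.mem_Z _ |>.2 (funext fun t => Subtype.ext (by
    rw [deg_d_coe]
    have h0 := congrArg Subtype.val (congrFun (RSys.mem_Z _ |>.1 hc) t)
    rw [deg_d_coe] at h0
    have h1 := congrArg (T.lofS (img t) n) h0
    rw [map_sum] at h1
    refine Eq.trans (Finset.sum_congr rfl fun j _ => ?_) (h1.trans (map_zero _))
    rw [map_zsmul]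
    exact congrArg (fun z : T.SM (img t) => (-1 : ℤ) ^ (j : ℕ) • z)
      (T.lmapB_lofS (fun n => (T.N n).res (img_comp_subset t j.succAbove)) (fun _ _ _ => (T.f_res ..).symm) n _)))
  obtain ⟨b, hb⟩ := h hc'
  refine ⟨fun t => (T.N n).degMk (T.cmp (img t) n (b t).1) ((T.N n).mem_Deg.2
    (T.cmp_eq (T.sys.deg_mem (img_nonempty t) (b t)) n)), funext fun t => Subtype.ext ?_⟩
  rw [deg_d_coe]
  have h1 := congrArg (T.cmp (img t) n) (congrArg Subtype.val (congrFun hb t))
  rw [deg_d_coe, map_sum] at h1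
  refine Eq.trans (Finset.sum_congr rfl fun j _ => ?_) (h1.trans (T.cmp_lofS _ n _))
  rw [map_zsmul]
  exact congrArg (fun z : (T.N n).M (img t) => (-1 : ℤ) ^ (j : ℕ) • z)
    (T.cmp_lmapB (fun n => (T.N n).res (img_comp_subset t j.succAbove)) (fun _ _ _ => (T.f_res ..).symm) n _).symm

/-- Uniform Serre vanishing for a tower. -/
theorem exists_vanH [IsNoetherianRing A] (h0 : (T.N 0).FG)
    (hgen : ∀ (i : ι) (n : ℕ) (d : ℤ), ∀ y ∈ (T.N (n + 1)).Deg d {i},
      ∃ z : Fin r → (T.N n).M {i}, (∀ j, z j ∈ (T.N n).Deg d {i}) ∧ y = ∑ j, T.f j n {i} (z j))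
    (p : ℕ) : ∃ d₀ : ℤ, ∀ (n : ℕ) (d : ℤ), d₀ ≤ d → ((T.N n).deg d).VanH (p + 1) := by
  obtain ⟨d₀, hd⟩ := T.sys.exists_vanH_of_FG (T.sys_FG h0 hgen) (p + 1) p.succ_pos
  exact ⟨d₀, fun n d h => T.vanH_term d p (hd d h) n⟩

end FG

end Tower

end Groth.Agent.FormalSys
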